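/-
The groups of type twisted F4.
-/
import Cfsg.Agent.Lib.Chev.Twist.Count
import Cfsg.Agent.Lib.Chev.Twist.Frob
import Cfsg.Agent.Lib.Chev.Twist.WordEq
import Cfsg.Agent.Lib.Chev.Twist.SpecialData
import Cfsg.Agent.Lib.Chev.Twist.Dih
import Cfsg.Agent.Lib.Chev.Data.FoldCheckF42
import Cfsg.Prelude.Def_LieTwisted

set_option autoImplicit false
set_option maxRecDepth 100000
set_option linter.unusedSimpArgs false

namespace CfsgLib.Chev.F42

open Cfsg.Lie Matrix CfsgLib.Chev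
open scoped commutatorElement

theorem braid : braidCheck chevF4 auxF4 foldF42 = true := by decide +kernel
theorem extra : foldExtra chevF4 auxF4 foldF42 = true := by decide +kernel
theorem cox : orbCox chevF4 auxF4 foldF42 (fun i j => CoxeterMatrix.I 6 i j) = true := by
  decide +kernel
theorem top : ∃ e ∈ ftabF42, e.cnt = chevF4.posRoots.length := by
  have : (ftabF42.any fun e => decide (e.cnt = 24)) = true := by decide +kernel
  obtain ⟨e, he, hc⟩ := List.any_eq_true.1 this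
  exact ⟨e, he, by rw [length_posRoots stdF4.good]; exact of_decide_eq_true hc⟩
theorem isoFold : IsoFold chevF4 auxF4 foldF42 isoF4 := by
  constructor <;> decide +kernel
theorem poly : fixPoly 2 ftabF42 =
    ([[1, 0, 0, 1], [1, 1], [1, 0, 1], pAdd (pMono 0) (pMono 6)] :
      List (List ℕ)).foldr pMul [1] := by
  decide +kernel

variable {K : Type*} [Field K] [CharP K 2] {e : ℕ} {σ : K →+* K}

/-- the folded endomorphism -/
noncomputable def tw (σ : K →+* K) : Twist K stdF4 foldF42 :=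
  haveI : CharP K isoF4.p := ‹CharP K 2›
  Twist.ofIso stdF4 foldF42_valid braid conn_F4 isoF4_valid isoFold σ

lemma phi_eq {r l : ℕ} (he : isoF4.l r = l) (t : K) : (tw σ).phi r t = σ t ^ l := by
  subst he; rfl

lemma psi_eq {i : ℕ} (hi : i < chevF4.rank) (t : K) :
    (tw σ).psi i t = σ t ^ isoF4.l (chevF4.simple i) :=
  ((tw σ).phi_simple i hi t).1.symm

omit [CharP K 2] in
lemma cast_sgn {z : ℤ} (hz : z = 1 ∨ z = -1) [CharP K 2] : (z : K) = 1 := by
  rcases hz with rfl | rfl <;> simp [CharTwo.neg_eq]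

/-- the root element with the standard tables -/
noncomputable abbrev xx (r : ℕ) (t : K) : GL chevF4.Idx K := xG stdF4.good r t

lemma swap27 (t u : K) :
    xx 25 u * xx 27 t = xx 27 t * (xx 25 u * (xx 28 (t * u) * xx 30 (t ^ 2 * u))) := by
  have := xG_swap stdF4 (r := 27) (s := 25) (by decide +kernel) (by decide +kernel) (by decide)
    (by decide +kernel) t u
  rw [show auxF4.terms 27 25 = [(28, -1, 1, 1), (30, -1, 2, 1)] by decide +kernel] at this
  simp only [List.map_cons, List.map_nil, List.prod_cons, List.prod_nil, mul_one, pow_one,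
    Int.cast_neg, Int.cast_one, CharTwo.neg_eq, one_mul] at this
  rw [xx, xx, this, mul_assoc]

lemma comm2827 (t u : K) : Commute (xx 28 u) (xx 27 t) := by
  have := xG_swap stdF4 (r := 27) (s := 28) (by decide +kernel) (by decide +kernel) (by decide)
    (by decide +kernel) t u
  rw [show auxF4.terms 27 28 = [(30, 2, 1, 1)] by decide +kernel] at this
  simp only [List.map_cons, List.map_nil, List.prod_cons, List.prod_nil, mul_one, pow_one,
    Int.cast_ofNat, CharTwo.two_eq_zero, zero_mul, xG_zero] at this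
  exact this

lemma commP {r s : ℕ} (h : commPair chevF4 auxF4 r s = true) (t u : K) :
    Commute (xx r t) (xx s u) := commute_xG stdF4 h t u

lemma m2527 (t u : K) (z : GL chevF4.Idx K) :
    xx 25 u * (xx 27 t * z) =
      xx 27 t * (xx 25 u * (xx 28 (t * u) * (xx 30 (t ^ 2 * u) * z))) := by
  rw [← mul_assoc, swap27, mul_assoc, mul_assoc, mul_assoc]

lemma m2827 (t u : K) (z : GL chevF4.Idx K) : xx 28 u * (xx 27 t * z) = xx 27 t * (xx 28 u * z) :=
  (comm2827 t u).left_comm z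

lemma m3027 (t u : K) (z : GL chevF4.Idx K) : xx 30 u * (xx 27 t * z) = xx 27 t * (xx 30 u * z) :=
  (commP (by decide +kernel) u t).left_comm z

lemma m2825 (t u : K) (z : GL chevF4.Idx K) : xx 28 u * (xx 25 t * z) = xx 25 t * (xx 28 u * z) :=
  (commP (by decide +kernel) u t).left_comm z

lemma m3025 (t u : K) (z : GL chevF4.Idx K) : xx 30 u * (xx 25 t * z) = xx 25 t * (xx 30 u * z) :=
  (commP (by decide +kernel) u t).left_comm z

lemma m3028 (t u : K) (z : GL chevF4.Idx K) : xx 30 u * (xx 28 t * z) = xx 28 t * (xx 30 u * z) :=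
  (commP (by decide +kernel) u t).left_comm z

lemma madd (r : ℕ) (t u : K) (z : GL chevF4.Idx K) : xx r t * (xx r u * z) = xx r (t + u) * z := by
  rw [← mul_assoc, xx, xG_add]

/-- the general element of the orbit group of type B2 -/
noncomputable def W (q : K × K × K × K) : GL chevF4.Idx K :=
  xx 27 q.1 * xx 25 q.2.1 * xx 28 q.2.2.1 * xx 30 q.2.2.2

lemma W_mul (a b c d a' b' c' d' : K) :
    W (a, b, c, d) * W (a', b', c', d') =
      W (a + a', b + b', c + c' + a' * b, d + d' + a' ^ 2 * b) := by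
  rw [← mul_one (W _ * W _), ← mul_one (W (a + a', _))]
  simp only [W, mul_assoc, m2527, m2827, m3027, m2825, m3025, m3028, madd]
  ring_nf

lemma W_pw (a b c d : K) :
    xx 25 b * xx 27 a * xx 28 c * xx 30 d = W (a, b, c + a * b, d + a ^ 2 * b) := by
  rw [← mul_one (_ * xx 30 d), ← mul_one (W _)]
  simp only [W, mul_assoc, m2527, m2827, m3027, m2825, m3025, m3028, madd]
  ring_nf

lemma cancel2 (x y : K) : x + y + y = x := by
  rw [add_assoc, CharTwo.add_self_eq_zero, add_zero]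

/-- coordinates in increasing order -/
def coord (q : K × K × K × K) (r : ℕ) : K :=
  if r = 25 then q.2.1 else if r = 27 then q.1
  else if r = 28 then q.2.2.1 + q.1 * q.2.1 else q.2.2.2 + q.1 ^ 2 * q.2.1

lemma W_eq_pw (q : K × K × K × K) : W q = pw stdF4.good [25, 27, 28, 30] (coord q) := by
  obtain ⟨a, b, c, d⟩ := q
  have := W_pw a b (c + a * b) (d + a ^ 2 * b)
  rw [cancel2, cancel2] at this
  rw [← this]
  simp [pw, coord, xx, mul_assoc]

lemma W_inj : Function.Injective (W : K × K × K × K → GL chevF4.Idx K) := by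
  intro p q e
  rw [W_eq_pw, W_eq_pw] at e
  have h := pw_filter_inj stdF4 (by decide +kernel) e
  obtain ⟨a, b, c, d⟩ := p
  obtain ⟨a', b', c', d'⟩ := q
  have h1 : b = b' := h 25 (by simp)
  have h2 : a = a' := h 27 (by simp)
  have h3 : c + a * b = c' + a' * b' := h 28 (by simp)
  have h4 : d + a ^ 2 * b = d' + a' ^ 2 * b' := h 30 (by simp)
  subst h1 h2
  rw [add_left_inj] at h3 h4
  rw [h3, h4]

/-- the action on the parameters -/
def Phi (σ : K →+* K) (q : K × K × K × K) : K × K × K × K :=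
  (σ q.2.1, σ q.1 ^ 2, σ q.2.1 * σ q.1 ^ 2 + σ q.2.2.2,
    σ q.2.1 ^ 2 * σ q.1 ^ 2 + σ q.2.2.1 ^ 2)

lemma W_maps (q : K × K × K × K) : (tw σ).Maps (W q) (W (Phi σ q)) := by
  obtain ⟨a, b, c, d⟩ := q
  have := Twist.Maps.mul _ (Twist.Maps.mul _ (Twist.Maps.mul _
    ((tw σ).maps_xG (show 27 < chevF4.nroots by decide +kernel) a)
    ((tw σ).maps_xG (show 25 < chevF4.nroots by decide +kernel) b))
    ((tw σ).maps_xG (show 28 < chevF4.nroots by decide +kernel) c))
    ((tw σ).maps_xG (show 30 < chevF4.nroots by decide +kernel) d)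
  rw [show foldF42.r 27 = 25 by decide +kernel, show foldF42.r 25 = 27 by decide +kernel,
    show foldF42.r 28 = 30 by decide +kernel, show foldF42.r 30 = 28 by decide +kernel,
    phi_eq (show isoF4.l 27 = 2 by decide +kernel), phi_eq (show isoF4.l 25 = 1 by decide +kernel),
    phi_eq (show isoF4.l 28 = 2 by decide +kernel), phi_eq (show isoF4.l 30 = 1 by decide +kernel),
    pow_one, pow_one] at this
  refine Eq.mp (congrArg _ ?_) this
  show xx 25 (σ a ^ 2) * xx 27 (σ b) * xx 30 (σ c ^ 2) * xx 28 (σ d) = _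
  rw [← mul_one (_ * xx 28 (σ d)), ← mul_one (W _)]
  simp only [W, Phi, mul_assoc, m2527, m2827, m3027, m2825, m3025, m3028, madd]

/-- the inverse relation of the twisting -/
def Inv2 (σ : K →+* K) : Prop := ∀ x, σ (σ x) ^ 2 = x

/-- the fixed element with parameters `t`, `u` -/
def quad (σ : K →+* K) (t u : K) : K × K × K × K := (σ t, t, σ t * t + u, σ u ^ 2)

lemma phi_quad (hi : Inv2 σ) (t u : K) : Phi σ (quad σ t u) = quad σ t u := by
  have h2 : (2 : K) = 0 := CharTwo.two_eq_zero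
  have e1 := hi t
  have e2 := hi u
  refine Prod.ext rfl (Prod.ext e1 (Prod.ext ?_ ?_))
  · show σ t * σ (σ t) ^ 2 + σ (σ u ^ 2) = σ t * t + u
    rw [map_pow, e1, e2]
  · show σ t ^ 2 * σ (σ t) ^ 2 + σ (σ t * t + u) ^ 2 = σ u ^ 2
    rw [map_add, map_mul, e1]
    linear_combination (σ t ^ 2) * e1 + (σ t ^ 2 * t + σ (σ t) * σ t * σ u) * h2

lemma quad_of_fixed (hi : Inv2 σ) {q : K × K × K × K} (hq : Phi σ q = q) :
    q = quad σ q.2.1 (σ q.2.2.2) := by
  obtain ⟨a, b, c, d⟩ := q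
  simp only [Phi, Prod.mk.injEq] at hq
  obtain ⟨h1, h2, h3, -⟩ := hq
  refine Prod.ext h1.symm (Prod.ext rfl (Prod.ext ?_ (hi d).symm))
  show c = σ b * b + σ d
  rw [← h3, h2]

lemma W_quad_fix (hi : Inv2 σ) (t u : K) : W (quad σ t u) ∈ (tw σ).fix := by
  have := W_maps (σ := σ) (quad σ t u)
  rw [phi_quad hi] at this
  exact this

lemma exists_quad (hi : Inv2 σ) {q : K × K × K × K} (hq : W q ∈ (tw σ).fix) :
    ∃ u, q = quad σ q.2.1 u :=
  ⟨_, quad_of_fixed hi (W_inj (Twist.Maps.fun_eq _ (W_maps q) hq))⟩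

lemma pair_fix (hi : Inv2 σ) (t : K) : xx 33 (σ t) * xx 24 t ∈ (tw σ).fix := by
  have := Twist.Maps.mul _ ((tw σ).maps_xG (show 33 < chevF4.nroots by decide +kernel) (σ t))
    ((tw σ).maps_xG (show 24 < chevF4.nroots by decide +kernel) t)
  rw [show foldF42.r 33 = 24 by decide +kernel, show foldF42.r 24 = 33 by decide +kernel,
    phi_eq (show isoF4.l 33 = 2 by decide +kernel), phi_eq (show isoF4.l 24 = 1 by decide +kernel),
    pow_one, hi] at this
  rw [show xG stdF4.good 24 t * xG stdF4.good 33 (σ t) = xx 33 (σ t) * xx 24 t from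
    (commP (by decide +kernel) t (σ t)).eq] at this
  exact this

lemma conj_nW {w : List ℕ} (hw : Letters chevF4 w) {r r' : ℕ} (hr : r < chevF4.nroots)
    (e : wf auxF4 w r = r') (hs : sgnW auxF4 w r = 1 ∨ sgnW auxF4 w r = -1) (t : K) :
    nW K stdF4.good w * xx r t * (nW K stdF4.good w)⁻¹ = xx r' t := by
  rw [xx, nW_conj_xG stdF4.good hw hr, cast_sgn hs, one_mul, e]

/-- the negative word of type B2 as a conjugate -/
lemma neg_W (q : K × K × K × K) :
    (tw σ).nJ 1 * W q * ((tw σ).nJ 1)⁻¹ =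
      xx 20 q.1 * xx 22 q.2.1 * xx 19 q.2.2.1 * xx 17 q.2.2.2 := by
  have hl : Letters chevF4 [1, 2, 1, 2] := by unfold Letters; decide +kernel
  show nW K stdF4.good [1, 2, 1, 2] * W q * (nW K stdF4.good [1, 2, 1, 2])⁻¹ = _
  set n := nW K stdF4.good [1, 2, 1, 2] with hn
  rw [W, show n * (xx 27 q.1 * xx 25 q.2.1 * xx 28 q.2.2.1 * xx 30 q.2.2.2) * n⁻¹ =
    (n * xx 27 q.1 * n⁻¹) * (n * xx 25 q.2.1 * n⁻¹) * (n * xx 28 q.2.2.1 * n⁻¹) *
      (n * xx 30 q.2.2.2 * n⁻¹) by group, hn,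
    conj_nW hl (r := 27) (r' := 20) (by decide +kernel) (by decide +kernel) (by decide +kernel),
    conj_nW hl (r := 25) (r' := 22) (by decide +kernel) (by decide +kernel) (by decide +kernel),
    conj_nW hl (r := 28) (r' := 19) (by decide +kernel) (by decide +kernel) (by decide +kernel),
    conj_nW hl (r := 30) (r' := 17) (by decide +kernel) (by decide +kernel) (by decide +kernel)]

/-- the negative pair word as a conjugate -/
lemma neg_pair (a b : K) :
    (tw σ).nJ 0 * (xx 33 a * xx 24 b) * ((tw σ).nJ 0)⁻¹ = xx 14 a * xx 23 b := by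
  have hl : Letters chevF4 [0, 3] := by unfold Letters; decide +kernel
  show nW K stdF4.good [0, 3] * _ * (nW K stdF4.good [0, 3])⁻¹ = _
  set n := nW K stdF4.good [0, 3] with hn
  rw [show n * (xx 33 a * xx 24 b) * n⁻¹ = (n * xx 33 a * n⁻¹) * (n * xx 24 b * n⁻¹) by group, hn,
    conj_nW hl (r := 33) (r' := 14) (by decide +kernel) (by decide +kernel) (by decide +kernel),
    conj_nW hl (r := 24) (r' := 23) (by decide +kernel) (by decide +kernel) (by decide +kernel)]

lemma words_eq (hσ : ∀ x, σ x = x ^ e) (w : List (ℕ × K)) (hw : w ∈ f4Words K e) :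
    ∃ t u : K, (w.map fun c => xG stdF4.good c.1 c.2).prod = xx 33 (σ t) * xx 24 t ∨
      (w.map fun c => xG stdF4.good c.1 c.2).prod = xx 14 (σ t) * xx 23 t ∨
      (w.map fun c => xG stdF4.good c.1 c.2).prod = W (quad σ t u) ∨
      (w.map fun c => xG stdF4.good c.1 c.2).prod =
        xx 20 (quad σ t u).1 * xx 22 (quad σ t u).2.1 * xx 19 (quad σ t u).2.2.1 *
          xx 17 (quad σ t u).2.2.2 := by
  have hp : ∀ u : K, u ^ (2 * e) = (u ^ e) ^ 2 := fun u => by rw [mul_comm, pow_mul]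
  rcases hw with ⟨t, rfl | rfl⟩ | ⟨t, u, rfl | rfl⟩
  · exact ⟨t, 0, Or.inl (by simp [f4PairWord, f4p1, f4p4, hσ, xx])⟩
  · exact ⟨t, 0, Or.inr (Or.inl (by simp [f4PairWord, f4m1, f4m4, hσ, xx]))⟩
  · exact ⟨t, u, Or.inr (Or.inr (Or.inl (by
      simp [b2ClassWord, f4a, f4b, f4ab, f4aab, hσ, xx, W, quad, pow_succ, hp, mul_assoc])))⟩
  · exact ⟨t, u, Or.inr (Or.inr (Or.inr (by
      simp [b2ClassWord, f4ma, f4mb, f4mab, f4maab, hσ, xx, quad, pow_succ, hp, mul_assoc])))⟩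

lemma num_cases {j : ℕ} (hj : j < foldF42.num) : j = 0 ∨ j = 1 := by
  change j < 2 at hj; omega

lemma gen_le (hσ : ∀ x, σ x = x ^ e) {X : Subgroup (GL chevF4.Idx K)}
    (h0 : ∀ t, xx 33 (σ t) * xx 24 t ∈ X) (h1 : ∀ t u, W (quad σ t u) ∈ X)
    (hn0 : ∀ y ∈ X, (tw σ).nJ 0 * y * ((tw σ).nJ 0)⁻¹ ∈ X)
    (hn1 : ∀ y ∈ X, (tw σ).nJ 1 * y * ((tw σ).nJ 1)⁻¹ ∈ X) :
    twistedF4 K e ≤ X := by
  rw [twistedF4, genSubgroup_eq stdF4.good, Subgroup.closure_le]
  rintro y ⟨w, hw, rfl⟩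
  obtain ⟨t, u, h | h | h | h⟩ := words_eq hσ w hw <;> rw [SetLike.mem_coe, h]
  · exact h0 t
  · rw [← neg_pair (σ := σ)]; exact hn0 _ (h0 t)
  · exact h1 t u
  · rw [← neg_W (σ := σ)]; exact hn1 _ (h1 t u)

lemma twisted_le_fix (hσ : ∀ x, σ x = x ^ e) (hi : Inv2 σ) : twistedF4 K e ≤ (tw σ).fix :=
  gen_le hσ (pair_fix hi) (W_quad_fix hi)
    (fun _ hy => mul_mem (mul_mem ((tw σ).nJ_fix (by decide)) hy) (inv_mem ((tw σ).nJ_fix (by decide))))
    (fun _ hy => mul_mem (mul_mem ((tw σ).nJ_fix (by decide)) hy) (inv_mem ((tw σ).nJ_fix (by decide))))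

lemma word_pair (hσ : ∀ x, σ x = x ^ e) (t : K) : xx 33 (σ t) * xx 24 t ∈ twistedF4 K e := by
  have := word_mem_gen stdF4.good (S := f4Words K e) (w := f4PairWord e f4p1 f4p4 t)
    (Or.inl ⟨t, Or.inl rfl⟩)
  simpa [twistedF4, f4PairWord, f4p1, f4p4, hσ, xx] using this

lemma word_npair (hσ : ∀ x, σ x = x ^ e) (t : K) : xx 14 (σ t) * xx 23 t ∈ twistedF4 K e := by
  have := word_mem_gen stdF4.good (S := f4Words K e) (w := f4PairWord e f4m1 f4m4 t)
    (Or.inl ⟨t, Or.inr rfl⟩)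
  simpa [twistedF4, f4PairWord, f4m1, f4m4, hσ, xx] using this

lemma word_W (hσ : ∀ x, σ x = x ^ e) (t u : K) : W (quad σ t u) ∈ twistedF4 K e := by
  have := word_mem_gen stdF4.good (S := f4Words K e) (w := b2ClassWord e f4a f4b f4ab f4aab t u)
    (Or.inr ⟨t, u, Or.inl rfl⟩)
  have hp : ∀ u : K, u ^ (2 * e) = (u ^ e) ^ 2 := fun u => by rw [mul_comm, pow_mul]
  simpa [twistedF4, b2ClassWord, f4a, f4b, f4ab, f4aab, hσ, xx, W, quad, pow_succ, hp,
    mul_assoc] using this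

lemma word_nW (hσ : ∀ x, σ x = x ^ e) (t u : K) :
    xx 20 (quad σ t u).1 * xx 22 (quad σ t u).2.1 * xx 19 (quad σ t u).2.2.1 *
      xx 17 (quad σ t u).2.2.2 ∈ twistedF4 K e := by
  have := word_mem_gen stdF4.good (S := f4Words K e) (w := b2ClassWord e f4ma f4mb f4mab f4maab t u)
    (Or.inr ⟨t, u, Or.inr rfl⟩)
  have hp : ∀ u : K, u ^ (2 * e) = (u ^ e) ^ 2 := fun u => by rw [mul_comm, pow_mul]
  simpa [twistedF4, b2ClassWord, f4ma, f4mb, f4mab, f4maab, hσ, xx, quad, pow_succ, hp,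
    mul_assoc] using this

lemma class0 [Fintype K] (hi : Inv2 σ) :
    Nat.card ↥((tw σ).V (foldF42.w 0)) = Fintype.card K ∧
      ∀ y, y ∈ (tw σ).V (foldF42.w 0) ↔ ∃ t, xx 33 (σ t) * xx 24 t = y := by
  obtain ⟨h1, h2⟩ := (tw σ).class_two (j := 0) (by decide) (r := 24) (s := 33) (by decide +kernel)
    (by decide +kernel) (by decide +kernel) (by decide +kernel) (fun t => by
      rw [phi_eq (show isoF4.l 24 = 1 by decide +kernel),
        phi_eq (show isoF4.l 33 = 2 by decide +kernel), pow_one, hi])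
  refine ⟨h1, fun y => (h2 y).trans (exists_congr fun t => ?_)⟩
  rw [phi_eq (show isoF4.l 24 = 1 by decide +kernel), pow_one,
    show xG stdF4.good 24 t * xG stdF4.good 33 (σ t) = xx 33 (σ t) * xx 24 t from
      (commP (by decide +kernel) t (σ t)).eq]

lemma class1 [Fintype K] (hi : Inv2 σ) :
    Nat.card ↥((tw σ).V (foldF42.w 1)) = Fintype.card K ^ 2 ∧
      ∀ y, y ∈ (tw σ).V (foldF42.w 1) ↔ ∃ t u, W (quad σ t u) = y := by
  obtain ⟨-, hiff, hN⟩ := (tw σ).orbit_roots (j := 1) (by decide) (L := [25, 27, 28, 30])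
    (by decide +kernel)
  have hm : ∀ r ∈ [25, 27, 28, 30], ∀ t : K,
      xx r t ∈ UP K stdF4.good (toNeg chevF4 (wf auxF4 (foldF42.w 1))) :=
    fun r hr t => xG_mem_UP stdF4.good ((hiff r).2 hr) t
  obtain ⟨hcard, hmem⟩ := (tw σ).class_fix (j := 1) (by decide) (W := W) W_inj
    (fun q => mul_mem (mul_mem (mul_mem (hm 27 (by simp) _) (hm 25 (by simp) _))
      (hm 28 (by simp) _)) (hm 30 (by simp) _))
    (by rw [hN]; simp [Fintype.card_prod]; ring) (Φ := Phi σ) W_maps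
  refine ⟨?_, fun y => (hmem y).trans ?_⟩
  · rw [hcard, sq, ← Fintype.card_prod, ← Nat.card_eq_fintype_card]
    refine Nat.card_congr
      { toFun := fun q => (q.1.2.1, σ q.1.2.2.2)
        invFun := fun p => ⟨quad σ p.1 p.2, phi_quad hi p.1 p.2⟩
        left_inv := fun q => Subtype.ext (quad_of_fixed hi q.2).symm
        right_inv := fun p => Prod.ext rfl ?_ }
    show σ (σ p.2 ^ 2) = p.2
    rw [map_pow]; exact hi _
  · constructor
    · rintro ⟨q, hq, rfl⟩
      exact ⟨_, _, congrArg W (quad_of_fixed hi hq).symm⟩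
    · rintro ⟨t, u, rfl⟩
      exact ⟨_, phi_quad hi t u, rfl⟩

lemma class_card [Fintype K] (hi : Inv2 σ) (j : ℕ) (hj : j < foldF42.num) :
    Nat.card ↥((tw σ).V (foldF42.w j)) = Fintype.card K ^ ([1, 2].getD j 0) := by
  rcases num_cases hj with rfl | rfl
  · rw [(class0 hi).1]; simp
  · rw [(class1 hi).1]; simp

lemma class_le [Fintype K] (hσ : ∀ x, σ x = x ^ e) (hi : Inv2 σ) (j : ℕ) (hj : j < foldF42.num) :
    (tw σ).V (foldF42.w j) ≤ twistedF4 K e := by
  intro y hy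
  rcases num_cases hj with rfl | rfl
  · obtain ⟨t, rfl⟩ := ((class0 hi).2 y).1 hy
    exact word_pair hσ t
  · obtain ⟨t, u, rfl⟩ := ((class1 hi).2 y).1 hy
    exact word_W hσ t u

lemma pairOK : PairOK chevF4 auxF4 24 33 := by
  unfold PairOK
  decide +kernel

lemma pair_p (hσ : ∀ x, σ x = x ^ e) (t : K) :
    xG stdF4.good 24 t * xG stdF4.good 33 (σ t) ∈ twistedF4 K e := by
  rw [(commP (r := 24) (s := 33) (by decide +kernel) t (σ t)).eq]
  exact word_pair hσ t

lemma pair_n (hσ : ∀ x, σ x = x ^ e) (t : K) :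
    xG stdF4.good (auxF4.neg 24) t * xG stdF4.good (auxF4.neg 33) (σ t) ∈ twistedF4 K e := by
  rw [show auxF4.neg 24 = 23 by decide +kernel, show auxF4.neg 33 = 14 by decide +kernel,
    (commP (r := 23) (s := 14) (by decide +kernel) t (σ t)).eq]
  exact word_npair hσ t

lemma nJ0_mem (hσ : ∀ x, σ x = x ^ e) : (tw σ).nJ 0 ∈ twistedF4 K e := by
  have h : (tw σ).nJ 0 = nG stdF4.good 33 1 * nG stdF4.good 24 1 := by
    show nW K stdF4.good [0, 3] = _
    simp only [nW, List.map_cons, List.map_nil, List.prod_cons, List.prod_nil, mul_one, nS]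
    rw [show chevF4.simple 0 = 33 by decide +kernel, show chevF4.simple 3 = 24 by decide +kernel]
  rw [h, ← (commute_nG' stdF4 pairOK (1 : K) 1).eq]
  have := nG_pair_mem stdF4 pairOK (σ := σ) (pair_p hσ) (pair_n hσ) 1
  rwa [map_one] at this

/-- the identity expressing the orbit element through words -/
lemma nJ1_eq : (tw σ).nJ 1 =
    W (1, 1, 1, 0) * (xx 19 1 * xx 17 1) * W ((1 : K), 1, 0, 1) := by
  have hchk : wordEqCheck chevF4 auxF4 2
      [(27, 1), (20, -1), (27, 1), (25, 1), (22, -1), (25, 1), (27, 1), (20, -1), (27, 1), (25, 1),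
        (22, -1), (25, 1)]
      [(27, 1), (25, 1), (28, 1), (19, 1), (17, 1), (27, 1), (25, 1), (30, 1)] = true := by
    decide +kernel
  have hid := word_eq_of_check (F := K) stdF4.good hchk
  show nW K stdF4.good [1, 2, 1, 2] = _
  simp only [nW, List.map_cons, List.map_nil, List.prod_cons, List.prod_nil, mul_one, nS, nG]
  rw [show chevF4.simple 1 = 27 by decide +kernel, show chevF4.simple 2 = 25 by decide +kernel,
    show chevF4.neg 27 = 20 by decide +kernel, show chevF4.neg 25 = 22 by decide +kernel]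
  simpa [W, xx, mul_assoc, CharTwo.neg_eq, xG_zero] using hid

lemma nJ_mem (hσ : ∀ x, σ x = x ^ e) (j : ℕ) (hj : j < foldF42.num) :
    (tw σ).nJ j ∈ twistedF4 K e := by
  rcases num_cases hj with rfl | rfl
  · exact nJ0_mem hσ
  · rw [nJ1_eq]
    refine mul_mem (mul_mem ?_ ?_) ?_
    · have := word_W hσ (1 : K) 0
      simpa [quad] using this
    · have := word_nW hσ (0 : K) 1
      simpa [quad, xx, xG_zero] using this
    · have := word_W hσ (1 : K) 1
      simpa [quad, CharTwo.add_self_eq_zero] using this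

/-- index -/
def ix (i : Fin 4) : Fin chevF4.rank := i

lemma ext_ix {a b : Fin chevF4.rank → Kˣ} (h : ∀ k : Fin 4, a (ix k) = b (ix k)) : a = b :=
  funext h

lemma theta_ix (c : Fin chevF4.rank → Kˣ) :
    ((tw σ).theta c (ix 0) : K) = σ (c (ix 3)) ∧ ((tw σ).theta c (ix 1) : K) = σ (c (ix 2)) ∧
      ((tw σ).theta c (ix 2) : K) = σ (c (ix 1)) ^ 2 ∧
      ((tw σ).theta c (ix 3) : K) = σ (c (ix 0)) ^ 2 := by
  have hθ : ∀ i k : Fin 4, foldF42.p i.val = k.val → ∀ l, isoF4.l (chevF4.simple i.val) = l →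
      (((tw σ).theta c (ix k) : Kˣ) : K) = σ (c (ix i)) ^ l := fun i k e l el => by
    rw [(tw σ).theta_apply c (i := ix i) (k := ix k) e, psi_eq (show (ix i).val < chevF4.rank from (ix i).isLt)]
    subst el
    rfl
  refine ⟨?_, ?_, hθ 1 2 rfl 2 (by decide +kernel), hθ 0 3 rfl 2 (by decide +kernel)⟩
  · simpa using hθ 3 0 rfl 1 (by decide +kernel)
  · simpa using hθ 2 1 rfl 1 (by decide +kernel)

lemma thetaFix_iff (hi : Inv2 σ) (c : Fin chevF4.rank → Kˣ) :
    c ∈ (tw σ).thetaFix ↔ σ (c (ix 3)) = c (ix 0) ∧ σ (c (ix 2)) = c (ix 1) := by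
  obtain ⟨t0, t1, t2, t3⟩ := theta_ix (σ := σ) c
  rw [Twist.mem_thetaFix]
  constructor
  · intro hc
    rw [hc] at t0 t1
    exact ⟨t0.symm, t1.symm⟩
  · rintro ⟨h0, h1⟩
    refine ext_ix fun k => Units.ext ?_
    fin_cases k
    exacts [t0.trans h0, t1.trans h1, t2.trans (h1 ▸ hi _), t3.trans (h0 ▸ hi _)]

lemma tor_inj : Function.Injective (tor chevF4 auxF4 : (Fin chevF4.rank → Kˣ) →* GL chevF4.Idx K) := by
  refine tor_inj_of_inv stdF4.good
    (N := (!![2, 3, 4, 2; 3, 6, 8, 4; 2, 4, 6, 3; 1, 2, 3, 2] : Matrix (Fin 4) (Fin 4) ℤ)) ?_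
  decide +kernel

lemma diag_eq : chevF4.diagonalSubgroup K ⊓ (tw σ).fix = (tw σ).thetaFix.map (tor chevF4 auxF4) :=
  (tw σ).diag_fix_inj tor_inj

lemma card_diag [Fintype K] (hi : Inv2 σ) :
    Nat.card ↥(chevF4.diagonalSubgroup K ⊓ (tw σ).fix) = (Fintype.card K - 1) ^ 2 := by
  rw [diag_eq, Subgroup.card_map_of_injective tor_inj]
  let e : ↥(tw σ).thetaFix ≃ Kˣ × Kˣ :=
    { toFun := fun c => (c.1 (ix 3), c.1 (ix 2))
      invFun := fun p => ⟨(![Units.map σ.toMonoidHom p.1, Units.map σ.toMonoidHom p.2, p.2, p.1] :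
          Fin 4 → Kˣ), (thetaFix_iff hi _).2 ⟨rfl, rfl⟩⟩
      left_inv := fun c => by
        obtain ⟨h0, h1⟩ := (thetaFix_iff hi c.1).1 c.2
        refine Subtype.ext (ext_ix fun k => ?_)
        have key : ∀ k : Fin 4, (![Units.map σ.toMonoidHom (c.1 (ix 3)),
            Units.map σ.toMonoidHom (c.1 (ix 2)), c.1 (ix 2), c.1 (ix 3)] : Fin 4 → Kˣ) k =
            c.1 (ix k) := by
          intro k
          fin_cases k
          exacts [Units.ext h0, Units.ext h1, rfl, rfl]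
        exact key k
      right_inv := fun p => rfl }
  rw [Nat.card_congr e, Nat.card_prod, Nat.card_units, Nat.card_eq_fintype_card, sq]

/-- a parameter vector -/
def v4 (a b c d : Kˣ) : Fin chevF4.rank → Kˣ := (![a, b, c, d] : Fin 4 → Kˣ)

/-- the torus element on the orbit of type B2 -/
noncomputable def hB (x y : Kˣ) : GL chevF4.Idx K :=
  tor chevF4 auxF4 (v4 1 x y 1)

lemma hB_mul (x y x' y' : Kˣ) : hB x y * hB x' y' = hB (x * x') (y * y') := by
  rw [hB, hB, hB, ← map_mul]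
  congr 1
  refine ext_ix fun k => ?_
  have key : ∀ k : Fin 4, (![1, x, y, 1] : Fin 4 → Kˣ) k * (![1, x', y', 1] : Fin 4 → Kˣ) k =
      (![1, x * x', y * y', 1] : Fin 4 → Kˣ) k := by
    intro k; fin_cases k <;> simp
  exact key k

lemma n_hB (x y : Kˣ) :
    (nS K stdF4.good 1 * hB x y * (nS K stdF4.good 1)⁻¹ = hB (x⁻¹ * y) y) ∧
    (nS K stdF4.good 2 * hB x y * (nS K stdF4.good 2)⁻¹ = hB x (x ^ 2 * y⁻¹)) := by
  have hc : ∀ j : Fin 4, auxF4.cart j.val (chevF4.simple 1) = [-1, 2, -1, 0].getD j.val 0 ∧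
      auxF4.cart j.val (chevF4.simple 2) = [0, -2, 2, -1].getD j.val 0 := by decide +kernel
  constructor
  · rw [hB, hB, nS_conj_tor stdF4.good (show 1 < chevF4.rank by decide +kernel)]
    congr 1
    refine ext_ix fun k => ?_
    have hp : (∏ j : Fin 4, (![1, x, y, 1] : Fin 4 → Kˣ) j ^ (-auxF4.cart j.val (chevF4.simple 1))) =
        y * (x ^ 2)⁻¹ := by
      simp only [Fin.prod_univ_four, (hc _).1]
      simp [_root_.zpow_neg, mul_comm]
    have key : ∀ k : Fin 4, (![1, x, y, 1] : Fin 4 → Kˣ) k *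
        (Pi.mulSingle (1 : Fin 4) (y * (x ^ 2)⁻¹) : Fin 4 → Kˣ) k =
          (![1, x⁻¹ * y, y, 1] : Fin 4 → Kˣ) k := by
      intro k; fin_cases k <;> simp
      apply Additive.ofMul.injective
      simp only [ofMul_mul, ofMul_inv, ofMul_pow]
      abel
    rw [← hp] at key
    exact key k
  · rw [hB, hB, nS_conj_tor stdF4.good (show 2 < chevF4.rank by decide +kernel)]
    congr 1
    refine ext_ix fun k => ?_
    have hp : (∏ j : Fin 4, (![1, x, y, 1] : Fin 4 → Kˣ) j ^ (-auxF4.cart j.val (chevF4.simple 2))) =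
        x ^ 2 * (y ^ 2)⁻¹ := by
      simp only [Fin.prod_univ_four, (hc _).2]
      simp [_root_.zpow_neg]
    have key : ∀ k : Fin 4, (![1, x, y, 1] : Fin 4 → Kˣ) k *
        (Pi.mulSingle (2 : Fin 4) (x ^ 2 * (y ^ 2)⁻¹) : Fin 4 → Kˣ) k =
          (![1, x, x ^ 2 * y⁻¹, 1] : Fin 4 → Kˣ) k := by
      intro k; fin_cases k <;> simp
      apply Additive.ofMul.injective
      simp only [ofMul_mul, ofMul_inv, ofMul_pow]
      abel
    rw [← hp] at key
    exact key k

lemma nJ1_hB (x y : Kˣ) :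
    (tw σ).nJ 1 * hB x y * ((tw σ).nJ 1)⁻¹ = hB x⁻¹ y⁻¹ := by
  show nW K stdF4.good [1, 2, 1, 2] * _ * (nW K stdF4.good [1, 2, 1, 2])⁻¹ = _
  simp only [nW, List.map_cons, List.map_nil, List.prod_cons, List.prod_nil, mul_one]
  set a := nS K stdF4.good 1 with ha
  set b := nS K stdF4.good 2 with hb
  rw [show a * (b * (a * b)) * hB x y * (a * (b * (a * b)))⁻¹ =
    a * (b * (a * (b * hB x y * b⁻¹) * a⁻¹) * b⁻¹) * a⁻¹ by group, ha, hb,
    (n_hB _ _).2, (n_hB _ _).1, (n_hB _ _).2, (n_hB _ _).1]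
  congr 1 <;>
  · apply Additive.ofMul.injective
    simp only [ofMul_mul, ofMul_inv, ofMul_pow]
    abel

lemma hB_fix (hi : Inv2 σ) {x y : Kˣ} (h : σ (y : K) = x) : hB x y ∈ (tw σ).fix := by
  refine ((tw σ).tor_mem_fix_iff _).2 (congrArg _ ?_)
  refine (tw σ).mem_thetaFix.1 ((thetaFix_iff hi _).2 ⟨?_, h⟩)
  exact σ.map_one

lemma hB_conj_W (x y : Kˣ) (q : K × K × K × K) :
    hB x y * W q * (hB x y)⁻¹ = W (((x : K) ^ 2 * (y : K)⁻¹) * q.1,
      (((x : K) ^ 2)⁻¹ * (y : K) ^ 2) * q.2.1, (y : K) * q.2.2.1, (x : K) ^ 2 * q.2.2.2) := by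
  set c : Fin chevF4.rank → Kˣ := v4 1 x y 1 with hc
  have hchi : ∀ r, (chi chevF4 auxF4 c r : K) =
      (x : K) ^ auxF4.cart 1 r * (y : K) ^ auxF4.cart 2 r := fun r => by
    rw [chi_hG_simple c r]
    show ∏ i : Fin 4, ((![1, x, y, 1] : Fin 4 → Kˣ) i : K) ^ auxF4.cart i.val r = _
    simp [Fin.prod_univ_four]
  show tor chevF4 auxF4 c * W q * (tor chevF4 auxF4 c)⁻¹ = _
  set h := (tor chevF4 auxF4 c : GL chevF4.Idx K) with hh
  rw [W, show h * (xx 27 q.1 * xx 25 q.2.1 * xx 28 q.2.2.1 * xx 30 q.2.2.2) * h⁻¹ =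
    (h * xx 27 q.1 * h⁻¹) * (h * xx 25 q.2.1 * h⁻¹) * (h * xx 28 q.2.2.1 * h⁻¹) *
      (h * xx 30 q.2.2.2 * h⁻¹) by group, hh]
  simp only [xx]
  rw [tor_conj_xG stdF4.good c (show 27 < chevF4.nroots by decide +kernel),
    tor_conj_xG stdF4.good c (show 25 < chevF4.nroots by decide +kernel),
    tor_conj_xG stdF4.good c (show 28 < chevF4.nroots by decide +kernel),
    tor_conj_xG stdF4.good c (show 30 < chevF4.nroots by decide +kernel), hchi, hchi, hchi, hchi,
    show auxF4.cart 1 27 = 2 by decide +kernel, show auxF4.cart 2 27 = -1 by decide +kernel,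
    show auxF4.cart 1 25 = -2 by decide +kernel, show auxF4.cart 2 25 = 2 by decide +kernel,
    show auxF4.cart 1 28 = 0 by decide +kernel, show auxF4.cart 2 28 = 1 by decide +kernel,
    show auxF4.cart 1 30 = 2 by decide +kernel, show auxF4.cart 2 30 = 0 by decide +kernel]
  simp [W, xx, _root_.zpow_neg, zpow_ofNat]

lemma exists_sqrt [Fintype K] (d : Kˣ) : ∃ f : Kˣ, f * f = d := by
  obtain ⟨z, hz⟩ := FiniteField.isSquare_of_char_two (ringChar.eq K 2) (d : K)
  have hz0 : z ≠ 0 := fun h => d.ne_zero (by rw [hz, h, mul_zero])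
  exact ⟨Units.mk0 z hz0, Units.ext hz.symm⟩

lemma hB_mem [Fintype K] (hσ : ∀ x, σ x = x ^ e) (hi : Inv2 σ) {x y : Kˣ} (h : σ (y : K) = x) :
    hB x y ∈ twistedF4 K e := by
  obtain ⟨g, rfl⟩ := exists_sqrt y
  set f : Kˣ := Units.map σ.toMonoidHom g with hf
  obtain rfl : x = f * f := Units.ext (by rw [← h]; simp [hf])
  have hfix : hB f g ∈ (tw σ).fix := hB_fix hi rfl
  have h1 : hB f g * (tw σ).nJ 1 * (hB f g)⁻¹ ∈ twistedF4 K e := by
    rw [nJ1_eq]
    set a := hB f g with ha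
    rw [show a * (W (1, 1, 1, 0) * (xx 19 1 * xx 17 1) * W ((1 : K), 1, 0, 1)) * a⁻¹ =
      (a * W (1, 1, 1, 0) * a⁻¹) * (a * (xx 19 1 * xx 17 1) * a⁻¹) *
        (a * W ((1 : K), 1, 0, 1) * a⁻¹) by group]
    have hW : ∀ t u : K, a * W (quad σ t u) * a⁻¹ ∈ twistedF4 K e := fun t u => by
      have hx : a * W (quad σ t u) * a⁻¹ ∈ (tw σ).fix :=
        mul_mem (mul_mem hfix (W_quad_fix hi t u)) (inv_mem hfix)
      rw [ha, hB_conj_W] at hx ⊢
      obtain ⟨v, hv⟩ := exists_quad hi hx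
      rw [hv]
      exact word_W hσ _ _
    refine mul_mem (mul_mem ?_ ?_) ?_
    · have := hW 1 0
      simpa [quad] using this
    · have key : a * (xx 19 1 * xx 17 1) * a⁻¹ =
          xx 19 ((g : K)⁻¹) * xx 17 (((f : K) ^ 2)⁻¹) := by
        set c : Fin chevF4.rank → Kˣ := v4 1 f g 1 with hc
        have hchi : ∀ r, (chi chevF4 auxF4 c r : K) =
            (f : K) ^ auxF4.cart 1 r * (g : K) ^ auxF4.cart 2 r := fun r => by
          rw [chi_hG_simple c r]
          show ∏ i : Fin 4, ((![1, f, g, 1] : Fin 4 → Kˣ) i : K) ^ auxF4.cart i.val r = _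
          simp [Fin.prod_univ_four]
        rw [show a * (xx 19 1 * xx 17 1) * a⁻¹ = (a * xx 19 1 * a⁻¹) * (a * xx 17 1 * a⁻¹) by group,
          ha, hB]
        simp only [xx]
        rw [tor_conj_xG stdF4.good c (show 19 < chevF4.nroots by decide +kernel),
          tor_conj_xG stdF4.good c (show 17 < chevF4.nroots by decide +kernel), hchi, hchi,
          show auxF4.cart 1 19 = 0 by decide +kernel, show auxF4.cart 2 19 = -1 by decide +kernel,
          show auxF4.cart 1 17 = -2 by decide +kernel, show auxF4.cart 2 17 = 0 by decide +kernel]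
        simp [_root_.zpow_neg, zpow_ofNat]
      rw [key]
      have := word_nW hσ (0 : K) ((g : K)⁻¹)
      simpa [quad, xx, hf, xG_zero] using this
    · have := hW 1 1
      simpa [quad, CharTwo.add_self_eq_zero] using this
  have h2 := mul_mem h1 (inv_mem (nJ_mem hσ 1 (by decide)))
  have e2 : hB f g * (tw σ).nJ 1 * (hB f g)⁻¹ * ((tw σ).nJ 1)⁻¹ = hB (f * f) (g * g) := by
    have hinv : (hB f g)⁻¹ = hB f⁻¹ g⁻¹ := by
      rw [inv_eq_iff_mul_eq_one, hB_mul, mul_inv_cancel, mul_inv_cancel, hB]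
      refine (congrArg _ (ext_ix fun k => ?_)).trans (map_one _)
      have key : ∀ k : Fin 4, (![1, 1, 1, 1] : Fin 4 → Kˣ) k = 1 := by intro k; fin_cases k <;> rfl
      exact key k
    rw [hinv, mul_assoc (hB f g), mul_assoc (hB f g), nJ1_hB, inv_inv, inv_inv, hB_mul]
  rwa [e2] at h2

lemma diag_le [Fintype K] (hσ : ∀ x, σ x = x ^ e) (hi : Inv2 σ) :
    chevF4.diagonalSubgroup K ⊓ (tw σ).fix ≤ twistedF4 K e := by
  rw [diag_eq]
  rintro y ⟨c, hc, rfl⟩
  obtain ⟨h0, h1⟩ := (thetaFix_iff hi c).1 hc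
  have g := stdF4.good
  have hs : chevF4.simple 0 = 33 ∧ chevF4.simple 3 = 24 := by decide +kernel
  have hi' : ∀ i : Fin 4, hG g (chevF4.simple i.val) (c (ix i) : K) =
      tor chevF4 auxF4 (Pi.mulSingle (ix i) (c (ix i)) : Fin chevF4.rank → Kˣ) :=
    fun i => hG_simple g (ix i) _
  have hc' : tor chevF4 auxF4 c = hG g 24 (c (ix 3) : K) * hG g 33 (c (ix 0) : K) *
      hB (c (ix 1)) (c (ix 2)) := by
    have p0 := hi' 0
    have p3 := hi' 3
    simp only [Fin.val_zero, show ((3 : Fin 4) : ℕ) = 3 from rfl, hs.1, hs.2] at p0 p3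
    rw [p0, p3, hB, ← map_mul, ← map_mul]
    congr 1
    refine ext_ix fun k => ?_
    have key : ∀ k : Fin 4, c (ix k) = (Pi.mulSingle (3 : Fin 4) (c (ix 3)) : Fin 4 → Kˣ) k *
        (Pi.mulSingle (0 : Fin 4) (c (ix 0)) : Fin 4 → Kˣ) k *
        (![1, c (ix 1), c (ix 2), 1] : Fin 4 → Kˣ) k := by
      intro k; fin_cases k <;> simp
    exact key k
  rw [hc', ← h0]
  exact mul_mem (hG_pair_mem stdF4 pairOK (pair_p hσ) (pair_n hσ) _) (hB_mem hσ hi h1)

/-- the twisted group is the fixed group -/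
theorem twisted_eq_fix [Fintype K] (hσ : ∀ x, σ x = x ^ e) (hi : Inv2 σ) :
    twistedF4 K e = (tw σ).fix :=
  le_antisymm (twisted_le_fix hσ hi)
    ((tw σ).fix_le ftabF42_ok top (nJ_mem hσ) (class_le hσ hi) (diag_le hσ hi))

theorem split [Fintype K] (hi : Inv2 σ) : (tw σ).Split ftabF42 where
  tab := ftabF42_ok
  extra := extra
  ne j hj := by
    refine (tw σ).ne_bot_of_card ?_
    rw [class_card hi j hj]
    refine le_trans Fintype.one_lt_card (Nat.le_self_pow ?_ _)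
    rcases num_cases hj with rfl | rfl <;> simp

theorem orders [Fintype K] (hi : Inv2 σ) {q : ℕ} (hq : Fintype.card K = q) :
    Nat.card ↥(chevF4.posUnipotent K ⊓ (tw σ).fix) = q ^ 12 ∧
    Nat.card ↥(tw σ).fix = q ^ 12 * (q - 1) * (q ^ 3 + 1) * (q ^ 4 - 1) * (q ^ 6 + 1) := by
  subst hq
  obtain ⟨e₀, he₀, hcnt⟩ := top
  have hsz : ∀ j < foldF42.num, nInv chevF4 auxF4 (foldF42.w j) = 2 * [1, 2].getD j 0 := by
    intro j hj
    have hl : ∀ (j : ℕ) (L : List ℕ), j < foldF42.num →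
        Twist.orbitIs chevF4 auxF4 foldF42 j L = true →
        nInv chevF4 auxF4 (foldF42.w j) = L.length := fun j L hj e =>
      ((tw σ).orbit_roots hj e).2.2
    rcases num_cases hj with rfl | rfl
    · exact hl 0 [24, 33] hj (by decide +kernel)
    · exact hl 1 [25, 27, 28, 30] hj (by decide +kernel)
  obtain ⟨hU, hX⟩ := (tw σ).card_formula ftabF42_ok (d := 2) two_pos hsz
    (class_card hi) he₀ hcnt
  have h24 : chevF4.posRoots.length = 24 := by
    rw [length_posRoots stdF4.good]; rfl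
  rw [hcnt, h24] at hU hX
  rw [show (24 : ℕ) / 2 = 12 by rfl] at hU hX
  refine ⟨hU, ?_⟩
  have hp := congrArg (pEval (Fintype.card K)) poly
  simp only [pEval_prod, List.map_cons, List.map_nil, List.prod_cons, List.prod_nil,
    mul_one, pEval_add, pEval_mono, pow_zero] at hp
  simp only [pEval] at hp
  rw [hX, card_diag hi, hp]
  have h4 : Fintype.card K ^ 4 - 1 =
      (Fintype.card K ^ 2 + 1) * ((Fintype.card K + 1) * (Fintype.card K - 1)) := by
    rw [← Nat.sq_sub_sq, one_pow, show Fintype.card K ^ 4 = (Fintype.card K ^ 2) ^ 2 by ring]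
    conv_lhs => rw [show (1 : ℕ) = 1 ^ 2 by rfl, Nat.sq_sub_sq]
  rw [h4]
  ring

lemma sigma_ne [Fintype K] (hi : Inv2 σ) {y : K} (h : y ^ 2 ≠ y) : σ y ≠ y := fun hy => by
  have := hi y
  rw [hy, hy] at this
  exact h this

lemma exists_unit [Fintype K] (h4 : 4 ≤ Fintype.card K) : ∃ y : Kˣ, y ≠ 1 := by
  have : Nontrivial Kˣ := by
    classical
    rw [← Fintype.one_lt_card_iff_nontrivial, Fintype.card_units]
    omega
  exact exists_ne 1

lemma comm_pair [Fintype K] (hi : Inv2 σ) (h4 : 4 ≤ Fintype.card K) (t : K) :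
    xx 33 (σ t) * xx 24 t ∈ ⁅(tw σ).fix, (tw σ).fix⁆ := by
  obtain ⟨c, hc⟩ := exists_unit h4
  set cv : Fin chevF4.rank → Kˣ := v4 (Units.map σ.toMonoidHom c) 1 1 c with hcv
  have hh : tor chevF4 auxF4 cv ∈ (tw σ).fix :=
    ((tw σ).tor_mem_fix_iff _).2 (congrArg _ ((tw σ).mem_thetaFix.1 ((thetaFix_iff hi _).2
      ⟨rfl, σ.map_one⟩)))
  have hk : (c : K) ^ 2 ≠ 1 := fun e => hc (Units.ext (by
    have h1 : ((c : K) + 1) ^ 2 = 0 := by rw [CharTwo.add_sq, e, one_pow, CharTwo.add_self_eq_zero]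
    have h2 := eq_zero_of_pow_eq_zero h1
    rw [CharTwo.add_eq_zero] at h2
    simpa using h2))
  refine comm_family (W := fun a => xx 33 (σ a) * xx 24 a) (fun a b => ?_) (pair_fix hi) hh hk
    (fun a => ?_) t
  · show xx 33 (σ a) * xx 24 a * (xx 33 (σ b) * xx 24 b) = _
    simp only [xx, map_add]
    rw [← xG_add, ← xG_add,
      show xG stdF4.good 33 (σ a) * xG stdF4.good 24 a * (xG stdF4.good 33 (σ b) * xG stdF4.good 24 b) =
        xG stdF4.good 33 (σ a) * (xG stdF4.good 24 a * xG stdF4.good 33 (σ b)) * xG stdF4.good 24 b by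
        group,
      (commP (r := 24) (s := 33) (by decide +kernel) a (σ b)).eq]
    group
  · have hchi : ∀ r, (chi chevF4 auxF4 cv r : K) =
        σ (c : K) ^ auxF4.cart 0 r * (c : K) ^ auxF4.cart 3 r := fun r => by
      rw [chi_hG_simple cv r]
      show ∏ i : Fin 4, ((![Units.map σ.toMonoidHom c, 1, 1, c] : Fin 4 → Kˣ) i : K) ^
        auxF4.cart i.val r = _
      simp [Fin.prod_univ_four]
    set h := (tor chevF4 auxF4 cv : GL chevF4.Idx K) with hh'
    show h * (xx 33 (σ a) * xx 24 a) * h⁻¹ = xx 33 (σ _) * xx 24 _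
    rw [show h * (xx 33 (σ a) * xx 24 a) * h⁻¹ = (h * xx 33 (σ a) * h⁻¹) * (h * xx 24 a * h⁻¹) by
      group, hh']
    simp only [xx]
    rw [tor_conj_xG stdF4.good cv (show 33 < chevF4.nroots by decide +kernel),
      tor_conj_xG stdF4.good cv (show 24 < chevF4.nroots by decide +kernel), hchi, hchi,
      show auxF4.cart 0 33 = 2 by decide +kernel, show auxF4.cart 3 33 = 0 by decide +kernel,
      show auxF4.cart 0 24 = 0 by decide +kernel, show auxF4.cart 3 24 = 2 by decide +kernel]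
    simp [zpow_ofNat]

lemma comm_W [Fintype K] (hi : Inv2 σ) (h4 : 4 ≤ Fintype.card K) (t u : K) :
    W (quad σ t u) ∈ ⁅(tw σ).fix, (tw σ).fix⁆ := by
  obtain ⟨y, hy⟩ := exists_unit h4
  set x : Kˣ := Units.map σ.toMonoidHom y with hx
  have hfix : hB x y ∈ (tw σ).fix := hB_fix hi rfl
  have hy2 : (y : K) ^ 2 ≠ y := fun e => hy (Units.ext (by
    rw [sq] at e
    simpa using (mul_eq_left₀ y.ne_zero).1 e))
  have hZmul : ∀ a b : K, W (0, 0, a, σ a ^ 2) * W (0, 0, b, σ b ^ 2) =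
      W (0, 0, a + b, σ (a + b) ^ 2) := fun a b => by
    rw [W_mul]
    simp [CharTwo.add_sq]
  have hZfix : ∀ a : K, W (0, 0, a, σ a ^ 2) ∈ (tw σ).fix := fun a => by
    simpa [quad] using W_quad_fix (σ := σ) hi 0 a
  have hZ : ∀ a : K, W (0, 0, a, σ a ^ 2) ∈ ⁅(tw σ).fix, (tw σ).fix⁆ := by
    refine comm_family hZmul hZfix hfix (k := (y : K)) (by simpa using hy) fun a => ?_
    rw [hB_conj_W]
    simp only [mul_zero, hx, Units.coe_map, MonoidHom.coe_coe, RingHom.toMonoidHom_eq_coe, map_mul,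
      mul_pow]
  set k : K := ((x : K) ^ 2)⁻¹ * (y : K) ^ 2 with hk
  have hk1 : k + 1 ≠ 0 := fun e => by
    rw [CharTwo.add_eq_zero, hk, inv_mul_eq_one₀ (pow_ne_zero 2 x.ne_zero)] at e
    have : ((x : K) + y) ^ 2 = 0 := by rw [CharTwo.add_sq, e, CharTwo.add_self_eq_zero]
    have h2 := eq_zero_of_pow_eq_zero this
    rw [CharTwo.add_eq_zero] at h2
    exact sigma_ne hi hy2 (by simpa [hx] using h2)
  set s := t / (k + 1) with hs
  set Q := quad σ s (0 : K) with hQ
  set Q' : K × K × K × K := (Q.1, Q.2.1, Q.2.2.1 + Q.1 * Q.2.1, Q.2.2.2 + Q.1 ^ 2 * Q.2.1) with hQ'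
  have hQQ : W Q * W Q' = 1 := by
    rw [hQ', show Q = (Q.1, Q.2.1, Q.2.2.1, Q.2.2.2) from rfl, W_mul]
    simp [W, xx, xG_zero, CharTwo.add_self_eq_zero, ← add_assoc, cancel2]
  have hmem : hB x y * W Q * (hB x y)⁻¹ * W Q' ∈ ⁅(tw σ).fix, (tw σ).fix⁆ := by
    rw [eq_inv_of_mul_eq_one_right hQQ, ← commutatorElement_def]
    exact Subgroup.commutator_mem_commutator hfix (W_quad_fix hi _ _)
  rw [hB_conj_W, hQ', W_mul] at hmem
  obtain ⟨v, hv⟩ := exists_quad hi (Subgroup.commutator_le_self _ hmem)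
  rw [hv] at hmem
  have hb : k * Q.2.1 + Q.2.1 = t := by
    rw [hQ, quad, hs]
    field_simp
  rw [hb] at hmem
  have e : W (quad σ t u) = W (quad σ t v) * W (0, 0, v + u, σ (v + u) ^ 2) := by
    rw [quad, quad, W_mul]
    simp [CharTwo.add_sq, ← add_assoc, cancel2, CharTwo.add_self_eq_zero]
  rw [e]
  exact mul_mem hmem (hZ _)

/-- the fixed group is perfect -/
theorem perfect [Fintype K] (hσ : ∀ x, σ x = x ^ e) (hi : Inv2 σ) (h4 : 4 ≤ Fintype.card K) :
    commutator ↥(tw σ).fix = ⊤ := by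
  refine Twist.perfect_of_le (le_trans (twisted_eq_fix hσ hi).ge ?_)
  have hconj : ∀ z ∈ (tw σ).fix, ∀ y ∈ ⁅(tw σ).fix, (tw σ).fix⁆,
      z * y * z⁻¹ ∈ ⁅(tw σ).fix, (tw σ).fix⁆ := fun z hz y hy => by
    have h1 := Subgroup.commutator_le_self _ hy
    have : ⁅z, y⁆ * y ∈ ⁅(tw σ).fix, (tw σ).fix⁆ :=
      mul_mem (Subgroup.commutator_mem_commutator hz h1) hy
    simpa [commutatorElement_def] using this
  exact gen_le hσ (comm_pair hi h4) (comm_W hi h4)
    (fun y hy => hconj _ ((tw σ).nJ_fix (by decide)) y hy)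
    (fun y hy => hconj _ ((tw σ).nJ_fix (by decide)) y hy)

theorem marked (hi : Inv2 σ) : (tw σ).Marked := by
  intro i hlt
  change i < 4 at hlt
  have e0 : pw stdF4.good [24, 33] (fun _ => (1 : K)) ∈ (tw σ).fix := by
    have := pair_fix (σ := σ) hi 1
    rw [map_one, (commP (r := 33) (s := 24) (by decide +kernel) (1 : K) 1).eq] at this
    simpa [pw, xx] using this
  have e1 : pw stdF4.good [25, 27, 28, 30] (coord (quad σ (1 : K) 0)) ∈ (tw σ).fix := by
    rw [← W_eq_pw]; exact W_quad_fix hi _ _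
  interval_cases i
  · exact (tw σ).mark_of (L := [24, 33]) (by decide +kernel) e0 (by decide +kernel) one_ne_zero
  · refine (tw σ).mark_of (L := [25, 27, 28, 30]) (by decide +kernel) e1 (by decide +kernel) ?_
    rw [show chevF4.simple 1 = 27 by decide +kernel]
    simp [coord, quad]
  · refine (tw σ).mark_of (L := [25, 27, 28, 30]) (by decide +kernel) e1 (by decide +kernel) ?_
    rw [show chevF4.simple 2 = 25 by decide +kernel]
    simp [coord, quad]
  · exact (tw σ).mark_of (L := [24, 33]) (by decide +kernel) e0 (by decide +kernel) one_ne_zero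

theorem dihedral [Fintype K] (hi : Inv2 σ) :
    ∃ φ : ↥(chevF4.monomialSubgroup K ⊓ (tw σ).fix) →* DihedralGroup 8, Function.Surjective φ ∧
      φ.ker = (chevF4.diagonalSubgroup K ⊓ (tw σ).fix).subgroupOf
        (chevF4.monomialSubgroup K ⊓ (tw σ).fix) := by
  obtain ⟨φ, hs, hk⟩ := (split hi).coxeter (CoxeterMatrix.I 6) cox
  obtain ⟨E⟩ := coxeter_I_dihedral 6
  exact ⟨E.toMonoidHom.comp φ, E.surjective.comp hs, by
    rw [MulEquiv.toMonoidHom_eq_coe, MonoidHom.ker_mulEquiv_comp, hk]⟩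

/-- the field endomorphism -/
theorem exists_sigma {K : Type*} [Field K] [Fintype K] {m : ℕ}
    (hK : Fintype.card K = 2 ^ (2 * m + 1)) :
    CharP K 2 ∧ ∃ σ : K →+* K, (∀ x, σ x = x ^ (2 ^ m)) ∧ Inv2 σ := by
  have hp : Fact (Nat.Prime 2) := ⟨Nat.prime_two⟩
  have hc : CharP K 2 := charP_of_card_eq_prime_pow hK
  refine ⟨hc, iterateFrobenius K 2 m, fun x => iterateFrobenius_def 2 m x, fun x => ?_⟩
  rw [iterateFrobenius_def, iterateFrobenius_def, ← pow_mul, ← pow_mul, ← mul_assoc, ← pow_add, ← pow_succ,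
    show m + m + 1 = 2 * m + 1 by ring, ← hK, FiniteField.pow_card]

end CfsgLib.Chev.F42
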