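/-
The groups of type twisted D4.
-/
import Cfsg.Agent.Lib.Chev.Twist.Trip
import Cfsg.Agent.Lib.Chev.Twist.Frob
import Cfsg.Agent.Lib.Chev.Twist.FieldFix
import Cfsg.Agent.Lib.Chev.Twist.GraphData
import Cfsg.Agent.Lib.Chev.Data.FoldCheckD43
import Cfsg.Prelude.Def_LieTwisted

set_option autoImplicit false
set_option maxRecDepth 100000

namespace CfsgLib.Chev.D43

open Cfsg.Lie Matrix CfsgLib.Chev
open scoped commutatorElement

theorem braid : braidCheck chevD4 auxD4 foldD43 = true := by decide +kernel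
theorem extra : foldExtra chevD4 auxD4 foldD43 = true := by decide +kernel
theorem cox : orbCox chevD4 auxD4 foldD43 (fun i j => CoxeterMatrix.G₂ i j) = true := by decide +kernel
theorem top : ∃ e ∈ ftabD43, e.cnt = chevD4.posRoots.length := by
  have : (ftabD43.any fun e => decide (e.cnt = 12)) = true := by decide +kernel
  obtain ⟨e, he, hc⟩ := List.any_eq_true.1 this
  exact ⟨e, he, by rw [length_posRoots stdD4.good]; exact of_decide_eq_true hc⟩
theorem rho_eq : ∀ r < chevD4.nroots, foldD43.r r = symD4a.r r := by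
  decide +kernel
theorem poly : fixPoly 1 ftabD43 =
    ([[1, 1], pAdd (pMono 0) (pMono 3), pAdd (pMono 0) (pAdd (pMono 4) (pMono 8))] :
      List (List ℕ)).foldr pMul [1] := by
  decide +kernel

variable {K : Type*} [Field K] {q : ℕ} {σ : K →+* K}

/-- the folded endomorphism -/
noncomputable abbrev tw (σ : K →+* K) : Twist K stdD4 foldD43 :=
  Twist.ofGraph stdD4 foldD43_valid braid symD4a_valid rho_eq σ

lemma phi_eq {r : ℕ} (he : symD4a.e r = 1) (t : K) : (tw σ).phi r t = σ t := by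
  show (symD4a.e r : K) * σ t = σ t
  rw [he]; simp

lemma invol [Fintype K] (hσ : ∀ x, σ x = x ^ q) (hK : Fintype.card K = q ^ 3) (x : K) :
    σ (σ (σ x)) = x := by
  rw [hσ, hσ, hσ, ← pow_mul, ← pow_mul]
  rw [show q * (q * q) = Fintype.card K by rw [hK]; ring, FiniteField.pow_card]

lemma word1 (hσ : ∀ x, σ x = x ^ q) {r : ℕ} (hr : r ∈ [d4p2, d4m2]) {t : K}
    (ht : σ t = t) : xG stdD4.good r t ∈ twistedD4 K q := by
  have := word_mem_gen stdD4.good (S := d4Words K q) (w := [(r, t)])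
    (Or.inl ⟨t, by rw [← hσ, ht], r, hr, rfl⟩)
  simpa [twistedD4] using this

lemma word3 (hσ : ∀ x, σ x = x ^ q) {r s u : ℕ}
    (hr : (r, s, u) ∈ [(d4p1, d4p3, d4p4), (d4m1, d4m3, d4m4)]) (t : K) :
    xG stdD4.good r t * xG stdD4.good s (σ t) * xG stdD4.good u (σ (σ t)) ∈ twistedD4 K q := by
  have := word_mem_gen stdD4.good (S := d4Words K q) (w := [(r, t), (s, t ^ q), (u, t ^ (q ^ 2))])
    (Or.inr ⟨t, (r, s, u), hr, rfl⟩)
  simpa [twistedD4, hσ, ← pow_mul, sq, mul_assoc] using this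

lemma word3p (hσ : ∀ x, σ x = x ^ q) (t : K) :
    xG stdD4.good d4p1 t * xG stdD4.good d4p3 (σ t) * xG stdD4.good d4p4 (σ (σ t)) ∈ twistedD4 K q :=
  word3 hσ (by simp) t

lemma word3m (hσ : ∀ x, σ x = x ^ q) (t : K) :
    xG stdD4.good (auxD4.neg d4p1) t * xG stdD4.good (auxD4.neg d4p3) (σ t) *
      xG stdD4.good (auxD4.neg d4p4) (σ (σ t)) ∈ twistedD4 K q := by
  rw [show auxD4.neg d4p1 = d4m1 by decide +kernel, show auxD4.neg d4p3 = d4m3 by decide +kernel,
    show auxD4.neg d4p4 = d4m4 by decide +kernel]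
  exact word3 hσ (by simp) t

lemma fix_root {r : ℕ} (hr : r < chevD4.nroots) (hρ : foldD43.r r = r) (he : symD4a.e r = 1) {t : K}
    (ht : σ t = t) : xG stdD4.good r t ∈ (tw σ).fix := by
  have := (tw σ).maps_xG hr t
  rw [hρ, phi_eq he, ht] at this
  exact this

lemma trip_data : ∀ p ∈ [(d4p1, d4p3, d4p4), (d4m1, d4m3, d4m4)],
    commPair chevD4 auxD4 p.1 p.2.1 = true ∧ commPair chevD4 auxD4 p.1 p.2.2 = true ∧
      commPair chevD4 auxD4 p.2.1 p.2.2 = true ∧
      p.1 < chevD4.nroots ∧ p.2.1 < chevD4.nroots ∧ p.2.2 < chevD4.nroots ∧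
      foldD43.r p.1 = p.2.1 ∧ foldD43.r p.2.1 = p.2.2 ∧ foldD43.r p.2.2 = p.1 ∧
      symD4a.e p.1 = 1 ∧ symD4a.e p.2.1 = 1 ∧ symD4a.e p.2.2 = 1 := by
  decide +kernel

lemma fix_trip {r s u : ℕ} (hr : (r, s, u) ∈ [(d4p1, d4p3, d4p4), (d4m1, d4m3, d4m4)])
    (hinv : ∀ x, σ (σ (σ x)) = x) (t : K) :
    xG stdD4.good r t * xG stdD4.good s (σ t) * xG stdD4.good u (σ (σ t)) ∈ (tw σ).fix := by
  obtain ⟨c1, c2, -, lr, ls, lu, hr', hs', hu', er, es, eu⟩ := trip_data _ hr
  have := Twist.Maps.mul _ (Twist.Maps.mul _ ((tw σ).maps_xG lr t) ((tw σ).maps_xG ls (σ t)))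
    ((tw σ).maps_xG lu (σ (σ t)))
  dsimp only at hr' hs' hu' er es eu c1 c2
  rw [hr', hs', hu', phi_eq er, phi_eq es, phi_eq eu, hinv] at this
  have hc : Commute (xG stdD4.good r t) (xG stdD4.good s (σ t) * xG stdD4.good u (σ (σ t))) :=
    (commute_xG stdD4 c1 _ _).mul_right (commute_xG stdD4 c2 _ _)
  rw [← hc.eq, ← mul_assoc] at this
  exact this

lemma twisted_le_fix [Fintype K] (hσ : ∀ x, σ x = x ^ q) (hK : Fintype.card K = q ^ 3) :
    twistedD4 K q ≤ (tw σ).fix := by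
  rw [twistedD4, genSubgroup_eq stdD4.good, Subgroup.closure_le]
  rintro y ⟨w, hw, rfl⟩
  rcases hw with ⟨t, ht, r, hr, rfl⟩ | ⟨t, rs, hrs, rfl⟩
  · simp only [List.map_cons, List.map_nil, List.prod_cons, List.prod_nil, mul_one, SetLike.mem_coe]
    have : ∀ r ∈ [d4p2, d4m2],
        r < chevD4.nroots ∧ foldD43.r r = r ∧ symD4a.e r = 1 := by decide +kernel
    obtain ⟨h1, h2, h3⟩ := this r hr
    exact fix_root h1 h2 h3 (by rw [hσ]; exact ht)
  · simp only [List.map_cons, List.map_nil, List.prod_cons, List.prod_nil, mul_one, SetLike.mem_coe]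
    rw [← hσ, show t ^ q ^ 2 = σ (σ t) by rw [hσ, hσ, ← pow_mul, sq], ← mul_assoc]
    exact fix_trip hrs (invol hσ hK) t

lemma num_cases {j : ℕ} (hj : j < foldD43.num) : j = 0 ∨ j = 1 := by
  change j < 2 at hj; omega

lemma phi_two (hinv : ∀ x, σ (σ (σ x)) = x) (t : K) :
    (tw σ).phi d4p4 ((tw σ).phi d4p3 ((tw σ).phi d4p1 t)) = t := by
  rw [phi_eq (show symD4a.e d4p1 = 1 by decide +kernel),
    phi_eq (show symD4a.e d4p3 = 1 by decide +kernel),
    phi_eq (show symD4a.e d4p4 = 1 by decide +kernel), hinv]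

lemma class_card [Fintype K] (hσ : ∀ x, σ x = x ^ q) (hK : Fintype.card K = q ^ 3) (hq : 2 ≤ q)
    (j : ℕ) (hj : j < foldD43.num) :
    Nat.card ↥((tw σ).V (foldD43.w j)) = q ^ ([1, 3].getD j 0) := by
  have hfix : Nat.card {t : K // σ t = t} = q := by
    simp only [hσ]; exact card_pow_fixed (k := 3) (by norm_num) hq hK
  rcases num_cases hj with rfl | rfl
  · rw [((tw σ).class_one hj (r := d4p2) (by decide +kernel) (by decide +kernel)).1]
    simp only [phi_eq (show symD4a.e d4p2 = 1 by decide +kernel)]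
    simpa using hfix
  · rw [((tw σ).class_three hj (r := d4p1) (s := d4p3) (u := d4p4) (by decide +kernel)
      (by decide +kernel) (by decide +kernel) (by decide +kernel) (by decide +kernel) (by decide +kernel)
      (by decide +kernel) (phi_two (invol hσ hK))).1, hK]
    rfl

lemma class_le [Fintype K] (hσ : ∀ x, σ x = x ^ q) (hK : Fintype.card K = q ^ 3)
    (j : ℕ) (hj : j < foldD43.num) : (tw σ).V (foldD43.w j) ≤ twistedD4 K q := by
  intro y hy
  rcases num_cases hj with rfl | rfl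
  · obtain ⟨t, ht, rfl⟩ :=
      (((tw σ).class_one hj (r := d4p2) (by decide +kernel) (by decide +kernel)).2 y).1 hy
    exact word1 hσ (by simp) (by rwa [phi_eq (show symD4a.e d4p2 = 1 by decide +kernel)] at ht)
  · obtain ⟨t, rfl⟩ := (((tw σ).class_three hj (r := d4p1) (s := d4p3) (u := d4p4) (by decide +kernel)
      (by decide +kernel) (by decide +kernel) (by decide +kernel) (by decide +kernel) (by decide +kernel)
      (by decide +kernel) (phi_two (invol hσ hK))).2 y).1 hy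
    rw [phi_eq (show symD4a.e d4p1 = 1 by decide +kernel),
      phi_eq (show symD4a.e d4p3 = 1 by decide +kernel)]
    exact word3p hσ t

lemma single_nG (hσ : ∀ x, σ x = x ^ q) {c : K} (hc : σ c = c) :
    nG stdD4.good d4p2 c ∈ twistedD4 K q :=
  nG_one_mem stdD4.good (by decide +kernel) (word1 hσ (by simp) hc)
    (word1 hσ (by rw [show auxD4.neg d4p2 = d4m2 by decide +kernel]; simp)
      (by rw [map_neg, map_inv₀, hc]))

lemma tripOK : TripOK chevD4 auxD4 d4p1 d4p3 d4p4 := by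
  unfold TripOK PairOK
  decide +kernel

lemma nJ_mem (hσ : ∀ x, σ x = x ^ q) (j : ℕ) (hj : j < foldD43.num) :
    (tw σ).nJ j ∈ twistedD4 K q := by
  rcases num_cases hj with rfl | rfl
  · have e : (tw σ).nJ 0 = nG stdD4.good d4p2 1 := by
      show nW K stdD4.good [1] = _
      simp only [nW, List.map_cons, List.map_nil, List.prod_cons, List.prod_nil, mul_one, nS]
      rw [show chevD4.simple 1 = d4p2 by decide +kernel]
    rw [e]; exact single_nG hσ σ.map_one
  · have e : (tw σ).nJ 1 = nG stdD4.good d4p1 1 * nG stdD4.good d4p3 1 * nG stdD4.good d4p4 1 := by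
      show nW K stdD4.good [0, 2, 3] = _
      simp only [nW, List.map_cons, List.map_nil, List.prod_cons, List.prod_nil, mul_one, nS]
      rw [show chevD4.simple 0 = d4p1 by decide +kernel, show chevD4.simple 2 = d4p3 by decide +kernel,
        show chevD4.simple 3 = d4p4 by decide +kernel, mul_assoc]
    rw [e]
    have := nG_trip_mem stdD4 tripOK (σ := σ) (word3p hσ) (word3m hσ) 1
    rwa [map_one, map_one] at this

/-- index -/
def ix (i : Fin 4) : Fin chevD4.rank := i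

lemma theta_ix (c : Fin chevD4.rank → Kˣ) :
    ((tw σ).theta c (ix 0) : K) = σ (c (ix 3)) ∧ ((tw σ).theta c (ix 1) : K) = σ (c (ix 1)) ∧
      ((tw σ).theta c (ix 2) : K) = σ (c (ix 0)) ∧ ((tw σ).theta c (ix 3) : K) = σ (c (ix 2)) := by
  have hθ : ∀ i k : Fin 4, foldD43.p i.val = k.val →
      (((tw σ).theta c (ix k) : Kˣ) : K) = σ (c (ix i)) := fun i k e =>
    (tw σ).theta_apply c (i := ix i) (k := ix k) e
  exact ⟨hθ 3 0 rfl, hθ 1 1 rfl, hθ 0 2 rfl, hθ 2 3 rfl⟩

lemma ext_ix {a b : Fin chevD4.rank → Kˣ} (h : ∀ k : Fin 4, a (ix k) = b (ix k)) : a = b :=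
  funext h

lemma thetaFix_iff (c : Fin chevD4.rank → Kˣ) :
    c ∈ (tw σ).thetaFix ↔ σ (c (ix 3)) = c (ix 0) ∧ σ (c (ix 1)) = c (ix 1) ∧
      σ (c (ix 0)) = c (ix 2) ∧ σ (c (ix 2)) = c (ix 3) := by
  obtain ⟨t0, t1, t2, t3⟩ := theta_ix (σ := σ) c
  rw [Twist.mem_thetaFix]
  constructor
  · intro hc
    rw [hc] at t0 t1 t2 t3
    exact ⟨t0.symm, t1.symm, t2.symm, t3.symm⟩
  · rintro ⟨h0, h1, h2, h3⟩
    refine ext_ix fun k => Units.ext ?_
    fin_cases k
    exacts [t0.trans h0, t1.trans h1, t2.trans h2, t3.trans h3]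

/-- the Cartan matrix -/
def cm : List (List ℤ) :=
  [[2, -1, 0, 0], [-1, 2, -1, -1], [0, -1, 2, 0], [0, -1, 0, 2]]

lemma cartan_eq : ∀ i k : Fin 4,
    cartanM chevD4 auxD4 (ix i) (ix k) = (cm.getD i.val []).getD k.val 0 := by
  decide +kernel

lemma ker_form {z : Fin chevD4.rank → Kˣ} (hz : (tor chevD4 auxD4 z : GL chevD4.Idx K) = 1) :
    z (ix 0) ^ 2 = 1 ∧ z (ix 1) = 1 ∧ z (ix 2) ^ 2 = 1 ∧ z (ix 3) ^ 2 = 1 ∧
      z (ix 0) * z (ix 2) * z (ix 3) = 1 := by
  have hC := cartan_eq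
  have key : ∀ k : Fin 4, ∏ i : Fin 4, z (ix i) ^ cartanM chevD4 auxD4 (ix i) (ix k) = 1 :=
    fun k => chi_simple_eq_one stdD4.good hz (ix k)
  have e0 := key 0
  have e1 := key 1
  have e2 := key 2
  have e3 := key 3
  simp only [Fin.prod_univ_four, hC, cm, List.getD_cons_zero, List.getD_cons_succ, Fin.val_zero,
    Fin.val_one, Fin.val_two, show ((3 : Fin 4) : ℕ) = 3 from rfl, zpow_zero, mul_one, one_mul,
    _root_.zpow_neg, zpow_one, zpow_ofNat, pow_zero, pow_one] at e0 e1 e2 e3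
  rw [mul_inv_eq_one] at e0
  rw [inv_mul_eq_one] at e2 e3
  set a := z (ix 0)
  set b := z (ix 1)
  set c := z (ix 2)
  set d := z (ix 3)
  have f1 : b ^ 2 = a * c * d := by
    rw [← one_mul (a * c * d), ← e1]
    apply Additive.ofMul.injective
    simp only [ofMul_mul, ofMul_inv, ofMul_pow]
    abel
  have g1 : (b ^ 2) ^ 2 = b * b * b := by
    rw [f1, mul_pow, mul_pow, e0, ← e2, ← e3]
  have hb : b = 1 := by
    have : b * (b * b * b) = 1 * (b * b * b) := by
      rw [one_mul]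
      refine Eq.trans ?_ g1
      simp only [pow_two, mul_assoc]
    exact mul_right_cancel this
  exact ⟨e0.trans hb, hb, e2.symm.trans hb, e3.symm.trans hb, by rw [← f1, hb, one_pow]⟩

lemma sgn_fix {a : Kˣ} (ha : a ^ 2 = 1) : σ (a : K) = a := by
  have : (a : K) ^ 2 = 1 := by rw [← Units.val_pow_eq_pow_val, ha, Units.val_one]
  rcases sq_eq_one_iff.1 this with e | e <;> simp [e]

lemma diag_eq : chevD4.diagonalSubgroup K ⊓ (tw σ).fix = (tw σ).thetaFix.map (tor chevD4 auxD4) := by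
  refine (tw σ).diag_fix_eq fun c hc => ?_
  obtain ⟨z, hz⟩ : ∃ z, z = (tw σ).theta c * c⁻¹ := ⟨_, rfl⟩
  have hz1 : (tor chevD4 auxD4 z : GL chevD4.Idx K) = 1 := by
    rw [hz, map_mul, map_inv, hc, mul_inv_cancel]
  have hw : (tor chevD4 auxD4 ((tw σ).theta z) : GL chevD4.Idx K) = 1 := by
    refine Twist.Maps.fun_eq _ ((tw σ).maps_theta z) ?_
    rw [hz1]
    exact (tw σ).maps_one
  obtain ⟨a2, hb, c2, d2, hp⟩ := ker_form hz1
  obtain ⟨u0, u1, u2, u3⟩ := theta_ix (σ := σ) z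
  rw [sgn_fix d2] at u0
  rw [sgn_fix a2] at u2
  rw [sgn_fix c2] at u3
  rw [hb, Units.val_one, map_one] at u1
  obtain ⟨v0, v1, v2, v3⟩ := theta_ix (σ := σ) ((tw σ).theta z)
  rw [u3, sgn_fix c2] at v0
  rw [u0, sgn_fix d2] at v2
  rw [u2, sgn_fix a2] at v3
  rw [u1, map_one] at v1
  refine ⟨(tw σ).theta z, hw, ?_⟩
  have e : (tw σ).theta c = z * c := by rw [hz, inv_mul_cancel_right]
  rw [map_mul, e, mul_comm z c, mul_assoc]
  congr 1
  refine ext_ix fun k => Units.ext ?_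
  have hp' : (z (ix 0) : K) * z (ix 2) * z (ix 3) = 1 := by
    rw [← Units.val_mul, ← Units.val_mul, hp, Units.val_one]
  have sq1 : ∀ a : Kˣ, a ^ 2 = 1 → (a : K) * a = 1 := fun a ha => by
    rw [← Units.val_mul, ← sq, ha, Units.val_one]
  have A2 := sq1 _ a2
  have C2 := sq1 _ c2
  have D2 := sq1 _ d2
  show ((z (ix k) * (tw σ).theta ((tw σ).theta z) (ix k) : Kˣ) : K) = (tw σ).theta z (ix k)
  rw [Units.val_mul]
  have key : ∀ k : Fin 4, (z (ix k) : K) * (tw σ).theta ((tw σ).theta z) (ix k) =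
      (tw σ).theta z (ix k) := by
    intro k
    fin_cases k
    · show (z (ix 0) : K) * (tw σ).theta ((tw σ).theta z) (ix 0) = (tw σ).theta z (ix 0)
      rw [v0, u0]
      linear_combination (z (ix 3) : K) * hp' - (z (ix 0) : K) * z (ix 2) * D2
    · show (z (ix 1) : K) * (tw σ).theta ((tw σ).theta z) (ix 1) = (tw σ).theta z (ix 1)
      rw [v1, u1, hb, Units.val_one, one_mul]
    · show (z (ix 2) : K) * (tw σ).theta ((tw σ).theta z) (ix 2) = (tw σ).theta z (ix 2)
      rw [v2, u2]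
      linear_combination (z (ix 0) : K) * hp' - (z (ix 2) : K) * z (ix 3) * A2
    · show (z (ix 3) : K) * (tw σ).theta ((tw σ).theta z) (ix 3) = (tw σ).theta z (ix 3)
      rw [v3, u3]
      linear_combination (z (ix 2) : K) * hp' - (z (ix 3) : K) * z (ix 0) * C2
  exact key k

lemma card_diag [Fintype K] (hσ : ∀ x, σ x = x ^ q) (hK : Fintype.card K = q ^ 3) (hq : 2 ≤ q) :
    Nat.card ↥(chevD4.diagonalSubgroup K ⊓ (tw σ).fix) = (q - 1) * (q ^ 3 - 1) := by
  have hker : ((tor chevD4 auxD4).ker ⊓ (tw σ).thetaFix : Subgroup (Fin chevD4.rank → Kˣ)) = ⊥ := by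
    rw [eq_bot_iff]
    intro z hz
    obtain ⟨hz, hzf⟩ := Subgroup.mem_inf.1 hz
    obtain ⟨a2, hb, c2, d2, hp⟩ := ker_form hz
    obtain ⟨-, -, h2, h3⟩ := (thetaFix_iff _).1 hzf
    rw [sgn_fix a2] at h2
    rw [sgn_fix c2] at h3
    have ec : z (ix 2) = z (ix 0) := (Units.ext h2).symm
    have ed : z (ix 3) = z (ix 0) := by rw [← ec]; exact (Units.ext h3).symm
    rw [ec, ed, ← sq, a2, one_mul] at hp
    rw [Subgroup.mem_bot]
    refine ext_ix fun k => ?_
    fin_cases k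
    exacts [hp, hb, ec.trans hp, ed.trans hp]
  have h := Twist.card_map_tor (D := chevD4) (A := auxD4) (tw σ).thetaFix
  rw [hker, Subgroup.card_bot, one_mul] at h
  rw [diag_eq, h]
  have hu : Nat.card {u : Kˣ // σ (u : K) = u} = q - 1 := by
    have e : {u : Kˣ // σ (u : K) = u} ≃ (powMonoidHom (q - 1) : Kˣ →* Kˣ).ker :=
      Equiv.subtypeEquivRight fun u => by
        obtain ⟨m, rfl⟩ : ∃ m, q = m + 1 := ⟨q - 1, by omega⟩
        rw [hσ, MonoidHom.mem_ker, powMonoidHom_apply, Nat.add_sub_cancel, pow_succ, Units.ext_iff,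
          Units.val_pow_eq_pow_val, Units.val_one]
        exact mul_eq_right₀ u.ne_zero
    rw [Nat.card_congr e, IsCyclic.card_powMonoidHom_ker, Nat.card_units, Nat.card_eq_fintype_card,
      hK]
    refine Nat.gcd_eq_right ?_
    simpa using Nat.sub_dvd_pow_sub_pow q 1 3
  have hinv := invol hσ hK
  let S := {u : Kˣ // σ (u : K) = u}
  let e : ↥(tw σ).thetaFix ≃ S × Kˣ :=
    { toFun := fun c => (⟨c.1 (ix 1), ((thetaFix_iff c.1).1 c.2).2.1⟩, c.1 (ix 0))
      invFun := fun p => ⟨(![p.2, p.1.1, Units.map σ.toMonoidHom p.2,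
          Units.map σ.toMonoidHom (Units.map σ.toMonoidHom p.2)] : Fin 4 → Kˣ),
        (thetaFix_iff _).2 ⟨hinv _, p.1.2, rfl, rfl⟩⟩
      left_inv := fun c => by
        obtain ⟨-, -, h2, h3⟩ := (thetaFix_iff c.1).1 c.2
        refine Subtype.ext (ext_ix fun k => ?_)
        have key : ∀ k : Fin 4, (![c.1 (ix 0), c.1 (ix 1), Units.map σ.toMonoidHom (c.1 (ix 0)),
            Units.map σ.toMonoidHom (Units.map σ.toMonoidHom (c.1 (ix 0)))] :
            Fin 4 → Kˣ) k = c.1 (ix k) := by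
          intro k
          fin_cases k
          exacts [rfl, rfl, Units.ext h2, Units.ext ((congrArg σ h2).trans h3)]
        exact key k
      right_inv := fun p => rfl }
  rw [Nat.card_congr e, Nat.card_prod, hu, Nat.card_units, Nat.card_eq_fintype_card, hK]

lemma diag_le (hσ : ∀ x, σ x = x ^ q) :
    chevD4.diagonalSubgroup K ⊓ (tw σ).fix ≤ twistedD4 K q := by
  rw [diag_eq]
  rintro y ⟨c, hc, rfl⟩
  obtain ⟨-, e1, e2, e3⟩ := (thetaFix_iff c).1 hc
  have g := stdD4.good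
  have hs : chevD4.simple 0 = d4p1 ∧ chevD4.simple 1 = d4p2 ∧ chevD4.simple 2 = d4p3 ∧
      chevD4.simple 3 = d4p4 := by decide +kernel
  have hi : ∀ i : Fin 4, hG g (chevD4.simple i.val) (c (ix i) : K) =
      tor chevD4 auxD4 (Pi.mulSingle (ix i) (c (ix i)) : Fin chevD4.rank → Kˣ) :=
    fun i => hG_simple g (ix i) _
  have hc' : tor chevD4 auxD4 c = hG g d4p2 (c (ix 1) : K) *
      (hG g d4p1 (c (ix 0) : K) * hG g d4p3 (c (ix 2) : K) * hG g d4p4 (c (ix 3) : K)) := by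
    have p0 := hi 0
    have p1 := hi 1
    have p2 := hi 2
    have p3 := hi 3
    simp only [Fin.val_zero, Fin.val_one, Fin.val_two, show ((3 : Fin 4) : ℕ) = 3 from rfl,
      hs.1, hs.2.1, hs.2.2.1, hs.2.2.2] at p0 p1 p2 p3
    rw [p0, p1, p2, p3, ← map_mul, ← map_mul, ← map_mul]
    congr 1
    conv_lhs => rw [← Finset.univ_prod_mulSingle (f := c)]
    show ∏ i : Fin 4, (Pi.mulSingle (ix i) (c (ix i)) : Fin chevD4.rank → Kˣ) = _
    rw [Fin.prod_univ_four]
    simp only [mul_assoc, mul_left_comm, mul_comm]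
  rw [hc', ← e3, ← e2]
  exact mul_mem (mul_mem (single_nG hσ e1) (single_nG hσ (by rw [map_neg, map_one])))
    (hG_trip_mem stdD4 tripOK (word3p hσ) (word3m hσ) _)

/-- the twisted group is the fixed group -/
theorem twisted_eq_fix [Fintype K] (hσ : ∀ x, σ x = x ^ q) (hK : Fintype.card K = q ^ 3) :
    twistedD4 K q = (tw σ).fix :=
  le_antisymm (twisted_le_fix hσ hK)
    ((tw σ).fix_le ftabD43_ok top (nJ_mem hσ) (class_le hσ hK) (diag_le hσ))

lemma two_le [Fintype K] (hK : Fintype.card K = q ^ 3) : 2 ≤ q := by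
  have h := Fintype.one_lt_card (α := K)
  rw [hK] at h
  rcases q with _ | _ | q <;> simp_all

theorem split [Fintype K] (hσ : ∀ x, σ x = x ^ q) (hK : Fintype.card K = q ^ 3) :
    (tw σ).Split ftabD43 where
  tab := ftabD43_ok
  extra := extra
  ne j hj := by
    refine (tw σ).ne_bot_of_card ?_
    rw [class_card hσ hK (two_le hK) j hj]
    have hq := two_le hK
    refine le_trans hq (Nat.le_self_pow ?_ q)
    rcases num_cases hj with rfl | rfl <;> simp

theorem orders [Fintype K] (hσ : ∀ x, σ x = x ^ q) (hK : Fintype.card K = q ^ 3) :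
    Nat.card ↥(chevD4.posUnipotent K ⊓ (tw σ).fix) = q ^ 12 ∧
    Nat.card ↥(tw σ).fix = q ^ 12 * (q ^ 2 - 1) * (q ^ 6 - 1) * (q ^ 8 + q ^ 4 + 1) := by
  obtain ⟨e₀, he₀, hcnt⟩ := top
  have hq := two_le hK
  have hsz : ∀ j < foldD43.num, nInv chevD4 auxD4 (foldD43.w j) = 1 * [1, 3].getD j 0 := by
    intro j hj
    have hl : ∀ (j : ℕ) (L : List ℕ), j < foldD43.num →
        Twist.orbitIs chevD4 auxD4 foldD43 j L = true →
        nInv chevD4 auxD4 (foldD43.w j) = L.length := fun j L hj e =>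
      ((tw σ).orbit_roots hj e).2.2
    rcases num_cases hj with rfl | rfl
    · exact hl 0 [d4p2] hj (by decide +kernel)
    · exact hl 1 [d4p1, d4p3, d4p4] hj (by decide +kernel)
  obtain ⟨hU, hX⟩ := (tw σ).card_formula ftabD43_ok (d := 1) one_pos hsz
    (class_card hσ hK hq) he₀ hcnt
  have h12 : chevD4.posRoots.length = 12 := by
    rw [length_posRoots stdD4.good]; rfl
  rw [Nat.div_one, hcnt, h12] at hU hX
  refine ⟨hU, ?_⟩
  have hp := congrArg (pEval q) poly
  simp only [pEval_prod, List.map_cons, List.map_nil, List.prod_cons, List.prod_nil,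
    mul_one, pEval_add, pEval_mono, pow_zero] at hp
  rw [show pEval q [1, 1] = q + 1 by simp [pEval, add_comm]] at hp
  rw [hX, card_diag hσ hK hq, hp, show q ^ 2 - 1 = (q + 1) * (q - 1) by
      rw [← Nat.sq_sub_sq, one_pow],
    show q ^ 6 - 1 = (q ^ 3 + 1) * (q ^ 3 - 1) by
      rw [← Nat.sq_sub_sq, one_pow, ← pow_mul]]
  ring

lemma four_le [Fintype K] (hK : Fintype.card K = q ^ 3) : 4 ≤ Fintype.card K := by
  have := two_le hK
  rw [hK]
  calc 4 ≤ 2 ^ 3 := by norm_num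
    _ ≤ q ^ 3 := Nat.pow_le_pow_left this 3

/-- the fixed group is perfect -/
theorem perfect [Fintype K] (hσ : ∀ x, σ x = x ^ q) (hK : Fintype.card K = q ^ 3) :
    commutator ↥(tw σ).fix = ⊤ := by
  have g := stdD4.good
  refine Twist.perfect_of_le ?_
  set X := (tw σ).fix
  refine le_trans (twisted_eq_fix hσ hK).ge ?_
  rw [twistedD4, genSubgroup_eq g, Subgroup.closure_le]
  rintro y ⟨w, hw, rfl⟩
  rcases hw with ⟨t, ht, r, hr, rfl⟩ | ⟨t, rs, hrs, rfl⟩
  · simp only [List.map_cons, List.map_nil, List.prod_cons, List.prod_nil, mul_one, SetLike.mem_coe]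
    have key : ∀ r ∈ [d4p2, d4m2], ∃ a ∈ [23, auxD4.neg 23], ∃ b ∈ [22, auxD4.neg 22],
        a < chevD4.nroots ∧ b < chevD4.nroots ∧
        foldD43.r a = a ∧ foldD43.r b = b ∧ symD4a.e a = 1 ∧ symD4a.e b = 1 ∧ b ≠ a ∧
          b ≠ auxD4.neg a ∧ (auxD4.terms a b = [(r, 1, 1, 1)] ∨ auxD4.terms a b = [(r, -1, 1, 1)]) := by
      decide +kernel
    obtain ⟨a, -, b, -, ha, hb, ra, rb, ea, eb, hne, hnn, hT⟩ := key r hr
    have ht' : σ t = t := by rw [hσ]; exact ht
    rcases hT with hT | hT <;>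
      refine comm_root stdD4 ha hb hne hnn hT (by simp) (fix_root ha ra ea (by simp))
        (fix_root hb rb eb (by simp [ht']))
  · simp only [List.map_cons, List.map_nil, List.prod_cons, List.prod_nil, mul_one, SetLike.mem_coe]
    rw [← hσ, show t ^ q ^ 2 = σ (σ t) by rw [hσ, hσ, ← pow_mul, sq], ← mul_assoc]
    obtain ⟨u, hu⟩ := exists_sq_ne_one (four_le hK)
    obtain ⟨r₁, r₂, r₃⟩ := rs
    dsimp only
    set hh := hG g d4p1 (u : K) * hG g d4p3 (σ (u : K)) * hG g d4p4 (σ (σ (u : K))) with hhdef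
    have hX : X = twistedD4 K q := (twisted_eq_fix hσ hK).symm
    have hhX : hh ∈ X := by
      rw [hX]
      exact hG_trip_mem stdD4 tripOK (word3p hσ) (word3m hσ) _
    obtain ⟨c1, c2, c3, l1, l2, l3, -⟩ := trip_data _ hrs
    dsimp only at c1 c2 c3 l1 l2 l3
    let W : K → GL chevD4.Idx K :=
      fun a => xG g r₁ a * xG g r₂ (σ a) * xG g r₃ (σ (σ a))
    have hk : ∀ (i : ℕ), i < chevD4.rank → ∀ (v : Kˣ) (a b c : K) (za zb zc : ℤ),
        auxD4.cart i r₁ = za → auxD4.cart i r₂ = zb → auxD4.cart i r₃ = zc →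
        hG g (chevD4.simple i) (v : K) * (xG g r₁ a * xG g r₂ b * xG g r₃ c) *
            (hG g (chevD4.simple i) (v : K))⁻¹ =
          xG g r₁ ((v : K) ^ za * a) * xG g r₂ ((v : K) ^ zb * b) * xG g r₃ ((v : K) ^ zc * c) := by
      intro i hi v a b c za zb zc ea eb ec
      rw [← hG_conj_xG g hi v l1 ea, ← hG_conj_xG g hi v l2 eb, ← hG_conj_xG g hi v l3 ec]
      group
    have hconj : ∀ z : ℤ, auxD4.cart 0 r₁ = z → auxD4.cart 0 r₂ = 0 → auxD4.cart 0 r₃ = 0 →
        auxD4.cart 2 r₁ = 0 → auxD4.cart 2 r₂ = z → auxD4.cart 2 r₃ = 0 →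
        auxD4.cart 3 r₁ = 0 → auxD4.cart 3 r₂ = 0 → auxD4.cart 3 r₃ = z →
        ∀ a, hh * W a * hh⁻¹ = W ((u : K) ^ z * a) := by
      intro z a1 a2 a3 b1 b2 b3 d1 d2 d3 a
      have s0 : chevD4.simple 0 = d4p1 := by decide +kernel
      have s2 : chevD4.simple 2 = d4p3 := by decide +kernel
      have s3 : chevD4.simple 3 = d4p4 := by decide +kernel
      set u1 : Kˣ := Units.map σ.toMonoidHom u
      set u2 : Kˣ := Units.map σ.toMonoidHom u1
      have k1 := hk 0 (by decide +kernel) u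
      have k2 := hk 2 (by decide +kernel) u1
      have k3 := hk 3 (by decide +kernel) u2
      rw [s0] at k1
      rw [s2] at k2
      rw [s3] at k3
      show hG g d4p1 (u : K) * hG g d4p3 (u1 : K) * hG g d4p4 (u2 : K) * W a *
        (hG g d4p1 (u : K) * hG g d4p3 (u1 : K) * hG g d4p4 (u2 : K))⁻¹ = _
      rw [show hG g d4p1 (u : K) * hG g d4p3 (u1 : K) * hG g d4p4 (u2 : K) * W a *
        (hG g d4p1 (u : K) * hG g d4p3 (u1 : K) * hG g d4p4 (u2 : K))⁻¹ =
        hG g d4p1 (u : K) * (hG g d4p3 (u1 : K) * (hG g d4p4 (u2 : K) * W a *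
          (hG g d4p4 (u2 : K))⁻¹) * (hG g d4p3 (u1 : K))⁻¹) * (hG g d4p1 (u : K))⁻¹ by group]
      show hG g d4p1 (u : K) * (hG g d4p3 (u1 : K) * (hG g d4p4 (u2 : K) *
        (xG g r₁ a * xG g r₂ (σ a) * xG g r₃ (σ (σ a))) *
          (hG g d4p4 (u2 : K))⁻¹) * (hG g d4p3 (u1 : K))⁻¹) * (hG g d4p1 (u : K))⁻¹ = _
      rw [k3 a _ _ 0 0 z d1 d2 d3, k2 _ _ _ 0 z 0 b1 b2 b3, k1 _ _ _ z 0 0 a1 a2 a3]
      show _ = xG g r₁ _ * xG g r₂ (σ _) * xG g r₃ (σ (σ _))
      simp only [zpow_zero, one_mul, map_mul, map_zpow₀]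
      rfl
    have hWX : ∀ a, W a ∈ X := fun a => by rw [hX]; exact word3 hσ hrs a
    have hWadd : ∀ a b, W a * W b = W (a + b) := fun a b => by
      show xG g r₁ a * xG g r₂ (σ a) * xG g r₃ (σ (σ a)) *
        (xG g r₁ b * xG g r₂ (σ b) * xG g r₃ (σ (σ b))) = xG g r₁ _ * xG g r₂ (σ _) * xG g r₃ (σ (σ _))
      have q2 : Commute (xG g r₁ b) (xG g r₂ (σ a) * xG g r₃ (σ (σ a))) :=
        (commute_xG stdD4 c1 _ _).mul_right (commute_xG stdD4 c2 _ _)
      have q3 : Commute (xG g r₂ (σ b)) (xG g r₃ (σ (σ a))) := commute_xG stdD4 c3 _ _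
      calc _ = xG g r₁ a * ((xG g r₂ (σ a) * xG g r₃ (σ (σ a))) * xG g r₁ b) *
            xG g r₂ (σ b) * xG g r₃ (σ (σ b)) := by group
        _ = xG g r₁ a * xG g r₁ b * (xG g r₂ (σ a) * (xG g r₃ (σ (σ a)) * xG g r₂ (σ b))) *
            xG g r₃ (σ (σ b)) := by rw [← q2.eq]; group
        _ = (xG g r₁ a * xG g r₁ b) * (xG g r₂ (σ a) * xG g r₂ (σ b)) *
            (xG g r₃ (σ (σ a)) * xG g r₃ (σ (σ b))) := by rw [← q3.eq]; group
        _ = _ := by rw [xG_add, xG_add, xG_add, map_add, map_add]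
    simp only [List.mem_cons, List.not_mem_nil, or_false, Prod.mk.injEq] at hrs
    rcases hrs with ⟨rfl, rfl, rfl⟩ | ⟨rfl, rfl, rfl⟩
    · exact comm_family hWadd hWX hhX (by simpa [zpow_ofNat] using hu)
        (hconj 2 (by decide +kernel) (by decide +kernel) (by decide +kernel) (by decide +kernel)
          (by decide +kernel) (by decide +kernel) (by decide +kernel) (by decide +kernel)
          (by decide +kernel)) t
    · refine comm_family hWadd hWX hhX ?_
        (hconj (-2) (by decide +kernel) (by decide +kernel) (by decide +kernel) (by decide +kernel)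
          (by decide +kernel) (by decide +kernel) (by decide +kernel) (by decide +kernel)
          (by decide +kernel)) t
      rw [_root_.zpow_neg, zpow_ofNat]
      exact fun e => hu (by simpa using congrArg (·⁻¹) e)

theorem marked [Fintype K] (hσ : ∀ x, σ x = x ^ q) (hK : Fintype.card K = q ^ 3) :
    (tw σ).Marked := by
  intro i hi
  change i < 4 at hi
  have hs1 : σ 1 = (1 : K) := σ.map_one
  have e1 : pw stdD4.good [d4p2] (fun _ => (1 : K)) ∈ (tw σ).fix := by
    simpa [pw] using fix_root (σ := σ) (show d4p2 < chevD4.nroots by decide +kernel)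
      (by decide +kernel) (by decide +kernel) hs1
  have e3 : pw stdD4.good [d4p4, d4p3, d4p1] (fun _ => (1 : K)) ∈ (tw σ).fix := by
    have := fix_trip (σ := σ) (r := d4p1) (s := d4p3) (u := d4p4) (by simp) (invol hσ hK) (1 : K)
    simp only [hs1] at this
    obtain ⟨c1, c2, c3, -⟩ := trip_data (d4p1, d4p3, d4p4) (by simp)
    dsimp only at c1 c2 c3
    rw [mul_assoc] at this
    rw [((commute_xG stdD4 c1 (1 : K) 1).mul_right (commute_xG stdD4 c2 1 1)).eq,
      (commute_xG stdD4 c3 (1 : K) 1).eq] at this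
    simpa [pw, mul_assoc] using this
  interval_cases i
  · exact (tw σ).mark_of (L := [d4p4, d4p3, d4p1]) (by decide +kernel) e3 (by decide +kernel) one_ne_zero
  · exact (tw σ).mark_of (L := [d4p2]) (by decide +kernel) e1 (by decide +kernel) one_ne_zero
  · exact (tw σ).mark_of (L := [d4p4, d4p3, d4p1]) (by decide +kernel) e3 (by decide +kernel) one_ne_zero
  · exact (tw σ).mark_of (L := [d4p4, d4p3, d4p1]) (by decide +kernel) e3 (by decide +kernel) one_ne_zero

end CfsgLib.Chev.D43
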