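/-
The groups of type twisted E6.
-/
import Cfsg.Agent.Lib.Chev.Twist.Count
import Cfsg.Agent.Lib.Chev.Twist.Frob
import Cfsg.Agent.Lib.Chev.Twist.FieldFix
import Cfsg.Agent.Lib.Chev.Twist.GraphData
import Cfsg.Agent.Lib.Chev.Data.FoldCheckE62
import Cfsg.Prelude.Def_LieTwisted

set_option autoImplicit false
set_option maxRecDepth 100000

namespace CfsgLib.Chev.E62

open Cfsg.Lie Matrix CfsgLib.Chev
open scoped commutatorElement

theorem braid : braidCheck chevE6 auxE6 foldE62 = true := by decide +kernel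
theorem extra : foldExtra chevE6 auxE6 foldE62 = true := by decide +kernel
theorem cox : orbCox chevE6 auxE6 foldE62 (fun i j => CoxeterMatrix.F₄ i j) = true := by decide +kernel
theorem top : ∃ e ∈ ftabE62, e.cnt = chevE6.posRoots.length := by
  have : (ftabE62.any fun e => decide (e.cnt = 36)) = true := by decide +kernel
  obtain ⟨e, he, hc⟩ := List.any_eq_true.1 this
  exact ⟨e, he, by rw [length_posRoots stdE6.good]; exact of_decide_eq_true hc⟩
theorem rho_eq : ∀ r < chevE6.nroots, foldE62.r r = symE6.r r := by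
  decide +kernel
theorem poly : pMul (fixPoly 1 ftabE62) (pMul [1, 1] [1, 1]) =
    ([List.replicate 2 1, List.replicate 6 1, List.replicate 8 1, List.replicate 12 1,
      pAdd (pMono 0) (pMono 5), pAdd (pMono 0) (pMono 9)] : List (List ℕ)).foldr pMul [1] := by
  decide +kernel

variable {K : Type*} [Field K] {q : ℕ} {σ : K →+* K}

/-- the folded endomorphism -/
noncomputable abbrev tw (σ : K →+* K) : Twist K stdE6 foldE62 :=
  Twist.ofGraph stdE6 foldE62_valid braid symE6_valid rho_eq σ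

lemma phi_eq {r : ℕ} (he : symE6.e r = 1) (t : K) : (tw σ).phi r t = σ t := by
  show (symE6.e r : K) * σ t = σ t
  rw [he]; simp

lemma invol [Fintype K] (hσ : ∀ x, σ x = x ^ q) (hK : Fintype.card K = q ^ 2) (x : K) :
    σ (σ x) = x := by
  rw [hσ, hσ, ← pow_mul, ← sq, ← hK, FiniteField.pow_card]

lemma word1 (hσ : ∀ x, σ x = x ^ q) {r : ℕ} (hr : r ∈ [e6p2, e6m2, e6p4, e6m4]) {t : K}
    (ht : σ t = t) : xG stdE6.good r t ∈ twistedE6 K q := by
  have := word_mem_gen stdE6.good (S := e6Words K q) (w := [(r, t)])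
    (Or.inl ⟨t, by rw [← hσ, ht], r, hr, rfl⟩)
  simpa [twistedE6] using this

lemma word2 (hσ : ∀ x, σ x = x ^ q) {r s : ℕ}
    (hr : (r, s) ∈ [(e6p1, e6p6), (e6m1, e6m6), (e6p3, e6p5), (e6m3, e6m5)]) (t : K) :
    xG stdE6.good r t * xG stdE6.good s (σ t) ∈ twistedE6 K q := by
  have := word_mem_gen stdE6.good (S := e6Words K q) (w := [(r, t), (s, t ^ q)])
    (Or.inr ⟨t, (r, s), hr, rfl⟩)
  simpa [twistedE6, hσ] using this

lemma fix_root {r : ℕ} (hr : r < chevE6.nroots) (hρ : foldE62.r r = r) (he : symE6.e r = 1) {t : K}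
    (ht : σ t = t) : xG stdE6.good r t ∈ (tw σ).fix := by
  have := (tw σ).maps_xG hr t
  rw [hρ, phi_eq he, ht] at this
  exact this

lemma fix_pair {r s : ℕ} (hc : commPair chevE6 auxE6 r s = true) (hρr : foldE62.r r = s)
    (hρs : foldE62.r s = r) (her : symE6.e r = 1) (hes : symE6.e s = 1)
    (hinv : ∀ x, σ (σ x) = x) (t : K) :
    xG stdE6.good r t * xG stdE6.good s (σ t) ∈ (tw σ).fix := by
  have hlt : r < chevE6.nroots ∧ s < chevE6.nroots := by
    simp only [commPair, Bool.and_eq_true, decide_eq_true_eq] at hc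
    exact hc.1
  have := Twist.Maps.mul _ ((tw σ).maps_xG hlt.1 t) ((tw σ).maps_xG hlt.2 (σ t))
  rw [hρr, hρs, phi_eq her, phi_eq hes, hinv, ← (commute_xG stdE6 hc t (σ t)).eq] at this
  exact this

lemma twisted_le_fix [Fintype K] (hσ : ∀ x, σ x = x ^ q) (hK : Fintype.card K = q ^ 2) :
    twistedE6 K q ≤ (tw σ).fix := by
  rw [twistedE6, genSubgroup_eq stdE6.good, Subgroup.closure_le]
  rintro y ⟨w, hw, rfl⟩
  rcases hw with ⟨t, ht, r, hr, rfl⟩ | ⟨t, rs, hrs, rfl⟩
  · simp only [List.map_cons, List.map_nil, List.prod_cons, List.prod_nil, mul_one, SetLike.mem_coe]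
    have : ∀ r ∈ [e6p2, e6m2, e6p4, e6m4],
        r < chevE6.nroots ∧ foldE62.r r = r ∧ symE6.e r = 1 := by decide +kernel
    obtain ⟨h1, h2, h3⟩ := this r hr
    exact fix_root h1 h2 h3 (by rw [hσ]; exact ht)
  · simp only [List.map_cons, List.map_nil, List.prod_cons, List.prod_nil, mul_one, SetLike.mem_coe]
    have : ∀ p ∈ [(e6p1, e6p6), (e6m1, e6m6), (e6p3, e6p5), (e6m3, e6m5)],
        commPair chevE6 auxE6 p.1 p.2 = true ∧ foldE62.r p.1 = p.2 ∧ foldE62.r p.2 = p.1 ∧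
          symE6.e p.1 = 1 ∧ symE6.e p.2 = 1 := by decide +kernel
    obtain ⟨h1, h2, h3, h4, h5⟩ := this rs hrs
    rw [← hσ]
    exact fix_pair h1 h2 h3 h4 h5 (invol hσ hK) t

lemma num_cases {j : ℕ} (hj : j < foldE62.num) : j = 0 ∨ j = 1 ∨ j = 2 ∨ j = 3 := by
  change j < 4 at hj; omega

lemma class_card [Fintype K] (hσ : ∀ x, σ x = x ^ q) (hK : Fintype.card K = q ^ 2) (hq : 2 ≤ q)
    (j : ℕ) (hj : j < foldE62.num) :
    Nat.card ↥((tw σ).V (foldE62.w j)) = q ^ ([1, 1, 2, 2].getD j 0) := by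
  have hfix : Nat.card {t : K // σ t = t} = q := by
    simp only [hσ]; exact card_pow_fixed (k := 2) two_ne_zero hq hK
  rcases num_cases hj with rfl | rfl | rfl | rfl
  · rw [((tw σ).class_one hj (r := e6p2) (by decide +kernel) (by decide +kernel)).1]
    simp only [phi_eq (show symE6.e e6p2 = 1 by decide +kernel)]
    simpa using hfix
  · rw [((tw σ).class_one hj (r := e6p4) (by decide +kernel) (by decide +kernel)).1]
    simp only [phi_eq (show symE6.e e6p4 = 1 by decide +kernel)]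
    simpa using hfix
  · rw [((tw σ).class_two hj (r := e6p3) (s := e6p5) (by decide +kernel) (by decide +kernel)
      (by decide +kernel) (by decide +kernel) (fun t => by
        rw [phi_eq (show symE6.e e6p3 = 1 by decide +kernel),
          phi_eq (show symE6.e e6p5 = 1 by decide +kernel), invol hσ hK])).1, hK]
    rfl
  · rw [((tw σ).class_two hj (r := e6p1) (s := e6p6) (by decide +kernel) (by decide +kernel)
      (by decide +kernel) (by decide +kernel) (fun t => by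
        rw [phi_eq (show symE6.e e6p1 = 1 by decide +kernel),
          phi_eq (show symE6.e e6p6 = 1 by decide +kernel), invol hσ hK])).1, hK]
    rfl

lemma class_le [Fintype K] (hσ : ∀ x, σ x = x ^ q) (hK : Fintype.card K = q ^ 2)
    (j : ℕ) (hj : j < foldE62.num) : (tw σ).V (foldE62.w j) ≤ twistedE6 K q := by
  intro y hy
  rcases num_cases hj with rfl | rfl | rfl | rfl
  · obtain ⟨t, ht, rfl⟩ :=
      (((tw σ).class_one hj (r := e6p2) (by decide +kernel) (by decide +kernel)).2 y).1 hy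
    exact word1 hσ (by simp) (by rwa [phi_eq (show symE6.e e6p2 = 1 by decide +kernel)] at ht)
  · obtain ⟨t, ht, rfl⟩ :=
      (((tw σ).class_one hj (r := e6p4) (by decide +kernel) (by decide +kernel)).2 y).1 hy
    exact word1 hσ (by simp) (by rwa [phi_eq (show symE6.e e6p4 = 1 by decide +kernel)] at ht)
  · obtain ⟨t, rfl⟩ := (((tw σ).class_two hj (r := e6p3) (s := e6p5) (by decide +kernel)
      (by decide +kernel) (by decide +kernel) (by decide +kernel) (fun t => by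
        rw [phi_eq (show symE6.e e6p3 = 1 by decide +kernel),
          phi_eq (show symE6.e e6p5 = 1 by decide +kernel), invol hσ hK])).2 y).1 hy
    rw [phi_eq (show symE6.e e6p3 = 1 by decide +kernel)]
    exact word2 hσ (by simp) t
  · obtain ⟨t, rfl⟩ := (((tw σ).class_two hj (r := e6p1) (s := e6p6) (by decide +kernel)
      (by decide +kernel) (by decide +kernel) (by decide +kernel) (fun t => by
        rw [phi_eq (show symE6.e e6p1 = 1 by decide +kernel),
          phi_eq (show symE6.e e6p6 = 1 by decide +kernel), invol hσ hK])).2 y).1 hy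
    rw [phi_eq (show symE6.e e6p1 = 1 by decide +kernel)]
    exact word2 hσ (by simp) t

lemma single_nG (hσ : ∀ x, σ x = x ^ q) {r : ℕ} (hr : r ∈ [e6p2, e6p4]) {c : K} (hc : σ c = c) :
    nG stdE6.good r c ∈ twistedE6 K q := by
  have key : ∀ r ∈ [e6p2, e6p4], r < chevE6.nroots ∧ r ∈ [e6p2, e6m2, e6p4, e6m4] ∧
      auxE6.neg r ∈ [e6p2, e6m2, e6p4, e6m4] := by decide +kernel
  obtain ⟨h1, h2, h3⟩ := key r hr
  exact nG_one_mem stdE6.good h1 (word1 hσ h2 hc)
    (word1 hσ h3 (by rw [map_neg, map_inv₀, hc]))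

lemma pairOK : ∀ p ∈ [(e6p1, e6p6), (e6p3, e6p5)],
    PairOK chevE6 auxE6 p.1 p.2 := by
  unfold PairOK
  decide +kernel

lemma pair_neg : ∀ p ∈ [(e6p1, e6p6), (e6p3, e6p5)],
    (p.1, p.2) ∈ [(e6p1, e6p6), (e6m1, e6m6), (e6p3, e6p5), (e6m3, e6m5)] ∧
    (auxE6.neg p.1, auxE6.neg p.2) ∈ [(e6p1, e6p6), (e6m1, e6m6), (e6p3, e6p5), (e6m3, e6m5)] := by
  decide +kernel

lemma nJ_mem (hσ : ∀ x, σ x = x ^ q) (j : ℕ) (hj : j < foldE62.num) :
    (tw σ).nJ j ∈ twistedE6 K q := by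
  rcases num_cases hj with rfl | rfl | rfl | rfl
  · have e : (tw σ).nJ 0 = nG stdE6.good e6p2 1 := by
      show nW K stdE6.good [1] = _
      simp only [nW, List.map_cons, List.map_nil, List.prod_cons, List.prod_nil, mul_one, nS]
      rw [show chevE6.simple 1 = e6p2 by decide +kernel]
    rw [e]; exact single_nG hσ (by simp) σ.map_one
  · have e : (tw σ).nJ 1 = nG stdE6.good e6p4 1 := by
      show nW K stdE6.good [3] = _
      simp only [nW, List.map_cons, List.map_nil, List.prod_cons, List.prod_nil, mul_one, nS]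
      rw [show chevE6.simple 3 = e6p4 by decide +kernel]
    rw [e]; exact single_nG hσ (by simp) σ.map_one
  · have e : (tw σ).nJ 2 = nG stdE6.good e6p3 1 * nG stdE6.good e6p5 1 := by
      show nW K stdE6.good [2, 4] = _
      simp only [nW, List.map_cons, List.map_nil, List.prod_cons, List.prod_nil, mul_one, nS]
      rw [show chevE6.simple 2 = e6p3 by decide +kernel, show chevE6.simple 4 = e6p5 by decide +kernel]
    rw [e]
    have := nG_pair_mem stdE6 (pairOK (e6p3, e6p5) (by simp)) (σ := σ)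
      (fun t => word2 hσ (pair_neg (e6p3, e6p5) (by simp)).1 t)
      (fun t => word2 hσ (pair_neg (e6p3, e6p5) (by simp)).2 t) 1
    rwa [map_one] at this
  · have e : (tw σ).nJ 3 = nG stdE6.good e6p1 1 * nG stdE6.good e6p6 1 := by
      show nW K stdE6.good [0, 5] = _
      simp only [nW, List.map_cons, List.map_nil, List.prod_cons, List.prod_nil, mul_one, nS]
      rw [show chevE6.simple 0 = e6p1 by decide +kernel, show chevE6.simple 5 = e6p6 by decide +kernel]
    rw [e]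
    have := nG_pair_mem stdE6 (pairOK (e6p1, e6p6) (by simp)) (σ := σ)
      (fun t => word2 hσ (pair_neg (e6p1, e6p6) (by simp)).1 t)
      (fun t => word2 hσ (pair_neg (e6p1, e6p6) (by simp)).2 t) 1
    rwa [map_one] at this

/-- index -/
def ix (i : Fin 6) : Fin chevE6.rank := i

lemma thetaFix_iff (c : Fin chevE6.rank → Kˣ) :
    c ∈ (tw σ).thetaFix ↔ σ (c (ix 1)) = c (ix 1) ∧ σ (c (ix 3)) = c (ix 3) ∧
      σ (c (ix 0)) = c (ix 5) ∧ σ (c (ix 2)) = c (ix 4) ∧
      σ (c (ix 5)) = c (ix 0) ∧ σ (c (ix 4)) = c (ix 2) := by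
  have hθ : ∀ i k : Fin 6, foldE62.p i.val = k.val →
      (((tw σ).theta c (ix k) : Kˣ) : K) = σ (c (ix i)) := fun i k e =>
    (tw σ).theta_apply c (i := ix i) (k := ix k) e
  constructor
  · intro hc
    rw [Twist.mem_thetaFix] at hc
    rw [hc] at hθ
    exact ⟨(hθ 1 1 rfl).symm, (hθ 3 3 rfl).symm, (hθ 0 5 rfl).symm, (hθ 2 4 rfl).symm,
      (hθ 5 0 rfl).symm, (hθ 4 2 rfl).symm⟩
  · rintro ⟨h1, h3, h0, h2, h5, h4⟩
    rw [Twist.mem_thetaFix]
    funext k
    apply Units.ext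
    have key : ∀ k : Fin 6, (((tw σ).theta c (ix k) : Kˣ) : K) = c (ix k) := by
      intro k
      fin_cases k
      exacts [(hθ 5 0 rfl).trans h5, (hθ 1 1 rfl).trans h1, (hθ 4 2 rfl).trans h4,
        (hθ 3 3 rfl).trans h3, (hθ 2 4 rfl).trans h2, (hθ 0 5 rfl).trans h0]
    exact key k

lemma card_thetaFix [Fintype K] (hσ : ∀ x, σ x = x ^ q) (hK : Fintype.card K = q ^ 2) (hq : 2 ≤ q) :
    Nat.card ↥(tw σ).thetaFix = (q - 1) ^ 4 * (q + 1) ^ 2 := by
  have hu : Nat.card {u : Kˣ // σ (u : K) = u} = q - 1 := by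
    have e : {u : Kˣ // σ (u : K) = u} ≃ (powMonoidHom (q - 1) : Kˣ →* Kˣ).ker :=
      Equiv.subtypeEquivRight fun u => by
        obtain ⟨m, rfl⟩ : ∃ m, q = m + 1 := ⟨q - 1, by omega⟩
        rw [hσ, MonoidHom.mem_ker, powMonoidHom_apply, Nat.add_sub_cancel, pow_succ, Units.ext_iff,
          Units.val_pow_eq_pow_val, Units.val_one]
        exact mul_eq_right₀ u.ne_zero
    rw [Nat.card_congr e, IsCyclic.card_powMonoidHom_ker, Nat.card_units, Nat.card_eq_fintype_card,
      hK]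
    refine Nat.gcd_eq_right ?_
    simpa using Nat.sub_dvd_pow_sub_pow q 1 2
  have hinv := invol hσ hK
  let S := {u : Kˣ // σ (u : K) = u}
  let e : ↥(tw σ).thetaFix ≃ (S × S) × (Kˣ × Kˣ) :=
    { toFun := fun c => ((⟨c.1 (ix 1), ((thetaFix_iff c.1).1 c.2).1⟩,
        ⟨c.1 (ix 3), ((thetaFix_iff c.1).1 c.2).2.1⟩), (c.1 (ix 0), c.1 (ix 2)))
      invFun := fun p => ⟨(![p.2.1, p.1.1.1, p.2.2, p.1.2.1, Units.map σ.toMonoidHom p.2.2,
          Units.map σ.toMonoidHom p.2.1] : Fin 6 → Kˣ),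
        (thetaFix_iff _).2 ⟨p.1.1.2, p.1.2.2, rfl, rfl, hinv _, hinv _⟩⟩
      left_inv := fun c => by
        obtain ⟨-, -, h0, h2, -, -⟩ := (thetaFix_iff c.1).1 c.2
        refine Subtype.ext (funext fun k => ?_)
        have key : ∀ k : Fin 6, (![c.1 (ix 0), c.1 (ix 1), c.1 (ix 2), c.1 (ix 3),
            Units.map σ.toMonoidHom (c.1 (ix 2)), Units.map σ.toMonoidHom (c.1 (ix 0))] :
            Fin 6 → Kˣ) k = c.1 (ix k) := by
          intro k
          fin_cases k
          exacts [rfl, rfl, rfl, rfl, Units.ext h2, Units.ext h0]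
        exact key k
      right_inv := fun p => rfl }
  rw [Nat.card_congr e, Nat.card_prod, Nat.card_prod, Nat.card_prod, hu, Nat.card_units,
    Nat.card_eq_fintype_card, hK]
  have h2 : q ^ 2 - 1 = (q - 1) * (q + 1) := by rw [mul_comm, ← Nat.sq_sub_sq, one_pow]
  rw [h2]; ring

/-- the Cartan matrix -/
def cm : List (List ℤ) :=
  [[2, 0, -1, 0, 0, 0], [0, 2, 0, -1, 0, 0], [-1, 0, 2, -1, 0, 0], [0, -1, -1, 2, -1, 0],
    [0, 0, 0, -1, 2, -1], [0, 0, 0, 0, -1, 2]]

lemma cartan_eq : ∀ i k : Fin 6,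
    cartanM chevE6 auxE6 (ix i) (ix k) = (cm.getD i.val []).getD k.val 0 := by
  decide +kernel

lemma ker_form {z : Fin chevE6.rank → Kˣ} (hz : (tor chevE6 auxE6 z : GL chevE6.Idx K) = 1) :
    z (ix 0) ^ 3 = 1 ∧ z (ix 1) = 1 ∧ z (ix 2) = z (ix 0) ^ 2 ∧ z (ix 3) = 1 ∧
      z (ix 4) = z (ix 0) ∧ z (ix 5) = z (ix 0) ^ 2 := by
  have hC := cartan_eq
  have key : ∀ k : Fin 6, ∏ i : Fin 6, z (ix i) ^ cartanM chevE6 auxE6 (ix i) (ix k) = 1 :=
    fun k => chi_simple_eq_one stdE6.good hz (ix k)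
  have e0 := key 0
  have e1 := key 1
  have e2 := key 2
  have e3 := key 3
  have e4 := key 4
  have e5 := key 5
  simp only [Fin.prod_univ_six, hC, cm, List.getD_cons_zero, List.getD_cons_succ, Fin.val_zero,
    Fin.val_one, Fin.val_two, show ((3 : Fin 6) : ℕ) = 3 from rfl, show ((4 : Fin 6) : ℕ) = 4 from rfl,
    show ((5 : Fin 6) : ℕ) = 5 from rfl, zpow_zero, mul_one, one_mul, _root_.zpow_neg, zpow_one,
    zpow_ofNat, pow_zero, pow_one] at e0 e1 e2 e3 e4 e5
  rw [mul_inv_eq_one] at e0 e1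
  set a := z (ix 0)
  set b := z (ix 1)
  set w := z (ix 5)
  have h2 : z (ix 2) = a ^ 2 := e0.symm
  have h4 : z (ix 4) = w ^ 2 := by
    have := inv_mul_eq_one.1 e5
    exact this
  have h3 : z (ix 3) = b ^ 2 := e1.symm
  simp only [h2, h3, h4] at e2 e3 e4
  have f2 : a ^ 3 = b ^ 2 := by
    rw [← one_mul (b ^ 2), ← e2]
    apply Additive.ofMul.injective
    simp only [ofMul_mul, ofMul_inv, ofMul_pow]
    abel
  have f4 : w ^ 3 = b ^ 2 := by
    rw [← one_mul (b ^ 2), ← e4]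
    apply Additive.ofMul.injective
    simp only [ofMul_mul, ofMul_inv, ofMul_pow]
    abel
  have f3 : b ^ 3 = a ^ 2 * w ^ 2 := by
    rw [← one_mul (a ^ 2 * w ^ 2), ← e3]
    apply Additive.ofMul.injective
    simp only [ofMul_mul, ofMul_inv, ofMul_pow]
    abel
  have g1 : b ^ 9 = a ^ 6 * w ^ 6 := by
    rw [show b ^ 9 = (b ^ 3) ^ 3 from by rw [← pow_mul], f3, mul_pow, ← pow_mul, ← pow_mul]
  have g2 : a ^ 6 * w ^ 6 = b ^ 8 := by
    rw [show a ^ 6 = (a ^ 3) ^ 2 from by rw [← pow_mul], show w ^ 6 = (w ^ 3) ^ 2 from by rw [← pow_mul],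
      f2, f4, ← pow_mul, ← pow_add]
  have hb : b = 1 := by
    rw [g2, pow_succ] at g1
    exact mul_eq_left.1 g1
  rw [hb, one_pow] at f2 f3 f4
  have hw : w = a ^ 2 := by
    calc w = w * (w ^ 3) := by rw [f4, mul_one]
      _ = a ^ 3 * (w ^ 2) ^ 2 := by rw [f2, one_mul]; group
      _ = a ^ 3 * ((a ^ 2)⁻¹) ^ 2 := by rw [eq_inv_of_mul_eq_one_right f3.symm]
      _ = a⁻¹ := by group
      _ = a ^ 2 := inv_eq_of_mul_eq_one_right (by rw [← pow_succ', f2])
  refine ⟨f2, hb, h2, by rw [h3, hb, one_pow], ?_, hw⟩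
  rw [h4, hw, ← pow_mul, pow_succ, f2, one_mul]

lemma diag_eq [Fintype K] (hσ : ∀ x, σ x = x ^ q) (hK : Fintype.card K = q ^ 2) :
    chevE6.diagonalSubgroup K ⊓ (tw σ).fix = (tw σ).thetaFix.map (tor chevE6 auxE6) := by
  refine (tw σ).diag_fix_eq fun c hc => ?_
  have hθθ : ∀ c, (tw σ).theta ((tw σ).theta c) = c := by
    intro c
    funext k
    apply Units.ext
    have key : ∀ k : Fin 6, (((tw σ).theta ((tw σ).theta c) (ix k) : Kˣ) : K) = c (ix k) := by
      intro k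
      obtain ⟨i, hi, hk⟩ : ∃ i : Fin 6, foldE62.p i.val = k.val ∧ foldE62.p k.val = i.val := by
        revert k; decide +kernel
      rw [(tw σ).theta_apply _ (i := ix i) (k := ix k) hi,
        (tw σ).theta_apply c (i := ix k) (k := ix i) hk]
      exact invol hσ hK _
    exact key k
  obtain ⟨z, hz⟩ : ∃ z, z = (tw σ).theta c * c⁻¹ := ⟨_, rfl⟩
  have hz1 : (tor chevE6 auxE6 z : GL chevE6.Idx K) = 1 := by
    rw [hz, map_mul, map_inv, hc, mul_inv_cancel]
  obtain ⟨h3, hb, h2, h3', h4, h5⟩ := ker_form hz1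
  have hz3 : z ^ 3 = 1 := by
    funext k
    have key : ∀ k : Fin 6, z (ix k) ^ 3 = 1 := by
      intro k
      fin_cases k
      · exact h3
      · show z (ix 1) ^ 3 = 1; rw [hb, one_pow]
      · show z (ix 2) ^ 3 = 1; rw [h2, ← pow_mul, mul_comm, pow_mul, h3, one_pow]
      · show z (ix 3) ^ 3 = 1; rw [h3', one_pow]
      · show z (ix 4) ^ 3 = 1; rw [h4, h3]
      · show z (ix 5) ^ 3 = 1; rw [h5, ← pow_mul, mul_comm, pow_mul, h3, one_pow]
    exact key k
  have hθz : (tw σ).theta z = z⁻¹ := by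
    rw [hz, map_mul, map_inv, hθθ, _root_.mul_inv_rev, inv_inv, mul_comm]
  refine ⟨z ^ 2, by rw [map_pow, hz1, one_pow], ?_⟩
  have e : (tw σ).theta c = z * c := by rw [hz, inv_mul_cancel_right]
  rw [map_mul, map_pow, hθz, e, inv_pow, mul_comm z c, mul_assoc]
  congr 1
  rw [eq_comm, ← mul_inv_eq_one, _root_.mul_inv_rev, inv_inv, ← hz3]
  group

lemma card_diag [Fintype K] (hσ : ∀ x, σ x = x ^ q) (hK : Fintype.card K = q ^ 2) (hq : 2 ≤ q) :
    Nat.gcd 3 (q + 1) * Nat.card ↥(chevE6.diagonalSubgroup K ⊓ (tw σ).fix) =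
      (q - 1) ^ 4 * (q + 1) ^ 2 := by
  rw [diag_eq hσ hK, ← card_thetaFix hσ hK hq, ← Twist.card_map_tor (tw σ).thetaFix]
  congr 1
  have hpg : ∀ a : Kˣ, a ^ Nat.gcd 3 (q + 1) = 1 ↔ a ^ 3 = 1 ∧ a ^ (q + 1) = 1 := fun a => by
    simp only [← orderOf_dvd_iff_pow_eq_one, Nat.dvd_gcd_iff]
  set n := Nat.gcd 3 (q + 1) with hn
  have hval : ∀ (a : Kˣ) (m : ℕ), σ ((a ^ m : Kˣ) : K) = ((a ^ (m * q) : Kˣ) : K) := fun a m => by
    rw [hσ, Units.val_pow_eq_pow_val, Units.val_pow_eq_pow_val, pow_mul]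
  let S := {a : Kˣ // a ^ n = 1}
  have hS : Nat.card S = n := by
    show Nat.card (powMonoidHom n : Kˣ →* Kˣ).ker = n
    rw [IsCyclic.card_powMonoidHom_ker, Nat.card_units, Nat.card_eq_fintype_card, hK]
    refine Nat.gcd_eq_right ((Nat.gcd_dvd_right 3 (q + 1)).trans ⟨q - 1, ?_⟩)
    rw [← Nat.sq_sub_sq, one_pow]
  let vec : Kˣ → Fin chevE6.rank → Kˣ := fun a => (![a, 1, a ^ 2, 1, a, a ^ 2] : Fin 6 → Kˣ)
  have hmem : ∀ a : S, vec a.1 ∈ (tor chevE6 auxE6).ker ⊓ (tw σ).thetaFix := by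
    rintro ⟨a, ha⟩
    obtain ⟨ha3, haq⟩ := (hpg a).1 ha
    refine Subgroup.mem_inf.2 ⟨?_, (thetaFix_iff _).2 ?_⟩
    · rw [MonoidHom.mem_ker, tor_eq_one_iff stdE6.good]
      funext k
      have key : ∀ k : Fin 6, ∏ i : Fin 6,
          (![a, 1, a ^ 2, 1, a, a ^ 2] : Fin 6 → Kˣ) i ^ cartanM chevE6 auxE6 (ix i) (ix k) = 1 := by
        intro k
        have hC := cartan_eq
        simp only [Fin.prod_univ_six, hC, cm]
        fin_cases k <;> simp <;> (try (rw [← ha3]; group)) <;>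
          (try simp [_root_.zpow_neg, zpow_ofNat, ha3])
      exact key k
    · have h2q : a ^ q = a ^ 2 := by
        rw [← mul_right_inj a, ← pow_succ', haq, ← pow_succ', ha3]
      have e1 : σ (a : K) = ((a ^ 2 : Kˣ) : K) := by
        rw [← h2q, hσ, Units.val_pow_eq_pow_val]
      have e2 : σ ((a ^ 2 : Kˣ) : K) = a := by
        rw [hval, mul_comm, pow_mul, h2q, ← pow_mul, pow_succ, ha3, one_mul]
      exact ⟨σ.map_one, σ.map_one, e1, e2.trans rfl, e2, e1⟩
  rw [← hS]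
  refine (Nat.card_congr ((Equiv.ofBijective (fun a : S =>
    (⟨vec a.1, hmem a⟩ : ↥((tor chevE6 auxE6).ker ⊓ (tw σ).thetaFix)))
      ⟨fun a b e => Subtype.ext ?_, fun z => ?_⟩)))
  · exact congrFun (congrArg Subtype.val e) (ix 0)
  · obtain ⟨hz, hzf⟩ := Subgroup.mem_inf.1 z.2
    obtain ⟨f3, hb, h2, h3, h4, h5⟩ := ker_form hz
    obtain ⟨-, -, e0, -, -, -⟩ := (thetaFix_iff _).1 hzf
    refine ⟨⟨z.1 (ix 0), (hpg _).2 ⟨f3, ?_⟩⟩, Subtype.ext (funext fun k => ?_)⟩
    · have : z.1 (ix 0) ^ q = z.1 (ix 0) ^ 2 := by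
        rw [← h5]; exact Units.ext (by rw [Units.val_pow_eq_pow_val, ← hσ]; exact e0)
      rw [pow_succ, this, ← pow_succ, f3]
    · have key : ∀ k : Fin 6, (![z.1 (ix 0), 1, z.1 (ix 0) ^ 2, 1, z.1 (ix 0), z.1 (ix 0) ^ 2] :
          Fin 6 → Kˣ) k = z.1 (ix k) := by
        intro k
        fin_cases k
        exacts [rfl, hb.symm, h2.symm, h3.symm, h4.symm, h5.symm]
      exact key k

lemma diag_le [Fintype K] (hσ : ∀ x, σ x = x ^ q) (hK : Fintype.card K = q ^ 2) :
    chevE6.diagonalSubgroup K ⊓ (tw σ).fix ≤ twistedE6 K q := by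
  rw [diag_eq hσ hK]
  rintro y ⟨c, hc, rfl⟩
  obtain ⟨e1, e3, e0, e2, -, -⟩ := (thetaFix_iff c).1 hc
  have g := stdE6.good
  have hs : chevE6.simple 0 = e6p1 ∧ chevE6.simple 1 = e6p2 ∧ chevE6.simple 2 = e6p3 ∧
      chevE6.simple 3 = e6p4 ∧ chevE6.simple 4 = e6p5 ∧ chevE6.simple 5 = e6p6 := by decide +kernel
  have hi : ∀ i : Fin 6, hG g (chevE6.simple i.val) (c (ix i) : K) =
      tor chevE6 auxE6 (Pi.mulSingle (ix i) (c (ix i)) : Fin chevE6.rank → Kˣ) :=
    fun i => hG_simple g (ix i) _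
  have hc' : tor chevE6 auxE6 c = hG g e6p2 (c (ix 1) : K) * hG g e6p4 (c (ix 3) : K) *
      (hG g e6p3 (c (ix 2) : K) * hG g e6p5 (c (ix 4) : K)) *
      (hG g e6p1 (c (ix 0) : K) * hG g e6p6 (c (ix 5) : K)) := by
    have p0 := hi 0
    have p1 := hi 1
    have p2 := hi 2
    have p3 := hi 3
    have p4 := hi 4
    have p5 := hi 5
    simp only [Fin.val_zero, Fin.val_one, Fin.val_two, show ((3 : Fin 6) : ℕ) = 3 from rfl,
      show ((4 : Fin 6) : ℕ) = 4 from rfl, show ((5 : Fin 6) : ℕ) = 5 from rfl,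
      hs.1, hs.2.1, hs.2.2.1, hs.2.2.2.1, hs.2.2.2.2.1, hs.2.2.2.2.2] at p0 p1 p2 p3 p4 p5
    rw [p0, p1, p2, p3, p4, p5, ← map_mul, ← map_mul, ← map_mul, ← map_mul, ← map_mul]
    congr 1
    have := Finset.univ_prod_mulSingle (f := c)
    conv_lhs => rw [← this]
    show ∏ i : Fin 6, (Pi.mulSingle (ix i) (c (ix i)) : Fin chevE6.rank → Kˣ) = _
    rw [Fin.prod_univ_six]
    simp only [mul_assoc, mul_left_comm, mul_comm]
  rw [hc', ← e0, ← e2]
  refine mul_mem (mul_mem (mul_mem ?_ ?_) ?_) ?_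
  · exact mul_mem (single_nG hσ (by simp) e1) (single_nG hσ (by simp) (by rw [map_neg, map_one]))
  · exact mul_mem (single_nG hσ (by simp) e3) (single_nG hσ (by simp) (by rw [map_neg, map_one]))
  · exact hG_pair_mem stdE6 (pairOK (e6p3, e6p5) (by simp))
      (fun t => word2 hσ (pair_neg (e6p3, e6p5) (by simp)).1 t)
      (fun t => word2 hσ (pair_neg (e6p3, e6p5) (by simp)).2 t) _
  · exact hG_pair_mem stdE6 (pairOK (e6p1, e6p6) (by simp))
      (fun t => word2 hσ (pair_neg (e6p1, e6p6) (by simp)).1 t)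
      (fun t => word2 hσ (pair_neg (e6p1, e6p6) (by simp)).2 t) _

/-- the twisted group is the fixed group -/
theorem twisted_eq_fix [Fintype K] (hσ : ∀ x, σ x = x ^ q) (hK : Fintype.card K = q ^ 2) :
    twistedE6 K q = (tw σ).fix :=
  le_antisymm (twisted_le_fix hσ hK)
    ((tw σ).fix_le ftabE62_ok top (nJ_mem hσ) (class_le hσ hK) (diag_le hσ hK))

lemma two_le [Fintype K] (hK : Fintype.card K = q ^ 2) : 2 ≤ q := by
  have h := Fintype.one_lt_card (α := K)
  rw [hK] at h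
  rcases q with _ | _ | q <;> simp_all

theorem split [Fintype K] (hσ : ∀ x, σ x = x ^ q) (hK : Fintype.card K = q ^ 2) :
    (tw σ).Split ftabE62 where
  tab := ftabE62_ok
  extra := extra
  ne j hj := by
    refine (tw σ).ne_bot_of_card ?_
    rw [class_card hσ hK (two_le hK) j hj]
    have hq := two_le hK
    rcases num_cases hj with rfl | rfl | rfl | rfl <;> simp <;> nlinarith

theorem orders [Fintype K] (hσ : ∀ x, σ x = x ^ q) (hK : Fintype.card K = q ^ 2) :
    Nat.card ↥(chevE6.posUnipotent K ⊓ (tw σ).fix) = q ^ 36 ∧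
    Nat.gcd 3 (q + 1) * Nat.card ↥(tw σ).fix =
      q ^ 36 * (q ^ 2 - 1) * (q ^ 5 + 1) * (q ^ 6 - 1) * (q ^ 8 - 1) * (q ^ 9 + 1) * (q ^ 12 - 1) := by
  obtain ⟨e₀, he₀, hcnt⟩ := top
  have hq := two_le hK
  have hsz : ∀ j < foldE62.num, nInv chevE6 auxE6 (foldE62.w j) = 1 * [1, 1, 2, 2].getD j 0 := by
    intro j hj
    have hl : ∀ (j : ℕ) (L : List ℕ), j < foldE62.num →
        Twist.orbitIs chevE6 auxE6 foldE62 j L = true →
        nInv chevE6 auxE6 (foldE62.w j) = L.length := fun j L hj e =>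
      ((tw σ).orbit_roots hj e).2.2
    rcases num_cases hj with rfl | rfl | rfl | rfl
    · exact hl 0 [e6p2] hj (by decide +kernel)
    · exact hl 1 [e6p4] hj (by decide +kernel)
    · exact hl 2 [e6p3, e6p5] hj (by decide +kernel)
    · exact hl 3 [e6p1, e6p6] hj (by decide +kernel)
  obtain ⟨hU, hX⟩ := (tw σ).card_formula ftabE62_ok (d := 1) one_pos hsz
    (class_card hσ hK hq) he₀ hcnt
  have h36 : chevE6.posRoots.length = 36 := by
    rw [length_posRoots stdE6.good]; rfl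
  rw [Nat.div_one, hcnt, h36] at hU hX
  refine ⟨hU, ?_⟩
  rw [hX, show Nat.gcd 3 (q + 1) * (q ^ 36 * Nat.card ↥(chevE6.diagonalSubgroup K ⊓ (tw σ).fix) *
      pEval q (fixPoly 1 ftabE62)) = q ^ 36 * (Nat.gcd 3 (q + 1) *
        Nat.card ↥(chevE6.diagonalSubgroup K ⊓ (tw σ).fix)) * pEval q (fixPoly 1 ftabE62) by ring,
    card_diag hσ hK hq]
  have hp := congrArg (pEval q) poly
  simp only [pEval_mul, pEval_prod, List.map_cons, List.map_nil, List.prod_cons, List.prod_nil,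
    mul_one, pEval_ones, pEval_add, pEval_mono, pow_zero] at hp
  have h1 : pEval q [1, 1] = q + 1 := by simp [pEval, add_comm]
  rw [h1] at hp
  have g1 : 1 ≤ q := by omega
  rw [← geom_nat g1 2, ← geom_nat g1 6, ← geom_nat g1 8, ← geom_nat g1 12]
  linear_combination (q ^ 36 * (q - 1) ^ 4) * hp

lemma four_le [Fintype K] (hK : Fintype.card K = q ^ 2) : 4 ≤ Fintype.card K := by
  have := two_le hK
  rw [hK]; nlinarith

/-- the fixed group is perfect -/
theorem perfect [Fintype K] (hσ : ∀ x, σ x = x ^ q) (hK : Fintype.card K = q ^ 2) :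
    commutator ↥(tw σ).fix = ⊤ := by
  have g := stdE6.good
  refine Twist.perfect_of_le ?_
  set X := (tw σ).fix
  refine le_trans (twisted_eq_fix hσ hK).ge ?_
  rw [twistedE6, genSubgroup_eq g, Subgroup.closure_le]
  rintro y ⟨w, hw, rfl⟩
  rcases hw with ⟨t, ht, r, hr, rfl⟩ | ⟨t, rs, hrs, rfl⟩
  · simp only [List.map_cons, List.map_nil, List.prod_cons, List.prod_nil, mul_one, SetLike.mem_coe]
    have key : ∀ r ∈ [e6p2, e6m2, e6p4, e6m4], ∃ a < chevE6.nroots, ∃ b < chevE6.nroots,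
        foldE62.r a = a ∧ foldE62.r b = b ∧ symE6.e a = 1 ∧ symE6.e b = 1 ∧ b ≠ a ∧
          b ≠ auxE6.neg a ∧ (auxE6.terms a b = [(r, 1, 1, 1)] ∨ auxE6.terms a b = [(r, -1, 1, 1)]) := by
      intro r hr
      simp only [List.mem_cons, List.not_mem_nil, or_false] at hr
      rcases hr with rfl | rfl | rfl | rfl
      · exact ⟨47, by decide +kernel, e6m4, by decide +kernel, by decide +kernel⟩
      · exact ⟨auxE6.neg 47, by decide +kernel, e6p4, by decide +kernel, by decide +kernel⟩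
      · exact ⟨47, by decide +kernel, e6m2, by decide +kernel, by decide +kernel⟩
      · exact ⟨auxE6.neg 47, by decide +kernel, e6p2, by decide +kernel, by decide +kernel⟩
    obtain ⟨a, ha, b, hb, ra, rb, ea, eb, hne, hnn, hT⟩ := key r hr
    have ht' : σ t = t := by rw [hσ]; exact ht
    rcases hT with hT | hT <;>
      refine comm_root stdE6 ha hb hne hnn hT (by simp) (fix_root ha ra ea (by simp))
        (fix_root hb rb eb (by simp [map_div₀, ht']))
  · simp only [List.map_cons, List.map_nil, List.prod_cons, List.prod_nil, mul_one, SetLike.mem_coe]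
    obtain ⟨u, hu⟩ := exists_sq_ne_one (four_le hK)
    have hX : X = twistedE6 K q := (twisted_eq_fix hσ hK).symm
    have key : ∀ p ∈ [(e6p1, e6p6), (e6m1, e6m6), (e6p3, e6p5), (e6m3, e6m5)],
        ∃ i < 6, ∃ k < 6, ((chevE6.simple i, chevE6.simple k) ∈ [(e6p1, e6p6), (e6p3, e6p5)]) ∧
          commPair chevE6 auxE6 p.1 p.2 = true ∧
          ((auxE6.cart i p.1 = 2 ∧ auxE6.cart k p.1 = 0 ∧ auxE6.cart i p.2 = 0 ∧ auxE6.cart k p.2 = 2) ∨
           (auxE6.cart i p.1 = -2 ∧ auxE6.cart k p.1 = 0 ∧ auxE6.cart i p.2 = 0 ∧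
              auxE6.cart k p.2 = -2)) := by decide +kernel
    obtain ⟨i, hi, k, hk, hik, hcomm, hcart⟩ := key rs hrs
    set hh := hG g (chevE6.simple i) (u : K) * hG g (chevE6.simple k) (σ (u : K)) with hhdef
    have hhX : hh ∈ X := by
      rw [hX]
      exact hG_pair_mem stdE6 (pairOK _ hik) (fun t => word2 hσ (pair_neg _ hik).1 t)
        (fun t => word2 hσ (pair_neg _ hik).2 t) _
    have hlt : rs.1 < chevE6.nroots ∧ rs.2 < chevE6.nroots := by
      simp only [commPair, Bool.and_eq_true, decide_eq_true_eq] at hcomm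
      exact hcomm.1
    rw [← hσ]
    let W : K → GL chevE6.Idx K := fun a => xG g rs.1 a * xG g rs.2 (σ a)
    have hconj : ∀ z : ℤ, auxE6.cart i rs.1 = z → auxE6.cart k rs.1 = 0 → auxE6.cart i rs.2 = 0 →
        auxE6.cart k rs.2 = z → ∀ a, hh * W a * hh⁻¹ = W ((u : K) ^ z * a) := by
      intro z z1 z2 z3 z4 a
      set h1 := hG g (chevE6.simple i) (u : K)
      set h2 := hG g (chevE6.simple k) (σ (u : K))
      have hu' : σ (u : K) = ((Units.map σ.toMonoidHom u : Kˣ) : K) := rfl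
      have a1 : ∀ s, h2 * xG g rs.1 s * h2⁻¹ = xG g rs.1 s := fun s => by
        rw [show h2 = hG g (chevE6.simple k) ((Units.map σ.toMonoidHom u : Kˣ) : K) from rfl,
          hG_conj_xG g (show k < chevE6.rank from hk) _ hlt.1 z2, zpow_zero, one_mul]
      have a2 : ∀ s, h2 * xG g rs.2 s * h2⁻¹ = xG g rs.2 (σ (u : K) ^ z * s) := fun s => by
        rw [show h2 = hG g (chevE6.simple k) ((Units.map σ.toMonoidHom u : Kˣ) : K) from rfl,
          hG_conj_xG g (show k < chevE6.rank from hk) _ hlt.2 z4]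
        rfl
      have b1 : ∀ s, h1 * xG g rs.1 s * h1⁻¹ = xG g rs.1 ((u : K) ^ z * s) :=
        fun s => hG_conj_xG g (show i < chevE6.rank from hi) u hlt.1 z1 s
      have b2 : ∀ s, h1 * xG g rs.2 s * h1⁻¹ = xG g rs.2 s := fun s => by
        rw [hG_conj_xG g (show i < chevE6.rank from hi) u hlt.2 z3, zpow_zero, one_mul]
      show h1 * h2 * (xG g rs.1 a * xG g rs.2 (σ a)) * (h1 * h2)⁻¹ = _
      rw [show h1 * h2 * (xG g rs.1 a * xG g rs.2 (σ a)) * (h1 * h2)⁻¹ =
        (h1 * (h2 * xG g rs.1 a * h2⁻¹) * h1⁻¹) * (h1 * (h2 * xG g rs.2 (σ a) * h2⁻¹) * h1⁻¹) by group,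
        a1, a2, b1, b2]
      show _ = xG g rs.1 _ * xG g rs.2 (σ _)
      rw [map_mul, map_zpow₀]
    have hWX : ∀ a, W a ∈ X := fun a => by rw [hX]; exact word2 hσ hrs a
    have hWadd : ∀ a b, W a * W b = W (a + b) := fun a b => by
      show xG g rs.1 a * xG g rs.2 (σ a) * (xG g rs.1 b * xG g rs.2 (σ b)) = _
      have := (commute_xG stdE6 hcomm b (σ a)).eq
      calc xG g rs.1 a * xG g rs.2 (σ a) * (xG g rs.1 b * xG g rs.2 (σ b))
          = xG g rs.1 a * (xG g rs.2 (σ a) * xG g rs.1 b) * xG g rs.2 (σ b) := by group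
        _ = xG g rs.1 a * xG g rs.1 b * (xG g rs.2 (σ a) * xG g rs.2 (σ b)) := by rw [← this]; group
        _ = _ := by rw [xG_add, xG_add, ← map_add]
    rcases hcart with ⟨z1, z2, z3, z4⟩ | ⟨z1, z2, z3, z4⟩
    · exact comm_family hWadd hWX hhX (by simpa [zpow_ofNat] using hu) (hconj 2 z1 z2 z3 z4) t
    · refine comm_family hWadd hWX hhX ?_ (hconj (-2) z1 z2 z3 z4) t
      rw [_root_.zpow_neg, zpow_ofNat]
      exact fun e => hu (by simpa using congrArg (·⁻¹) e)

theorem marked [Fintype K] (hσ : ∀ x, σ x = x ^ q) (hK : Fintype.card K = q ^ 2) :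
    (tw σ).Marked := by
  intro i hi
  change i < 6 at hi
  have hs1 : σ 1 = (1 : K) := σ.map_one
  have e1 : ∀ (r : ℕ), foldE62.r r = r → r < chevE6.nroots → symE6.e r = 1 →
      pw stdE6.good [r] (fun _ => (1 : K)) ∈ (tw σ).fix := fun r hr hlt he => by
    simpa [pw] using fix_root hlt hr he hs1
  have e2 : ∀ (r s : ℕ), commPair chevE6 auxE6 r s = true → foldE62.r r = s → foldE62.r s = r →
      symE6.e r = 1 → symE6.e s = 1 → pw stdE6.good [r, s] (fun _ => (1 : K)) ∈ (tw σ).fix :=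
    fun r s hc h1 h2 h3 h4 => by
      have := fix_pair (σ := σ) hc h1 h2 h3 h4 (invol hσ hK) (1 : K)
      rw [hs1] at this
      simpa [pw] using this
  interval_cases i
  · exact (tw σ).mark_of (L := [e6p6, e6p1]) (by decide +kernel)
      (e2 _ _ (by decide +kernel) (by decide +kernel) (by decide +kernel) (by decide +kernel)
        (by decide +kernel)) (by decide +kernel) one_ne_zero
  · exact (tw σ).mark_of (L := [e6p2]) (by decide +kernel)
      (e1 _ (by decide +kernel) (by decide +kernel) (by decide +kernel)) (by decide +kernel) one_ne_zero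
  · exact (tw σ).mark_of (L := [e6p5, e6p3]) (by decide +kernel)
      (e2 _ _ (by decide +kernel) (by decide +kernel) (by decide +kernel) (by decide +kernel)
        (by decide +kernel)) (by decide +kernel) one_ne_zero
  · exact (tw σ).mark_of (L := [e6p4]) (by decide +kernel)
      (e1 _ (by decide +kernel) (by decide +kernel) (by decide +kernel)) (by decide +kernel) one_ne_zero
  · exact (tw σ).mark_of (L := [e6p5, e6p3]) (by decide +kernel)
      (e2 _ _ (by decide +kernel) (by decide +kernel) (by decide +kernel) (by decide +kernel)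
        (by decide +kernel)) (by decide +kernel) one_ne_zero
  · exact (tw σ).mark_of (L := [e6p6, e6p1]) (by decide +kernel)
      (e2 _ _ (by decide +kernel) (by decide +kernel) (by decide +kernel) (by decide +kernel)
        (by decide +kernel)) (by decide +kernel) one_ne_zero

end CfsgLib.Chev.E62
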