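import Cfsg.Agent.Lib.Chev.Twist.Fam.F4
import Cfsg.Agent.Lib.Chev.Twist.SplitElem

/-!
Involutions of the group of type twisted F4 over the field with two elements lie in the commutator subgroup:
an element of the Sylow 2-subgroup outside it moves a fixed basis vector differently from its inverse.
-/

set_option autoImplicit false
set_option maxRecDepth 100000
set_option linter.unusedSimpArgs false

namespace CfsgLib.Chev.F42.Two

open Cfsg.Lie Matrix CfsgLib.Chev
open scoped commutatorElement

/-- the field -/
abbrev K2 : Type := ZMod 2

/-- the twisting -/
noncomputable abbrev T : Twist K2 stdF4 foldF42 := tw (RingHom.id K2)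

theorem hi : Inv2 (RingHom.id K2) := by
  intro x
  revert x
  decide

theorem hσ : ∀ x : K2, RingHom.id K2 x = x ^ 1 := fun x => (pow_one x).symm

/-- the commutator subgroup -/
noncomputable abbrev C : Subgroup (GL chevF4.Idx K2) := ⁅T.fix, T.fix⁆

/-- product of root elements with coefficient one -/
noncomputable def prodX (L : List ℕ) : GL chevF4.Idx K2 := (L.map fun r => xx r (1 : K2)).prod

theorem prodX_append (L M : List ℕ) : prodX (L ++ M) = prodX L * prodX M := by
  simp [prodX]

theorem xx_sq (r : ℕ) : xx r (1 : K2) * xx r 1 = 1 := by
  rw [xx, xG_add, CharTwo.add_self_eq_zero, xG_zero]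

theorem prodX_cons (r : ℕ) (L : List ℕ) : prodX (r :: L) = xx r (1 : K2) * prodX L := rfl

theorem prodX_reverse : ∀ L : List ℕ, (prodX L)⁻¹ = prodX L.reverse
  | [] => inv_one
  | r :: L => by
    refine inv_eq_of_mul_eq_one_right ?_
    have e : prodX [r] = xx r (1 : K2) := mul_one _
    rw [List.reverse_cons, prodX_append, ← prodX_reverse L, prodX_cons, e, mul_assoc,
      mul_inv_cancel_left, xx_sq]

/-- the representative outside the commutator subgroup -/
noncomputable def a : GL chevF4.Idx K2 := W (quad (RingHom.id K2) 1 0)

/-- congruence to a power of `a` -/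
def Cong (y : GL chevF4.Idx K2) (b : Bool) : Prop := y ∈ T.fix ∧ y * (if b then a else 1) ∈ C

theorem a_fix : a ∈ T.fix := W_quad_fix hi 1 0

theorem conj_mem {n y : GL chevF4.Idx K2} (hn : n ∈ T.fix) (hy : y ∈ C) : n * y * n⁻¹ ∈ C := by
  have h1 := Subgroup.commutator_le_self _ hy
  have : ⁅n, y⁆ * y ∈ C := mul_mem (Subgroup.commutator_mem_commutator hn h1) hy
  simpa [commutatorElement_def] using this

/-- the sparse columns of the positive root elements -/
def colTab : List (List (ℕ × ℕ)) :=
  [[(2, 268435456), (4, 32), (9, 1024), (13, 16384), (15, 65536), (20, 2097152), (22, 8388608), (25, 67108864), (27, 268435464), (29, 1073741824), (32, 8589934592), (34, 34359738368), (39, 1099511627776), (41, 4398046511104), (45, 70368744177664), (50, 2251799813685248)],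
   [(3, 536870912), (5, 64), (8, 512), (12, 8192), (16, 131072), (19, 1048576), (23, 16777216), (25, 134217728), (26, 536870916), (28, 1073741824), (31, 4294967296), (35, 68719476736), (38, 549755813888), (42, 8796093022208), (46, 140737488355328), (49, 1125899906842624)],
   [(2, 1073741824), (3, 1073741824), (4, 64), (8, 1024), (12, 16384), (15, 131072), (19, 2097152), (22, 16777216), (25, 1073741836), (26, 268435456), (27, 536870912), (31, 8589934592), (34, 68719476736), (38, 1099511627776), (41, 8796093022208), (45, 140737488355328), (49, 2251799813685248)],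
   [(0, 2147483648), (2, 2147483648), (6, 384), (11, 4096), (13, 32768), (14, 65536), (17, 262144), (20, 37748736), (21, 75497472), (24, 2147483650), (29, 21474836480), (30, 42949672960), (37, 274877906944), (39, 2199023255552), (40, 4398046511104), (43, 17592186044416), (47, 844424930131968)],
   [(0, 4294967296), (2, 4294967296), (3, 4294967296), (5, 640), (11, 8192), (12, 32768), (14, 131072), (16, 262144), (19, 138412032), (21, 553648128), (23, 4294967298), (26, 19327352832), (28, 77309411328), (37, 549755813888), (38, 2199023255552), (40, 8796093022208), (42, 17592186044416), (46, 1407374883553280)],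
   [(0, 8589934592), (3, 8589934592), (4, 1152), (11, 16384), (12, 65536), (13, 131072), (15, 262144), (19, 276824064), (20, 1090519040), (22, 8589934594), (25, 36507222016), (27, 73014444032), (37, 1099511627776), (38, 4398046511104), (39, 8796093022208), (41, 17592186044416), (45, 2533274790395904)],
   [(3, 17179869184), (5, 256), (6, 512), (11, 32768), (14, 262144), (19, 33554432), (20, 134217728), (21, 17179869190), (23, 2147483648), (24, 4294967296), (28, 34359738368), (30, 68719476736), (37, 2199023255552), (40, 17592186044416), (46, 562949953421312), (47, 1125899906842624)],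
   [(2, 34359738368), (3, 34359738368), (4, 256), (6, 1024), (11, 65536), (13, 262144), (19, 67108864), (20, 34359738382), (21, 268435456), (22, 2147483648), (24, 8589934592), (27, 17179869184), (29, 68719476736), (37, 4398046511104), (39, 17592186044416), (45, 562949953421312), (47, 2251799813685248)],
   [(2, 68719476736), (4, 512), (5, 1024), (11, 131072), (12, 262144), (19, 68719476746), (20, 536870912), (21, 1073741824), (22, 4294967296), (23, 8589934592), (25, 17179869184), (26, 34359738368), (37, 8796093022208), (38, 17592186044416), (45, 1125899906842624), (46, 2251799813685248)],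
   [(1, 137438953472), (7, 2048), (8, 528384), (9, 1056768), (10, 2113536), (15, 4194304), (16, 8388608), (17, 16777216), (18, 137438953473), (31, 274877906944), (32, 549755813888), (33, 1099511627776), (34, 37383395344384), (35, 74766790688768), (36, 149533581377536), (44, 281474976710656)],
   [(0, 274877906944), (1, 274877906944), (2, 274877906944), (6, 526336), (7, 4096), (9, 33587200), (10, 67174400), (13, 4194304), (14, 8388608), (17, 274877906947), (18, 2147483648), (24, 137438953472), (29, 35734127902720), (30, 71468255805440), (32, 2199023255552), (33, 4398046511104), (36, 580542139465728), (43, 281474976710656)],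
   [(0, 549755813888), (1, 549755813888), (2, 549755813888), (3, 549755813888), (5, 1050624), (7, 8192), (8, 134250496), (10, 537001984), (12, 4194304), (14, 16777216), (16, 549755813891), (18, 4294967296), (23, 137438953472), (26, 35459249995776), (28, 141836999983104), (31, 2199023255552), (33, 8796093022208), (35, 1143492092887040), (42, 281474976710656)],
   [(0, 1099511627776), (1, 1099511627776), (3, 1099511627776), (4, 2099200), (7, 16384), (8, 268500992), (9, 1073872896), (12, 8388608), (13, 16777216), (15, 1099511627779), (18, 8589934592), (22, 137438953472), (25, 70643622084608), (27, 141287244169216), (31, 4398046511104), (32, 8796093022208), (34, 2269391999729664), (41, 281474976710656)],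
   [(1, 2199023255552), (3, 2199023255552), (5, 33558528), (6, 134225920), (7, 32768), (10, 17180131328), (11, 4194304), (14, 2199023255553), (16, 2147483648), (17, 4294967296), (21, 35321811042304), (23, 274877906944), (24, 549755813888), (28, 567347999932416), (30, 1134695999864832), (33, 17592186044416), (40, 281474976710656)],
   [(1, 4398046511104), (2, 4398046511104), (3, 4398046511104), (4, 67112960), (6, 268451840), (7, 65536), (9, 34360000512), (11, 8388608), (13, 4398046511105), (15, 2147483648), (17, 8589934592), (20, 70506183131136), (22, 274877906944), (24, 1099511627776), (27, 565148976676864), (29, 2260595906707456), (32, 17592186044416), (39, 281474976710656)],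
   [(1, 8796093022208), (2, 8796093022208), (4, 536879104), (5, 1073758208), (7, 131072), (8, 68719738880), (11, 16777216), (12, 8796093022209), (15, 4294967296), (16, 8589934592), (19, 140874927308800), (22, 549755813888), (23, 1099511627776), (25, 1128098930098176), (26, 2256197860196352), (31, 17592186044416), (38, 281474976710656)],
   [(0, 17592186044416), (1, 17592186044416), (4, 17179901952), (5, 34359803904), (6, 68719607808), (7, 262144), (11, 17592186044419), (12, 2147483648), (13, 4294967296), (14, 8589934592), (19, 563224831328256), (20, 1126449662656512), (21, 2252899325313024), (22, 2199023255552), (23, 4398046511104), (24, 8796093022208), (37, 281474976710656)],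
   [(3, 35184372088832), (5, 524288), (6, 1048576), (7, 4194304), (8, 33554432), (9, 134217728), (10, 35184372088839), (14, 137438953472), (16, 274877906944), (17, 549755813888), (18, 2199023255552), (28, 70368744177664), (30, 140737488355328), (33, 281474976710656), (35, 562949953421312), (36, 1125899906842624)],
   [(2, 70368744177664), (3, 70368744177664), (4, 524288), (6, 2097152), (7, 8388608), (8, 67108864), (9, 70368744177679), (10, 268435456), (13, 137438953472), (15, 274877906944), (17, 1099511627776), (18, 4398046511104), (27, 35184372088832), (29, 140737488355328), (32, 281474976710656), (34, 562949953421312), (36, 2251799813685248)],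
   [(2, 140737488355328), (4, 1048576), (5, 2097152), (7, 16777216), (8, 140737488355339), (9, 536870912), (10, 1073741824), (12, 137438953472), (15, 549755813888), (16, 1099511627776), (18, 8796093022208), (25, 35184372088832), (26, 70368744177664), (31, 281474976710656), (34, 1125899906842624), (35, 2251799813685248)],
   [(0, 281474976710656), (4, 35184376283136), (5, 70368752566272), (6, 140737505132544), (7, 281474976710658), (8, 562952100904960), (9, 1125904201809920), (10, 2251808403619840), (11, 137438953472), (12, 274877906944), (13, 549755813888), (14, 1099511627776), (15, 2199023255552), (16, 4398046511104), (17, 8796093022208), (18, 17592186044416)],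
   [(2, 562949953421312), (4, 33554432), (5, 67108864), (6, 562949953421321), (7, 2147483648), (9, 17179869184), (10, 34359738368), (11, 274877906944), (13, 2199023255552), (14, 4398046511104), (17, 17592186044416), (20, 35184372088832), (21, 70368744177664), (24, 281474976710656), (29, 1125899906842624), (30, 2251799813685248)],
   [(2, 1125899906842624), (3, 1125899906842624), (4, 134217728), (5, 1125899906842637), (6, 536870912), (7, 4294967296), (8, 17179869184), (10, 68719476736), (11, 549755813888), (12, 2199023255552), (14, 8796093022208), (16, 17592186044416), (19, 35184372088832), (21, 140737488355328), (23, 281474976710656), (26, 562949953421312), (28, 2251799813685248)],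
   [(3, 2251799813685248), (4, 2251799813685253), (5, 268435456), (6, 1073741824), (7, 8589934592), (8, 34359738368), (9, 68719476736), (11, 1099511627776), (12, 4398046511104), (13, 8796093022208), (15, 17592186044416), (19, 70368744177664), (20, 140737488355328), (22, 281474976710656), (25, 562949953421312), (27, 1125899906842624)]]

/-- positive root numbers -/
def isPosNum (r : ℕ) : Bool := Nat.ble 24 r && Nat.blt r 48

/-- a root element acting on a bit vector -/
def appR (r x : ℕ) : ℕ :=
  (colTab.getD (r - 24) []).foldl (fun acc q => acc ^^^ (bif x.testBit q.1 then q.2 else 0)) x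

/-- a word acting on a bit vector -/
def appW (L : List ℕ) (x : ℕ) : ℕ := L.foldr appR x

/-- the sparse vector of a bit vector -/
def bits (x : ℕ) : List (ℕ × ℤ) := ((List.range 52).filter x.testBit).map fun c => (c, 1)

/-- the vector of a bit vector -/
noncomputable def sem (x : ℕ) : chevF4.Idx → K2 := fun i => if x.testBit (idx chevF4 i) then 1 else 0

theorem colTab_small : ∀ L ∈ colTab, ∀ q ∈ L, q.1 < 52 := by decide +kernel

/-- the columns agree with the sparse action -/
noncomputable def colCheck : Bool :=
  (List.range 24).all fun k => (List.range 52).all fun c =>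
    seqMod 2 (auxF4.appWord chevF4.rank chevF4.nroots [(k + 24, 1)] [(c, 1)])
      (bits (appR (k + 24) (2 ^ c)))

theorem colCheck_true : colCheck = true := by decide +kernel

theorem foldl_xor_add (L : List (ℕ × ℕ)) (x y u v : ℕ) :
    L.foldl (fun acc q => acc ^^^ (bif (x ^^^ y).testBit q.1 then q.2 else 0)) (u ^^^ v) =
      L.foldl (fun acc q => acc ^^^ (bif x.testBit q.1 then q.2 else 0)) u ^^^
        L.foldl (fun acc q => acc ^^^ (bif y.testBit q.1 then q.2 else 0)) v := by
  induction L generalizing u v with
  | nil => rfl
  | cons q L ih =>
    simp only [List.foldl_cons]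
    rw [← ih]
    congr 1
    apply Nat.eq_of_testBit_eq
    intro i
    simp only [Nat.testBit_xor]
    cases x.testBit q.1 <;> cases y.testBit q.1 <;> cases u.testBit i <;> cases v.testBit i <;>
      cases hq : q.2.testBit i <;> simp [hq]

theorem appR_xor (r x y : ℕ) : appR r (x ^^^ y) = appR r x ^^^ appR r y := foldl_xor_add _ x y x y

theorem sem_xor (x y : ℕ) : sem (x ^^^ y) = sem x + sem y := by
  funext i
  simp only [sem, Pi.add_apply, Nat.testBit_xor]
  cases x.testBit (idx chevF4 i) <;> cases y.testBit (idx chevF4 i) <;> decide

theorem sem_pow {c : ℕ} : sem (2 ^ c) = ev chevF4 K2 c := by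
  funext i
  simp only [sem, ev, Nat.testBit_two_pow, decide_eq_true_eq]
  by_cases h : c = idx chevF4 i
  · simp [h]
  · simp [h, Ne.symm h]

theorem sval_bits (x : ℕ) : sval (ev chevF4 K2) (bits x) = sem x := by
  funext i
  have h : idx chevF4 i < 52 := idx_lt i
  unfold bits sval
  have hsum : ∀ L : List (chevF4.Idx → K2), L.sum i = (L.map fun f => f i).sum := by
    intro L
    induction L with
    | nil => rfl
    | cons f L ih => simp [ih]
  rw [hsum, List.map_map, List.map_map, ← List.sum_toFinset _ ((List.nodup_range).filter _)]
  simp only [Function.comp_def, one_smul, ev, sem]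
  rw [Finset.sum_ite_eq]
  simp [List.mem_toFinset, h]

theorem sem_appR {r : ℕ} (hr : isPosNum r = true) (x : ℕ) :
    sem (appR r x) = ((xx r (1 : K2) : GL chevF4.Idx K2) : Matrix chevF4.Idx chevF4.Idx K2) *ᵥ sem x := by
  obtain ⟨h24, h48⟩ : 24 ≤ r ∧ r < 48 := by simpa [isPosNum] using hr
  set M := ((xx r (1 : K2) : GL chevF4.Idx K2) : Matrix chevF4.Idx chevF4.Idx K2) with hM
  have hbase : ∀ c < 52, sem (appR r (2 ^ c)) = M *ᵥ sem (2 ^ c) := by
    intro c hc
    have h := colCheck_true
    simp only [colCheck, List.all_eq_true, List.mem_range] at h
    have h1 := sval_eq_of_seqMod (F := K2) (ev chevF4 K2) (h (r - 24) (by omega) c hc)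
    rw [show r - 24 + 24 = r by omega, sval_bits,
      sval_appWord stdF4.good (by simp; exact h48)] at h1
    have e := prod_xG_val (F := K2) stdF4.good [(r, 1)]
    simp only [List.map_cons, List.map_nil, List.prod_cons, List.prod_nil, mul_one] at e
    rw [← h1, sem_pow, hM, xx, e]
    simp [sval]
  have key : ∀ n ≤ 52, ∀ y : ℕ, (∀ c, n ≤ c → c < 52 → y.testBit c = false) →
      sem (appR r y) = M *ᵥ sem y := by
    intro n
    induction n with
    | zero =>
      intro _ y hy
      have h0 : sem y = 0 := funext fun i => by simp [sem, hy _ (Nat.zero_le _) (idx_lt i)]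
      have h1 : appR r y = y := by
        unfold appR
        have hL : ∀ q ∈ colTab.getD (r - 24) [], q.1 < 52 := by
          intro q hq
          rw [List.getD_eq_getElem?_getD] at hq
          cases hg : colTab[r - 24]? with
          | none => simp [hg] at hq
          | some L => exact colTab_small L (List.mem_of_getElem? hg) q (by simpa [hg] using hq)
        generalize colTab.getD (r - 24) [] = L at hL ⊢
        induction L with
        | nil => rfl
        | cons q L ih =>
          rw [List.foldl_cons, hy q.1 (Nat.zero_le _) (hL q List.mem_cons_self)]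
          simp only [cond_false, Nat.xor_zero]
          exact ih fun p hp => hL p (List.mem_cons_of_mem _ hp)
      rw [h1, h0, Matrix.mulVec_zero]
    | succ n ih =>
      intro hn y hy
      by_cases hb : y.testBit n
      · have e : y = (y ^^^ 2 ^ n) ^^^ 2 ^ n := by rw [Nat.xor_assoc, Nat.xor_self, Nat.xor_zero]
        rw [e, appR_xor, sem_xor, sem_xor, Matrix.mulVec_add, hbase n (by omega),
          ih (by omega) _ fun c h1 h2 => ?_]
        rw [Nat.testBit_xor, Nat.testBit_two_pow]
        rcases Nat.eq_or_lt_of_le h1 with rfl | h1
        · simp [hb]
        · simp [hy c h1 h2, show n ≠ c by omega]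
      · exact ih (by omega) y fun c h1 h2 => by
          rcases Nat.eq_or_lt_of_le h1 with rfl | h1
          · simpa using hb
          · exact hy c h1 h2
  exact key 52 le_rfl x fun c h1 h2 => absurd h2 (by omega)

theorem sem_appW : ∀ {L : List ℕ}, L.all isPosNum = true → ∀ x, sem (appW L x) =
    ((prodX L : GL chevF4.Idx K2) : Matrix chevF4.Idx chevF4.Idx K2) *ᵥ sem x
  | [], _, x => by simp [appW, prodX]
  | r :: L, h, x => by
    simp only [List.all_cons, Bool.and_eq_true] at h
    rw [show appW (r :: L) x = appR r (appW L x) from rfl, sem_appR h.1, sem_appW h.2,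
      Matrix.mulVec_mulVec]
    simp [prodX]

/-- the choices in an orbit class -/
def opts : ℕ → List (List ℕ × Bool)
  | 0 => [([], false), ([33, 24], false)]
  | _ => [([], false), ([27, 25, 28], true), ([28, 30], false), ([27, 25, 30], true)]

/-- the choices of the factors of an element, from the orbits split off -/
noncomputable def facs : List ℕ → List ℕ → List (List (List ℕ × Bool))
  | [], _ => []
  | j :: js, p => facs js (p ++ foldF42.w j) ++ [(opts j).map fun o => (o.1.map (wf auxF4 p), o.2)]

/-- a selection of factors -/
inductive Sel : List (List (List ℕ × Bool)) → List ℕ → Bool → Prop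
  | nil : Sel [] [] false
  | cons {o : List (List ℕ × Bool)} {r : List (List (List ℕ × Bool))} {x : List ℕ × Bool}
      {L : List ℕ} {b : Bool} : x ∈ o → Sel r L b → Sel (o :: r) (x.1 ++ L) (xor x.2 b)

theorem Sel.snoc {F : List (List (List ℕ × Bool))} {L : List ℕ} {b : Bool} (h : Sel F L b)
    {o : List (List ℕ × Bool)} {x : List ℕ × Bool} (hx : x ∈ o) :
    Sel (F ++ [o]) (L ++ x.1) (xor b x.2) := by
  induction h with
  | nil => simpa using Sel.cons hx Sel.nil
  | cons hy _ ih => simpa [List.append_assoc, Bool.xor_assoc] using Sel.cons hy ih

/-- images under the selections -/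
def fwd : List (List (List ℕ × Bool)) → ℕ → List ℕ
  | [], v => [v]
  | o :: r, v => o.flatMap fun x => (fwd r v).map (appW x.1)

/-- images under the inverses of the selections, with the parity -/
def bwd : List (List (List ℕ × Bool)) → ℕ → Bool → List (ℕ × Bool)
  | [], acc, b => [(acc, b)]
  | o :: r, acc, b => o.flatMap fun x => bwd r (appW x.1.reverse acc) (xor b x.2)

theorem length_fwd_bwd : ∀ (F : List (List (List ℕ × Bool))) (v w : ℕ) (b : Bool),
    (fwd F v).length = (bwd F w b).length
  | [], _, _, _ => rfl
  | o :: r, v, w, b => by
    rw [fwd, bwd, List.length_flatMap, List.length_flatMap]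
    refine congrArg _ (List.map_congr_left fun x _ => ?_)
    rw [List.length_map]
    exact length_fwd_bwd r v _ _

theorem appW_append (L M : List ℕ) (x : ℕ) : appW (L ++ M) x = appW L (appW M x) := by
  simp [appW, List.foldr_append]

theorem mem_zip_flatMap {α β γ : Type*} (f : α → List β) (g : α → List γ)
    (hl : ∀ x, (f x).length = (g x).length) : ∀ {o : List α} {x : α}, x ∈ o → ∀ {p : β × γ},
    p ∈ (f x).zip (g x) → p ∈ (o.flatMap f).zip (o.flatMap g)
  | [], _, h, _, _ => absurd h List.not_mem_nil
  | y :: o, x, h, p, hp => by
    rw [List.flatMap_cons, List.flatMap_cons, List.zip_append (hl y), List.mem_append]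
    rcases List.mem_cons.1 h with rfl | h
    · exact Or.inl hp
    · exact Or.inr (mem_zip_flatMap f g hl h hp)

theorem Sel.mem_zip {F : List (List (List ℕ × Bool))} {L : List ℕ} {b : Bool} (h : Sel F L b) :
    ∀ (v w : ℕ) (c : Bool), (appW L v, appW L.reverse w, xor c b) ∈ (fwd F v).zip (bwd F w c) := by
  induction h with
  | nil => intro v w c; simp [fwd, bwd, appW]
  | @cons o r x L b hx _ ih =>
    intro v w c
    refine mem_zip_flatMap _ _ (fun y => by rw [List.length_map]; exact length_fwd_bwd r v _ _) hx ?_
    rw [List.zip_map_left, List.mem_map]
    refine ⟨_, ih v (appW x.1.reverse w) (xor c x.2), ?_⟩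
    simp [appW_append, Bool.xor_assoc]

/-- the orbits split off, from the right -/
def seq : List ℕ := [0, 1, 0, 1, 0, 1, 0, 1]

/-- the longest word -/
def w0 : List ℕ := foldF42.flat [1, 0, 1, 0, 1, 0, 1, 0]

/-- the conditions for splitting off orbits -/
noncomputable def chainB : List ℕ → List ℕ → Bool
  | [], w => (List.range 48).all fun r => wf auxF4 w r == r
  | j :: js, w => decide (j < 2) && w.all (fun i => decide (i < 4)) &&
      ((foldF42.J j).any fun i => decide (i < 4) && !posB chevF4 auxF4 (wf auxF4 w (chevF4.simple i))) &&
      ((List.range 48).all fun r => wf auxF4 w (foldF42.r r) == foldF42.r (wf auxF4 w r)) &&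
      chainB js (w ++ foldF42.w j)

/-- the conditions on the conjugated roots -/
noncomputable def signB : List ℕ → List ℕ → Bool
  | [], _ => true
  | j :: js, p => p.all (fun i => decide (i < 4)) && ((opts j).all fun o => o.1.all fun r =>
      decide (r < 48) && (sgnW auxF4 p r == 1 || sgnW auxF4 p r == -1)) && signB js (p ++ foldF42.w j)

theorem chain_true : chainB seq w0 = true := by decide +kernel

theorem sign_true : signB seq [] = true := by decide +kernel

theorem facs_pos : (facs seq []).all (fun o => o.all fun x => x.1.all isPosNum) = true := by
  decide +kernel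

theorem w0_neg : ((List.range 48).all fun r =>
    !decide (chevF4.IsPosRoot r) || decide (chevF4.IsNegRoot (wf auxF4 w0 r))) = true := by
  decide +kernel

/-- the test on all selections -/
noncomputable def test : Bool :=
  ((fwd (facs seq []) (2 ^ 12)).zip (bwd (facs seq []) (2 ^ 12) false)).all fun p =>
    !p.2.2 || !(p.1 % 2 ^ 52 == p.2.1 % 2 ^ 52)

theorem test_true : test = true := by decide +kernel

end CfsgLib.Chev.F42.Two
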