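import Cfsg.Agent.Lib.Chev.Twist.Fam.F4Two

/-!
Involutions of the group of type twisted F4 over the field with two elements lie in the commutator subgroup.
-/

set_option autoImplicit false
set_option maxRecDepth 100000
set_option linter.unusedSimpArgs false

namespace CfsgLib.Chev.F42.Two

open Cfsg.Lie Matrix CfsgLib.Chev
open scoped commutatorElement

theorem nW_append' (p q : List ℕ) :
    nW K2 stdF4.good (p ++ q) = nW K2 stdF4.good p * nW K2 stdF4.good q := by
  simp [nW]

theorem conj_prodX {p : List ℕ} (hp : Letters chevF4 p) : ∀ {L : List ℕ},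
    (∀ r ∈ L, r < 48 ∧ (sgnW auxF4 p r = 1 ∨ sgnW auxF4 p r = -1)) →
    nW K2 stdF4.good p * prodX L * (nW K2 stdF4.good p)⁻¹ = prodX (L.map (wf auxF4 p))
  | [], _ => by
    show nW K2 stdF4.good p * 1 * (nW K2 stdF4.good p)⁻¹ = 1
    rw [mul_one, mul_inv_cancel]
  | r :: L, h => by
    obtain ⟨h1, h2⟩ := h r List.mem_cons_self
    rw [List.map_cons, prodX_cons, prodX_cons,
      ← conj_prodX hp fun s hs => h s (List.mem_cons_of_mem _ hs),
      ← conj_nW (K := K2) hp (r := r) (r' := wf auxF4 p r) h1 rfl h2]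
    group

theorem W_eq_prodX :
    W (quad (RingHom.id K2) 0 0) = prodX [] ∧ W (quad (RingHom.id K2) 1 0) = prodX [27, 25, 28] ∧
      W (quad (RingHom.id K2) 0 1) = prodX [28, 30] ∧
      W (quad (RingHom.id K2) 1 1) = prodX [27, 25, 30] := by
  have h2 : (1 : K2) + 1 = 0 := CharTwo.add_self_eq_zero 1
  refine ⟨?_, ?_, ?_, ?_⟩ <;>
    simp [W, quad, prodX, h2, xG_zero, mul_assoc]

theorem sq_a : a * a = W (quad (RingHom.id K2) 0 1) := by
  have h2 : (1 : K2) + 1 = 0 := CharTwo.add_self_eq_zero 1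
  rw [a, quad, quad, W_mul]
  simp [h2]

theorem pair_mem : prodX [33, 24] ∈ T.fix := by
  have e : prodX [33, 24] = xx 33 (RingHom.id K2 1) * xx 24 1 := by simp [prodX]
  rw [e]
  exact pair_fix hi 1

theorem z_fix : prodX [28, 30] ∈ T.fix := by
  rw [← W_eq_prodX.2.2.1]
  exact W_quad_fix hi 0 1

theorem prodX_congr {L M : List ℕ}
    (h : wordEqCheck chevF4 auxF4 2 (L.map fun r => (r, 1)) (M.map fun r => (r, 1)) = true) :
    prodX L = prodX M := by
  have := word_eq_of_check (F := K2) stdF4.good h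
  simpa [prodX, List.map_map, Function.comp_def] using this

theorem flat_fix {l : List ℕ} (hl : ∀ j ∈ l, j < 2) : nW K2 stdF4.good (foldF42.flat l) ∈ T.fix :=
  T.nFlat_fix fun j hj => by
    have := hl j hj
    show j < 2
    exact this

theorem conj_fix {n y : GL chevF4.Idx K2} (hn : n ∈ T.fix) (hy : y ∈ T.fix) : n * y * n⁻¹ ∈ T.fix :=
  mul_mem (mul_mem hn hy) (inv_mem hn)

/-- a product of roots obtained from another one by a monomial element -/
theorem prodX_conj_eq {p L M : List ℕ} (hp : p.all (fun i => decide (i < 4)) = true)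
    (hL : L.all (fun r => decide (r < 48) && (sgnW auxF4 p r == 1 || sgnW auxF4 p r == -1)) = true)
    (hM : L.map (wf auxF4 p) = M) :
    nW K2 stdF4.good p * prodX L * (nW K2 stdF4.good p)⁻¹ = prodX M := by
  rw [← hM]
  refine conj_prodX (fun i hi' => ?_) fun r hr => ?_
  · simp only [List.all_eq_true, decide_eq_true_eq] at hp
    exact hp i hi'
  · simp only [List.all_eq_true, Bool.and_eq_true, Bool.or_eq_true, decide_eq_true_eq,
      beq_iff_eq] at hL
    exact hL r hr

theorem r0_mem_C : prodX [33, 24] ∈ C := by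
  set n := nW K2 stdF4.good (foldF42.flat [1]) with hn
  have hnf : n ∈ T.fix := flat_fix (by simp)
  set n' := nW K2 stdF4.good (foldF42.flat [1, 0]) with hn'
  have hn'f : n' ∈ T.fix := flat_fix (by simp)
  have hA : prodX [27, 25, 28] ∈ T.fix := by
    rw [← W_eq_prodX.2.1]
    exact W_quad_fix hi 1 0
  have hB : n' * prodX [27, 25, 28] * n'⁻¹ ∈ T.fix := conj_fix hn'f hA
  have h1 : ⁅prodX [27, 25, 28], n' * prodX [27, 25, 28] * n'⁻¹⁆ ∈ C :=
    Subgroup.commutator_mem_commutator hA hB
  rw [hn', prodX_conj_eq (by decide +kernel) (by decide +kernel) rfl, commutatorElement_def,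
    prodX_reverse, prodX_reverse, ← prodX_append, ← prodX_append, ← prodX_append,
    prodX_congr (M := [33, 24].map (wf auxF4 (foldF42.flat [1]))) (by decide +kernel),
    ← prodX_conj_eq (p := foldF42.flat [1]) (L := [33, 24]) (by decide +kernel) (by decide +kernel) rfl,
    ← hn] at h1
  have h2 := conj_mem (inv_mem hnf) h1
  rwa [inv_inv, show n⁻¹ * (n * prodX [33, 24] * n⁻¹) * n = prodX [33, 24] by group] at h2

theorem z_mem_C : prodX [28, 30] ∈ C := by
  set n := nW K2 stdF4.good (foldF42.flat [0, 1, 0]) with hn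
  have hnf : n ∈ T.fix := flat_fix (by simp)
  set n' := nW K2 stdF4.good (foldF42.flat [1, 0]) with hn'
  have hn'f : n' ∈ T.fix := flat_fix (by simp)
  have hB : n' * prodX [28, 30] * n'⁻¹ ∈ T.fix := conj_fix hn'f z_fix
  have h1 : ⁅prodX [33, 24], n' * prodX [28, 30] * n'⁻¹⁆ ∈ C :=
    Subgroup.commutator_mem_commutator pair_mem hB
  rw [hn', prodX_conj_eq (by decide +kernel) (by decide +kernel) rfl, commutatorElement_def,
    prodX_reverse, prodX_reverse, ← prodX_append, ← prodX_append, ← prodX_append,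
    prodX_congr (M := [28, 30].map (wf auxF4 (foldF42.flat [0, 1, 0]))) (by decide +kernel),
    ← prodX_conj_eq (p := foldF42.flat [0, 1, 0]) (L := [28, 30]) (by decide +kernel)
      (by decide +kernel) rfl, ← hn] at h1
  have h2 := conj_mem (inv_mem hnf) h1
  rwa [inv_inv, show n⁻¹ * (n * prodX [28, 30] * n⁻¹) * n = prodX [28, 30] by group] at h2

theorem a_sq_mem : a * a ∈ C := by
  rw [sq_a, W_eq_prodX.2.2.1]
  exact z_mem_C

theorem Cong.one : Cong 1 false := ⟨one_mem _, by simp⟩

theorem Cong.conj {y n : GL chevF4.Idx K2} {b : Bool} (hy : Cong y b) (hn : n ∈ T.fix) :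
    Cong (n * y * n⁻¹) b := by
  refine ⟨conj_fix hn hy.1, ?_⟩
  have h := hy.2
  set e : GL chevF4.Idx K2 := if b then a else 1
  have : ⁅n, y⁆ * (y * e) ∈ C := mul_mem (Subgroup.commutator_mem_commutator hn hy.1) h
  rwa [commutatorElement_def, show n * y * n⁻¹ * y⁻¹ * (y * e) = n * y * n⁻¹ * e by group] at this

theorem Cong.mul {y z : GL chevF4.Idx K2} {b c : Bool} (hy : Cong y b) (hz : Cong z c) :
    Cong (y * z) (xor b c) := by
  refine ⟨mul_mem hy.1 hz.1, ?_⟩
  cases b with
  | false =>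
    have h1 := hy.2
    simp only [Bool.false_eq_true, if_false, mul_one] at h1
    have := mul_mem h1 hz.2
    simpa [mul_assoc] using this
  | true =>
    have h1 := hy.2
    simp only [if_true] at h1
    have h2 := conj_mem (inv_mem a_fix) hz.2
    have h3 := mul_mem h1 h2
    cases c with
    | false => simpa [mul_assoc] using h3
    | true =>
      simp only [if_true, inv_inv] at h3
      have h4 := mul_mem h3 (inv_mem a_sq_mem)
      rw [show y * a * (a⁻¹ * (z * a) * a) * (a * a)⁻¹ = y * z by group] at h4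
      simpa using h4

theorem class_opts {j : ℕ} (hj : j < 2) {c : GL chevF4.Idx K2} (hc : c ∈ T.V (foldF42.w j)) :
    ∃ o ∈ opts j, c = prodX o.1 ∧ Cong c o.2 := by
  obtain rfl | rfl : j = 0 ∨ j = 1 := by omega
  · obtain ⟨t, rfl⟩ := ((class0 hi).2 c).1 hc
    have ht : t = 0 ∨ t = 1 := (by decide : ∀ t : K2, t = 0 ∨ t = 1) t
    rcases ht with rfl | rfl
    · have e : xx 33 (RingHom.id K2 0) * xx 24 0 = (1 : GL chevF4.Idx K2) := by simp [xG_zero]
      exact ⟨_, List.mem_cons_self, e, e ▸ Cong.one⟩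
    · have e : xx 33 (RingHom.id K2 1) * xx 24 1 = prodX [33, 24] := by simp [prodX]
      refine ⟨([33, 24], false), by simp [opts], e, ?_⟩
      rw [e]
      exact ⟨pair_mem, by simpa using r0_mem_C⟩
  · obtain ⟨t, u, rfl⟩ := ((class1 hi).2 c).1 hc
    have key : ∀ t : K2, t = 0 ∨ t = 1 := by decide
    obtain ⟨e00, e10, e01, e11⟩ := W_eq_prodX
    rcases key t with rfl | rfl <;> rcases key u with rfl | rfl
    · exact ⟨([], false), by simp [opts], e00, by rw [e00]; exact Cong.one⟩
    · refine ⟨([28, 30], false), by simp [opts], e01, ?_⟩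
      rw [e01]
      exact ⟨z_fix, by simpa using z_mem_C⟩
    · refine ⟨([27, 25, 28], true), by simp [opts], e10, W_quad_fix hi 1 0, ?_⟩
      rw [show W (quad (RingHom.id K2) 1 0) = a from rfl]
      simpa using a_sq_mem
    · refine ⟨([27, 25, 30], true), by simp [opts], e11, W_quad_fix hi 1 1, ?_⟩
      have e : W (quad (RingHom.id K2) 1 1) = a * (a * a) := by
        rw [sq_a]
        simp only [a, quad, W_mul]
        simp [CharTwo.add_self_eq_zero]
      rw [e]
      have := mul_mem a_sq_mem a_sq_mem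
      simpa [mul_assoc] using this

theorem decomp : ∀ (js p w : List ℕ), chainB js w = true → signB js p = true →
    nW K2 stdF4.good p ∈ T.fix → ∀ y ∈ T.V w,
    ∃ L b, Sel (facs js p) L b ∧ nW K2 stdF4.good p * y * (nW K2 stdF4.good p)⁻¹ = prodX L ∧
      Cong (prodX L) b
  | [], p, w, hc, _, _, y, hy => by
    simp only [chainB, List.all_eq_true, List.mem_range, beq_iff_eq] at hc
    rw [T.V_id hc, Subgroup.mem_bot] at hy
    refine ⟨[], false, Sel.nil, ?_, Cong.one⟩
    rw [hy, mul_one, mul_inv_cancel]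
    rfl
  | j :: js, p, w, hc, hs, hp, y, hy => by
    simp only [chainB, Bool.and_eq_true, List.all_eq_true, List.mem_range, beq_iff_eq,
      decide_eq_true_eq, List.any_eq_true, Bool.not_eq_true'] at hc
    obtain ⟨⟨⟨⟨hj, hw⟩, i, hi', hi4, hneg⟩, hcomm⟩, hrest⟩ := hc
    simp only [signB, Bool.and_eq_true, List.all_eq_true, decide_eq_true_eq, Bool.or_eq_true,
      beq_iff_eq] at hs
    obtain ⟨⟨hpl, hsg⟩, hsrest⟩ := hs
    have hn : ¬ chevF4.IsPosRoot (wf auxF4 w (chevF4.simple i)) := fun h => by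
      rw [(posB_iff stdF4.good h.1).2 h] at hneg
      exact Bool.noConfusion hneg
    obtain ⟨x, hx, c, hcV, rfl⟩ := T.V_split_elem hw hcomm hj hi' hn hy
    have hpj : nW K2 stdF4.good (p ++ foldF42.w j) ∈ T.fix := by
      rw [nW_append']
      exact mul_mem hp (T.nJ_fix hj)
    obtain ⟨L, b, hSel, hL, hCb⟩ := decomp js _ _ hrest hsrest hpj x hx
    obtain ⟨o, ho, hco, hCo⟩ := class_opts hj hcV
    refine ⟨L ++ o.1.map (wf auxF4 p), xor b o.2,
      hSel.snoc (x := (o.1.map (wf auxF4 p), o.2)) (List.mem_map.2 ⟨o, ho, rfl⟩), ?_, ?_⟩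
    · rw [prodX_append, ← hL, ← conj_prodX hpl (hsg o ho), ← hco, nW_append']
      show _ = nW K2 stdF4.good p * T.nJ j * x * (nW K2 stdF4.good p * T.nJ j)⁻¹ * _
      group
    · rw [prodX_append]
      refine hCb.mul ?_
      rw [← conj_prodX hpl (hsg o ho), ← hco]
      exact hCo.conj hp

theorem V_w0 : T.V w0 = chevF4.posUnipotent K2 ⊓ T.fix := by
  refine le_antisymm (T.V_le_pos _) (inf_le_inf_right _ ?_)
  rw [posUnipotent_eq stdF4.good, Subgroup.closure_le]
  rintro y ⟨r, t, hr, rfl⟩
  refine xG_mem_UP stdF4.good ⟨hr, ?_⟩ t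
  have h := w0_neg
  simp only [List.all_eq_true, List.mem_range, Bool.or_eq_true, Bool.not_eq_true',
    decide_eq_false_iff_not, decide_eq_true_eq] at h
  exact (h r hr.1).resolve_left fun hn => hn hr

theorem Sel.all_pos {F : List (List (List ℕ × Bool))} {L : List ℕ} {b : Bool} (h : Sel F L b) :
    (F.all fun o => o.all fun x => x.1.all isPosNum) = true → L.all isPosNum = true := by
  induction h with
  | nil => exact fun _ => rfl
  | @cons o r x M c hx _ ih =>
    intro hf
    rw [List.all_cons, Bool.and_eq_true] at hf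
    rw [List.all_append, Bool.and_eq_true]
    exact ⟨List.all_eq_true.1 hf.1 x hx, ih hf.2⟩

/-- the test refutes involutions among selections of odd parity -/
theorem no_odd_invol {F : List (List (List ℕ × Bool))} {L : List ℕ} {v n : ℕ} (hn : n = 52)
    (ht : (((fwd F v).zip (bwd F v false)).all fun p => !p.2.2 || !(p.1 % 2 ^ n == p.2.1 % 2 ^ n)) = true)
    (hF : (F.all fun o => o.all fun x => x.1.all isPosNum) = true) (hSel : Sel F L true)
    (h2 : prodX L * prodX L = 1) : False := by
  have hLpos := hSel.all_pos hF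
  have hrev : L.reverse.all isPosNum = true := by rwa [List.all_reverse]
  have h1 := List.all_eq_true.1 ht _ (hSel.mem_zip v v false)
  simp only [Bool.false_xor, Bool.not_true, Bool.false_or, Bool.not_eq_true',
    beq_eq_false_iff_ne] at h1
  apply h1
  have e : prodX L.reverse = prodX L := by
    rw [← prodX_reverse]
    exact inv_eq_of_mul_eq_one_right h2
  have hsem : sem (appW L v) = sem (appW L.reverse v) :=
    (sem_appW hLpos v).trans
      ((congrArg (fun M : GL chevF4.Idx K2 => (M : Matrix chevF4.Idx chevF4.Idx K2) *ᵥ sem v) e.symm).trans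
        (sem_appW hrev v).symm)
  apply Nat.eq_of_testBit_eq
  intro c
  rw [Nat.testBit_mod_two_pow, Nat.testBit_mod_two_pow]
  by_cases hc : c < n
  · obtain ⟨x, hx⟩ := exists_idx (D := chevF4) (c := c) (show c < 52 by omega)
    have := congrFun hsem x
    simp only [sem, hx] at this
    simp only [hc, decide_true, Bool.true_and]
    revert this
    cases (appW L v).testBit c <;> cases (appW L.reverse v).testBit c <;> simp
  · simp [hc]

/-- an involution in the fixed unipotent part lies in the commutator subgroup -/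
theorem pos_invol {u : GL chevF4.Idx K2} (hu : u ∈ chevF4.posUnipotent K2 ⊓ T.fix) (hu2 : u * u = 1) :
    u ∈ C := by
  rw [← V_w0] at hu
  obtain ⟨L, b, hSel, hL, hC⟩ := decomp seq [] w0 chain_true sign_true
    (by simpa [nW] using one_mem T.fix) u hu
  simp only [nW, List.map_nil, List.prod_nil, one_mul, inv_one, mul_one] at hL
  subst hL
  cases b with
  | false => simpa using hC.2
  | true => exact (no_odd_invol (n := 52) rfl test_true facs_pos hSel hu2).elim

theorem involution_mem_aux (G : Subgroup (GL chevF4.Idx K2)) (heq : G = T.fix) (g : ↥G)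
    (hg : orderOf g = 2) (hc1 : Nat.card ↥(chevF4.posUnipotent K2 ⊓ T.fix) = 2 ^ 12)
    (hc2 : Nat.card ↥T.fix = 2 ^ 12 * 8775) : g ∈ commutator ↥G := by
  classical
  haveI : Finite (GL chevF4.Idx K2) := finite_GL
  haveI : Fact (Nat.Prime 2) := ⟨Nat.prime_two⟩
  set P : Subgroup ↥G := (chevF4.posUnipotent K2 ⊓ T.fix).subgroupOf G with hP
  have hPle : chevF4.posUnipotent K2 ⊓ T.fix ≤ G := heq ▸ inf_le_right
  have hPc : Nat.card P = 2 ^ 12 := by
    rw [hP, Nat.card_congr (Subgroup.subgroupOfEquivOfLe hPle).toEquiv]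
    exact hc1
  have hGc : Nat.card G = 2 ^ 12 * 8775 := by
    rw [heq]
    exact hc2
  have hfac : (Nat.card G).factorization 2 = 12 := by
    rw [hGc, Nat.factorization_mul (by norm_num) (by norm_num), Finsupp.add_apply,
      Nat.Prime.factorization_pow Nat.prime_two,
      Nat.factorization_eq_zero_of_not_dvd (show ¬ 2 ∣ 8775 by norm_num)]
    simp
  let S : Sylow 2 ↥G := Sylow.ofCard P (by rw [hPc, hfac])
  have hz : IsPGroup 2 (Subgroup.zpowers g) := IsPGroup.of_card (n := 1) (by
    rw [Nat.card_zpowers g, hg, pow_one])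
  obtain ⟨Q, hQ⟩ := hz.exists_le_sylow
  obtain ⟨c, hc⟩ := MulAction.exists_smul_eq ↥G S Q
  have hgQ : g ∈ (Q : Subgroup ↥G) := hQ (Subgroup.mem_zpowers g)
  rw [← hc, Sylow.coe_subgroup_smul, Subgroup.mem_pointwise_smul_iff_inv_smul_mem,
    MulAut.smul_def, MulAut.conj_inv_apply] at hgQ
  have hu : ((c⁻¹ * g * c : ↥G) : GL chevF4.Idx K2) ∈ chevF4.posUnipotent K2 ⊓ T.fix := by
    change c⁻¹ * g * c ∈ P at hgQ
    rwa [hP, Subgroup.mem_subgroupOf] at hgQ
  have hg2 : g * g = 1 := by
    rw [← pow_two]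
    exact orderOf_dvd_iff_pow_eq_one.1 (dvd_of_eq hg)
  have hu2 : ((c⁻¹ * g * c : ↥G) : GL chevF4.Idx K2) * ((c⁻¹ * g * c : ↥G) : GL chevF4.Idx K2) = 1 := by
    rw [← Subgroup.coe_mul, show c⁻¹ * g * c * (c⁻¹ * g * c) = c⁻¹ * (g * g) * c by group, hg2,
      mul_one, inv_mul_cancel]
    rfl
  have hmap : (commutator ↥G).map G.subtype = ⁅G, G⁆ := Subgroup.map_subtype_commutator G
  have hGC : (C : Subgroup (GL chevF4.Idx K2)) = ⁅G, G⁆ := by rw [heq]
  have h1 : c⁻¹ * g * c ∈ commutator ↥G := by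
    have := pos_invol hu hu2
    rw [hGC, ← hmap] at this
    obtain ⟨d, hd, hde⟩ := this
    rwa [← (Subtype.ext hde : d = c⁻¹ * g * c)]
  have h2 := (inferInstance : (commutator ↥G).Normal).conj_mem _ h1 c
  rwa [show c * (c⁻¹ * g * c) * c⁻¹ = g by group] at h2

theorem involution_mem (g : ↥(twistedF4 K2 1)) (hg : orderOf g = 2) :
    g ∈ commutator ↥(twistedF4 K2 1) :=
  involution_mem_aux _ (twisted_eq_fix hσ hi) g hg (orders hi (q := 2) (by simp)).1
    ((orders hi (q := 2) (by simp)).2.trans (by norm_num))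

end CfsgLib.Chev.F42.Two
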