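/-
The groups of type twisted G2.
-/
import Cfsg.Agent.Lib.Chev.Twist.Count
import Cfsg.Agent.Lib.Chev.Twist.Frob
import Cfsg.Agent.Lib.Chev.Twist.WordEq
import Cfsg.Agent.Lib.Chev.Twist.SpecialData
import Cfsg.Agent.Lib.Chev.Data.FoldCheckG22
import Cfsg.Prelude.Def_LieTwisted

set_option autoImplicit false
set_option maxRecDepth 100000
set_option linter.unusedSimpArgs false

namespace CfsgLib.Chev.G22

open Cfsg.Lie Matrix CfsgLib.Chev
open scoped commutatorElement

theorem braid : braidCheck chevG2 auxG2 foldG22 = true := by decide +kernel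
theorem extra : foldExtra chevG2 auxG2 foldG22 = true := by decide +kernel
theorem cox : orbCox chevG2 auxG2 foldG22 (fun i j => CoxeterMatrix.A 1 i j) = true := by
  decide +kernel
theorem top : ∃ e ∈ ftabG22, e.cnt = chevG2.posRoots.length := by
  have : (ftabG22.any fun e => decide (e.cnt = 6)) = true := by decide +kernel
  obtain ⟨e, he, hc⟩ := List.any_eq_true.1 this
  exact ⟨e, he, by rw [length_posRoots stdG2.good]; exact of_decide_eq_true hc⟩
theorem isoFold : IsoFold chevG2 auxG2 foldG22 isoG2 := by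
  constructor <;> decide +kernel
theorem poly : fixPoly 2 ftabG22 =
    ([pAdd (pMono 0) (pMono 3)] : List (List ℕ)).foldr pMul [1] := by
  decide +kernel

variable {K : Type*} [Field K] [CharP K 3] {e : ℕ} {σ : K →+* K}

/-- the folded endomorphism -/
noncomputable def tw (σ : K →+* K) : Twist K stdG2 foldG22 :=
  haveI : CharP K isoG2.p := ‹CharP K 3›
  Twist.ofIso stdG2 foldG22_valid braid conn_G2 isoG2_valid isoFold σ

lemma phi_eq {r l : ℕ} (he : isoG2.l r = l) (t : K) : (tw σ).phi r t = σ t ^ l := by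
  subst he; rfl

lemma psi_eq {i : ℕ} (hi : i < chevG2.rank) (t : K) :
    (tw σ).psi i t = σ t ^ isoG2.l (chevG2.simple i) :=
  ((tw σ).phi_simple i hi t).1.symm

lemma three : (3 : K) = 0 := CharP.ofNat_eq_zero K 3

lemma neg_two : (-2 : K) = 1 := by linear_combination -(three (K := K))

/-- the root element with the standard tables -/
noncomputable abbrev xx (r : ℕ) (t : K) : GL chevG2.Idx K := xG stdG2.good r t

omit [CharP K 3] in
lemma commP {r s : ℕ} (h : commPair chevG2 auxG2 r s = true) (t u : K) :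
    Commute (xx r t) (xx s u) := commute_xG stdG2 h t u

lemma swap67 (t u : K) :
    xx 6 u * xx 7 t = xx 7 t * (xx 6 u * (xx 8 (t * u) * (xx 9 (t ^ 2 * u) *
      (xx 10 (-(t ^ 3 * u)) * xx 11 (-(t ^ 3 * u ^ 2)))))) := by
  have := xG_swap stdG2 (r := 7) (s := 6) (by decide +kernel) (by decide +kernel) (by decide)
    (by decide +kernel) t u
  rw [show auxG2.terms 7 6 = [(8, -1, 1, 1), (9, 1, 2, 1), (10, 1, 3, 1), (11, 1, 3, 2)] by
    decide +kernel] at this
  simp only [List.map_cons, List.map_nil, List.prod_cons, List.prod_nil, mul_one, pow_one,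
    Int.cast_neg, Int.cast_one, one_mul, neg_mul, mul_neg, neg_neg, neg_sq] at this
  rw [xx, xx, this, mul_assoc]
  congr 5 <;> ring

lemma swap87 (t u : K) : xx 8 u * xx 7 t = xx 7 t * (xx 8 u * xx 9 (-(t * u))) := by
  have := xG_swap stdG2 (r := 7) (s := 8) (by decide +kernel) (by decide +kernel) (by decide)
    (by decide +kernel) t u
  rw [show auxG2.terms 7 8 = [(9, -2, 1, 1), (10, -3, 2, 1), (11, 3, 1, 2)] by decide +kernel] at this
  simp only [List.map_cons, List.map_nil, List.prod_cons, List.prod_nil, mul_one, pow_one,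
    Int.cast_neg, Int.cast_ofNat, three, neg_zero, zero_mul, xG_zero] at this
  rw [xx, xx, this, mul_assoc]
  congr 3
  linear_combination (t * u) * (three (K := K))

lemma comm97 (t u : K) : Commute (xx 9 u) (xx 7 t) := by
  have := xG_swap stdG2 (r := 7) (s := 9) (by decide +kernel) (by decide +kernel) (by decide)
    (by decide +kernel) t u
  rw [show auxG2.terms 7 9 = [(10, 3, 1, 1)] by decide +kernel] at this
  simp only [List.map_cons, List.map_nil, List.prod_cons, List.prod_nil, mul_one, pow_one,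
    Int.cast_ofNat, three, zero_mul, xG_zero] at this
  exact this

lemma comm98 (t u : K) : Commute (xx 9 u) (xx 8 t) := by
  have := xG_swap stdG2 (r := 8) (s := 9) (by decide +kernel) (by decide +kernel) (by decide)
    (by decide +kernel) t u
  rw [show auxG2.terms 8 9 = [(11, 3, 1, 1)] by decide +kernel] at this
  simp only [List.map_cons, List.map_nil, List.prod_cons, List.prod_nil, mul_one, pow_one,
    Int.cast_ofNat, three, zero_mul, xG_zero] at this
  exact this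

lemma swap106 (t u : K) : xx 10 u * xx 6 t = xx 6 t * (xx 10 u * xx 11 (-(t * u))) := by
  have := xG_swap stdG2 (r := 6) (s := 10) (by decide +kernel) (by decide +kernel) (by decide)
    (by decide +kernel) t u
  rw [show auxG2.terms 6 10 = [(11, 1, 1, 1)] by decide +kernel] at this
  simp only [List.map_cons, List.map_nil, List.prod_cons, List.prod_nil, mul_one, pow_one,
    Int.cast_one, one_mul, neg_mul] at this
  rw [xx, xx, this, mul_assoc]

lemma m67 (t u : K) (z : GL chevG2.Idx K) :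
    xx 6 u * (xx 7 t * z) = xx 7 t * (xx 6 u * (xx 8 (t * u) * (xx 9 (t ^ 2 * u) *
      (xx 10 (-(t ^ 3 * u)) * (xx 11 (-(t ^ 3 * u ^ 2)) * z))))) := by
  rw [← mul_assoc, swap67]; simp only [mul_assoc]

lemma m87 (t u : K) (z : GL chevG2.Idx K) :
    xx 8 u * (xx 7 t * z) = xx 7 t * (xx 8 u * (xx 9 (-(t * u)) * z)) := by
  rw [← mul_assoc, swap87]; simp only [mul_assoc]

lemma m106 (t u : K) (z : GL chevG2.Idx K) :
    xx 10 u * (xx 6 t * z) = xx 6 t * (xx 10 u * (xx 11 (-(t * u)) * z)) := by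
  rw [← mul_assoc, swap106]; simp only [mul_assoc]

lemma m97 (t u : K) (z : GL chevG2.Idx K) : xx 9 u * (xx 7 t * z) = xx 7 t * (xx 9 u * z) :=
  (comm97 t u).left_comm z

lemma m98 (t u : K) (z : GL chevG2.Idx K) : xx 9 u * (xx 8 t * z) = xx 8 t * (xx 9 u * z) :=
  (comm98 t u).left_comm z

lemma m107 (t u : K) (z : GL chevG2.Idx K) : xx 10 u * (xx 7 t * z) = xx 7 t * (xx 10 u * z) :=
  (commP (by decide +kernel) u t).left_comm z

lemma m117 (t u : K) (z : GL chevG2.Idx K) : xx 11 u * (xx 7 t * z) = xx 7 t * (xx 11 u * z) :=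
  (commP (by decide +kernel) u t).left_comm z

lemma m86 (t u : K) (z : GL chevG2.Idx K) : xx 8 u * (xx 6 t * z) = xx 6 t * (xx 8 u * z) :=
  (commP (by decide +kernel) u t).left_comm z

lemma m96 (t u : K) (z : GL chevG2.Idx K) : xx 9 u * (xx 6 t * z) = xx 6 t * (xx 9 u * z) :=
  (commP (by decide +kernel) u t).left_comm z

lemma m116 (t u : K) (z : GL chevG2.Idx K) : xx 11 u * (xx 6 t * z) = xx 6 t * (xx 11 u * z) :=
  (commP (by decide +kernel) u t).left_comm z

lemma m108 (t u : K) (z : GL chevG2.Idx K) : xx 10 u * (xx 8 t * z) = xx 8 t * (xx 10 u * z) :=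
  (commP (by decide +kernel) u t).left_comm z

lemma m118 (t u : K) (z : GL chevG2.Idx K) : xx 11 u * (xx 8 t * z) = xx 8 t * (xx 11 u * z) :=
  (commP (by decide +kernel) u t).left_comm z

lemma m109 (t u : K) (z : GL chevG2.Idx K) : xx 10 u * (xx 9 t * z) = xx 9 t * (xx 10 u * z) :=
  (commP (by decide +kernel) u t).left_comm z

lemma m119 (t u : K) (z : GL chevG2.Idx K) : xx 11 u * (xx 9 t * z) = xx 9 t * (xx 11 u * z) :=
  (commP (by decide +kernel) u t).left_comm z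

lemma m1110 (t u : K) (z : GL chevG2.Idx K) : xx 11 u * (xx 10 t * z) = xx 10 t * (xx 11 u * z) :=
  (commP (by decide +kernel) u t).left_comm z

omit [CharP K 3] in
lemma madd (r : ℕ) (t u : K) (z : GL chevG2.Idx K) : xx r t * (xx r u * z) = xx r (t + u) * z := by
  rw [← mul_assoc, xx, xG_add]

/-- coordinates `a, b, a+b, 2a+b, 3a+b, 3a+2b` -/
structure Co (K : Type*) where
  a : K
  b : K
  c : K
  d : K
  f : K
  g : K

/-- coordinates as tuples -/
def Co.equiv (K : Type*) : Co K ≃ K × K × K × K × K × K where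
  toFun q := (q.a, q.b, q.c, q.d, q.f, q.g)
  invFun p := ⟨p.1, p.2.1, p.2.2.1, p.2.2.2.1, p.2.2.2.2.1, p.2.2.2.2.2⟩
  left_inv _ := rfl
  right_inv _ := rfl

noncomputable instance [Fintype K] : Fintype (Co K) := Fintype.ofEquiv _ (Co.equiv K).symm

/-- the general element of the positive unipotent group -/
noncomputable def W (q : Co K) : GL chevG2.Idx K :=
  xx 7 q.a * xx 6 q.b * xx 8 q.c * xx 9 q.d * xx 10 q.f * xx 11 q.g

lemma W_mul (a b c d f g a' b' c' d' f' g' : K) :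
    W ⟨a, b, c, d, f, g⟩ * W ⟨a', b', c', d', f', g'⟩ =
      W ⟨a + a', b + b', c + c' + a' * b, d + d' + a' ^ 2 * b - a' * c, f + f' - a' ^ 3 * b,
        g + g' - a' ^ 3 * b ^ 2 - b' * (f - a' ^ 3 * b)⟩ := by
  rw [← mul_one (W _ * W _), ← mul_one (W ⟨a + a', _, _, _, _, _⟩)]
  simp only [W, mul_assoc, m67, m87, m106, m97, m98, m107, m117, m86, m96, m116, m108, m118, m109,
    m119, m1110, madd]
  ring_nf

lemma W_pw (a b c d f g : K) :
    xx 6 b * xx 7 a * xx 8 c * xx 9 d * xx 10 f * xx 11 g =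
      W ⟨a, b, c + a * b, d + a ^ 2 * b, f - a ^ 3 * b, g - a ^ 3 * b ^ 2⟩ := by
  rw [← mul_one (_ * xx 11 g), ← mul_one (W _)]
  simp only [W, mul_assoc, m67, m87, m106, m97, m98, m107, m117, m86, m96, m116, m108, m118, m109,
    m119, m1110, madd]
  ring_nf

/-- coordinates in increasing order -/
def coord (q : Co K) (r : ℕ) : K :=
  if r = 6 then q.b else if r = 7 then q.a else if r = 8 then q.c - q.a * q.b
  else if r = 9 then q.d - q.a ^ 2 * q.b else if r = 10 then q.f + q.a ^ 3 * q.b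
  else q.g + q.a ^ 3 * q.b ^ 2

lemma W_eq_pw (q : Co K) : W q = pw stdG2.good [6, 7, 8, 9, 10, 11] (coord q) := by
  obtain ⟨a, b, c, d, f, g⟩ := q
  have := W_pw a b (c - a * b) (d - a ^ 2 * b) (f + a ^ 3 * b) (g + a ^ 3 * b ^ 2)
  rw [sub_add_cancel, sub_add_cancel, add_sub_cancel_right, add_sub_cancel_right] at this
  rw [← this]
  simp [pw, coord, xx, mul_assoc]

lemma W_inj : Function.Injective (W : Co K → GL chevG2.Idx K) := by
  intro p q e
  rw [W_eq_pw, W_eq_pw] at e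
  have h := pw_filter_inj stdG2 (by decide +kernel) e
  obtain ⟨a, b, c, d, f, g⟩ := p
  obtain ⟨a', b', c', d', f', g'⟩ := q
  have h1 : b = b' := h 6 (by simp)
  have h2 : a = a' := h 7 (by simp)
  have h3 : c - a * b = c' - a' * b' := h 8 (by simp)
  have h4 : d - a ^ 2 * b = d' - a' ^ 2 * b' := h 9 (by simp)
  have h5 : f + a ^ 3 * b = f' + a' ^ 3 * b' := h 10 (by simp)
  have h6 : g + a ^ 3 * b ^ 2 = g' + a' ^ 3 * b' ^ 2 := h 11 (by simp)
  subst h1 h2
  rw [sub_left_inj] at h3 h4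
  rw [add_left_inj] at h5 h6
  rw [h3, h4, h5, h6]

/-- the action on the parameters -/
def Phi (σ : K →+* K) (q : Co K) : Co K :=
  ⟨σ q.b, σ q.a ^ 3, σ q.b * σ q.a ^ 3 + σ q.f, σ q.b ^ 2 * σ q.a ^ 3 + σ q.g,
    -(σ q.b ^ 3 * σ q.a ^ 3) + σ q.c ^ 3, -(σ q.b ^ 3 * (σ q.a ^ 3) ^ 2) + σ q.d ^ 3⟩

lemma W_maps (q : Co K) : (tw σ).Maps (W q) (W (Phi σ q)) := by
  obtain ⟨a, b, c, d, f, g⟩ := q
  have := Twist.Maps.mul _ (Twist.Maps.mul _ (Twist.Maps.mul _ (Twist.Maps.mul _ (Twist.Maps.mul _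
    ((tw σ).maps_xG (show 7 < chevG2.nroots by decide +kernel) a)
    ((tw σ).maps_xG (show 6 < chevG2.nroots by decide +kernel) b))
    ((tw σ).maps_xG (show 8 < chevG2.nroots by decide +kernel) c))
    ((tw σ).maps_xG (show 9 < chevG2.nroots by decide +kernel) d))
    ((tw σ).maps_xG (show 10 < chevG2.nroots by decide +kernel) f))
    ((tw σ).maps_xG (show 11 < chevG2.nroots by decide +kernel) g)
  rw [show foldG22.r 7 = 6 by decide +kernel, show foldG22.r 6 = 7 by decide +kernel,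
    show foldG22.r 8 = 10 by decide +kernel, show foldG22.r 9 = 11 by decide +kernel,
    show foldG22.r 10 = 8 by decide +kernel, show foldG22.r 11 = 9 by decide +kernel,
    phi_eq (show isoG2.l 7 = 3 by decide +kernel), phi_eq (show isoG2.l 6 = 1 by decide +kernel),
    phi_eq (show isoG2.l 8 = 3 by decide +kernel), phi_eq (show isoG2.l 9 = 3 by decide +kernel),
    phi_eq (show isoG2.l 10 = 1 by decide +kernel), phi_eq (show isoG2.l 11 = 1 by decide +kernel),
    pow_one, pow_one, pow_one] at this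
  refine Eq.mp (congrArg _ ?_) this
  show xx 6 (σ a ^ 3) * xx 7 (σ b) * xx 10 (σ c ^ 3) * xx 11 (σ d ^ 3) * xx 8 (σ f) * xx 9 (σ g) = _
  rw [← mul_one (_ * xx 9 (σ g)), ← mul_one (W _)]
  simp only [W, Phi, mul_assoc, m67, m87, m106, m97, m98, m107, m117, m86, m96, m116, m108, m118,
    m109, m119, m1110, madd]

/-- the inverse relation of the twisting -/
def Inv3 (σ : K →+* K) : Prop := ∀ x, σ (σ x) ^ 3 = x

/-- the fixed element with three parameters -/
def quad (σ : K →+* K) (t u v : K) : Co K := ⟨σ t, t, σ t * t + σ u, σ t ^ 2 * t + σ v, u, v⟩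

lemma add_pow3 (x y : K) : (x + y) ^ 3 = x ^ 3 + y ^ 3 := by
  have : Fact (Nat.Prime 3) := ⟨Nat.prime_three⟩
  exact add_pow_char x y 3

lemma phi_quad (hi : Inv3 σ) (t u v : K) : Phi σ (quad σ t u v) = quad σ t u v := by
  have e1 := hi t
  have e2 := hi u
  have e3 := hi v
  simp only [Phi, quad, e1, Co.mk.injEq, true_and, map_add, map_mul, map_pow, add_pow3, mul_pow, e2, e3]
  refine ⟨by ring, ?_⟩
  linear_combination (σ t ^ 3 * (σ (σ t) ^ 3 + t)) * e1

lemma quad_of_fixed {q : Co K} (hq : Phi σ q = q) : q = quad σ q.b q.f q.g := by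
  obtain ⟨a, b, c, d, f, g⟩ := q
  simp only [Phi, Co.mk.injEq] at hq
  obtain ⟨h1, h2, h3, h4, -, -⟩ := hq
  simp only [quad, Co.mk.injEq, and_true, true_and]
  exact ⟨h1.symm, by rw [← h3, h2], by rw [← h4, h2]⟩

lemma W_quad_fix (hi : Inv3 σ) (t u v : K) : W (quad σ t u v) ∈ (tw σ).fix := by
  have := W_maps (σ := σ) (quad σ t u v)
  rw [phi_quad hi] at this
  exact this

lemma exists_quad {q : Co K} (hq : W q ∈ (tw σ).fix) : q = quad σ q.b q.f q.g :=
  quad_of_fixed (W_inj (Twist.Maps.fun_eq _ (W_maps q) hq))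

/-- the longest orbit word -/
lemma letters : Letters chevG2 [0, 1, 0, 1, 0, 1] := by unfold Letters; decide +kernel

lemma conj_nW {r r' : ℕ} (hr : r < chevG2.nroots) (e : wf auxG2 [0, 1, 0, 1, 0, 1] r = r')
    (hs : sgnW auxG2 [0, 1, 0, 1, 0, 1] r = -1) (t : K) :
    nW K stdG2.good [0, 1, 0, 1, 0, 1] * xx r t * (nW K stdG2.good [0, 1, 0, 1, 0, 1])⁻¹ =
      xx r' (-t) := by
  rw [xx, nW_conj_xG stdG2.good letters hr, hs, e]
  simp

/-- the negative word as a conjugate -/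
lemma neg_W (q : Co K) :
    (tw σ).nJ 0 * W q * ((tw σ).nJ 0)⁻¹ =
      xx 4 (-q.a) * xx 5 (-q.b) * xx 3 (-q.c) * xx 2 (-q.d) * xx 1 (-q.f) * xx 0 (-q.g) := by
  show nW K stdG2.good [0, 1, 0, 1, 0, 1] * W q * (nW K stdG2.good [0, 1, 0, 1, 0, 1])⁻¹ = _
  set n := nW K stdG2.good [0, 1, 0, 1, 0, 1] with hn
  rw [W, show n * (xx 7 q.a * xx 6 q.b * xx 8 q.c * xx 9 q.d * xx 10 q.f * xx 11 q.g) * n⁻¹ =
    (n * xx 7 q.a * n⁻¹) * (n * xx 6 q.b * n⁻¹) * (n * xx 8 q.c * n⁻¹) * (n * xx 9 q.d * n⁻¹) *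
      (n * xx 10 q.f * n⁻¹) * (n * xx 11 q.g * n⁻¹) by group, hn,
    conj_nW (r := 7) (r' := 4) (by decide +kernel) (by decide +kernel) (by decide +kernel),
    conj_nW (r := 6) (r' := 5) (by decide +kernel) (by decide +kernel) (by decide +kernel),
    conj_nW (r := 8) (r' := 3) (by decide +kernel) (by decide +kernel) (by decide +kernel),
    conj_nW (r := 9) (r' := 2) (by decide +kernel) (by decide +kernel) (by decide +kernel),
    conj_nW (r := 10) (r' := 1) (by decide +kernel) (by decide +kernel) (by decide +kernel),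
    conj_nW (r := 11) (r' := 0) (by decide +kernel) (by decide +kernel) (by decide +kernel)]

lemma word_U (hσ : ∀ x, σ x = x ^ e) (t u v : K) :
    ((reeWordU e t u v).map fun c => xG stdG2.good c.1 c.2).prod = W (quad σ t u v) := by
  simp [reeWordU, g2a, g2b, g2ab, g2aab, g2aaab, g2aaabb, W, quad, xx, hσ, pow_succ, pow_mul',
    mul_assoc]

lemma word_V (hσ : ∀ x, σ x = x ^ e) (t u v : K) :
    ((reeWordV e t u v).map fun c => xG stdG2.good c.1 c.2).prod =
      (tw σ).nJ 0 * W (quad σ t u v) * ((tw σ).nJ 0)⁻¹ := by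
  rw [neg_W]
  simp [reeWordV, ChevalleyDatum.negWord, reeWordU, g2a, g2b, g2ab, g2aab, g2aaab, g2aaabb, quad, xx,
    hσ, pow_succ, pow_mul', mul_assoc, - Array.getD_eq_getD_getElem?,
    show chevG2.negIdx.getD 7 0 = 4 by decide +kernel, show chevG2.negIdx.getD 6 0 = 5 by decide +kernel,
    show chevG2.negIdx.getD 8 0 = 3 by decide +kernel, show chevG2.negIdx.getD 9 0 = 2 by decide +kernel,
    show chevG2.negIdx.getD 10 0 = 1 by decide +kernel,
    show chevG2.negIdx.getD 11 0 = 0 by decide +kernel]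

lemma gen_le (hσ : ∀ x, σ x = x ^ e) {X : Subgroup (GL chevG2.Idx K)}
    (h1 : ∀ t u v, W (quad σ t u v) ∈ X)
    (hn : ∀ y ∈ X, (tw σ).nJ 0 * y * ((tw σ).nJ 0)⁻¹ ∈ X) :
    twistedG2 K e ≤ X := by
  rw [twistedG2, genSubgroup_eq stdG2.good, Subgroup.closure_le]
  rintro y ⟨w, ⟨t, u, v, rfl | rfl⟩, rfl⟩
  · rw [SetLike.mem_coe, word_U hσ]; exact h1 t u v
  · rw [SetLike.mem_coe, word_V hσ]; exact hn _ (h1 t u v)

lemma twisted_le_fix (hσ : ∀ x, σ x = x ^ e) (hi : Inv3 σ) : twistedG2 K e ≤ (tw σ).fix :=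
  gen_le hσ (W_quad_fix hi)
    (fun _ hy => mul_mem (mul_mem ((tw σ).nJ_fix (by decide)) hy) (inv_mem ((tw σ).nJ_fix (by decide))))

lemma mem_U (hσ : ∀ x, σ x = x ^ e) (t u v : K) : W (quad σ t u v) ∈ twistedG2 K e := by
  rw [← word_U hσ]
  exact word_mem_gen stdG2.good ⟨t, u, v, Or.inl rfl⟩

lemma mem_V (hσ : ∀ x, σ x = x ^ e) (t u v : K) :
    (tw σ).nJ 0 * W (quad σ t u v) * ((tw σ).nJ 0)⁻¹ ∈ twistedG2 K e := by
  rw [← word_V hσ]
  exact word_mem_gen stdG2.good ⟨t, u, v, Or.inr rfl⟩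

lemma num_zero {j : ℕ} (hj : j < foldG22.num) : j = 0 := by
  change j < 1 at hj; omega

lemma class0 [Fintype K] (hi : Inv3 σ) :
    Nat.card ↥((tw σ).V (foldG22.w 0)) = Fintype.card K ^ 3 ∧
      ∀ y, y ∈ (tw σ).V (foldG22.w 0) ↔ ∃ t u v, W (quad σ t u v) = y := by
  obtain ⟨-, hiff, hN⟩ := (tw σ).orbit_roots (j := 0) (by decide) (L := [6, 7, 8, 9, 10, 11])
    (by decide +kernel)
  have hm : ∀ r ∈ [6, 7, 8, 9, 10, 11], ∀ t : K,
      xx r t ∈ UP K stdG2.good (toNeg chevG2 (wf auxG2 (foldG22.w 0))) :=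
    fun r hr t => xG_mem_UP stdG2.good ((hiff r).2 hr) t
  obtain ⟨hcard, hmem⟩ := (tw σ).class_fix (j := 0) (by decide) (W := W) W_inj
    (fun q => mul_mem (mul_mem (mul_mem (mul_mem (mul_mem (hm 7 (by simp) _) (hm 6 (by simp) _))
      (hm 8 (by simp) _)) (hm 9 (by simp) _)) (hm 10 (by simp) _)) (hm 11 (by simp) _))
    (by rw [hN, Fintype.card_congr (Co.equiv K)]; simp [Fintype.card_prod]; ring) (Φ := Phi σ) W_maps
  refine ⟨?_, fun y => (hmem y).trans ?_⟩
  · rw [hcard, show Fintype.card K ^ 3 = Fintype.card (K × K × K) by simp; ring,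
      ← Nat.card_eq_fintype_card]
    exact Nat.card_congr
      { toFun := fun q => (q.1.b, q.1.f, q.1.g)
        invFun := fun p => ⟨quad σ p.1 p.2.1 p.2.2, phi_quad hi _ _ _⟩
        left_inv := fun q => Subtype.ext (quad_of_fixed q.2).symm
        right_inv := fun p => rfl }
  · constructor
    · rintro ⟨q, hq, rfl⟩
      exact ⟨_, _, _, congrArg W (quad_of_fixed hq).symm⟩
    · rintro ⟨t, u, v, rfl⟩
      exact ⟨_, phi_quad hi t u v, rfl⟩

lemma class_card [Fintype K] (hi : Inv3 σ) (j : ℕ) (hj : j < foldG22.num) :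
    Nat.card ↥((tw σ).V (foldG22.w j)) = Fintype.card K ^ ([3].getD j 0) := by
  obtain rfl := num_zero hj
  rw [(class0 hi).1]; simp

lemma class_le [Fintype K] (hσ : ∀ x, σ x = x ^ e) (hi : Inv3 σ) (j : ℕ) (hj : j < foldG22.num) :
    (tw σ).V (foldG22.w j) ≤ twistedG2 K e := by
  intro y hy
  obtain rfl := num_zero hj
  obtain ⟨t, u, v, rfl⟩ := ((class0 hi).2 y).1 hy
  exact mem_U hσ t u v

/-- the identity expressing the orbit element through words -/
lemma nJ_eq : (tw σ).nJ 0 = W (quad σ (0 : K) 0 1) *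
    ((tw σ).nJ 0 * W (quad σ (-1 : K) (-1) (-1)) * ((tw σ).nJ 0)⁻¹) * W (quad σ (-1 : K) 0 1) := by
  have hchk : wordEqCheck chevG2 auxG2 3
      [(7, 1), (4, -1), (7, 1), (6, 1), (5, -1), (6, 1), (7, 1), (4, -1), (7, 1), (6, 1), (5, -1),
        (6, 1), (7, 1), (4, -1), (7, 1), (6, 1), (5, -1), (6, 1)]
      [(9, 1), (11, 1), (4, 1), (5, 1), (2, -1), (1, 1), (0, 1), (7, -1), (6, -1), (8, 1), (11, 1)] =
        true := by
    decide +kernel
  have hid := word_eq_of_check (F := K) stdG2.good hchk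
  rw [neg_W]
  show nW K stdG2.good [0, 1, 0, 1, 0, 1] = _
  simp only [nW, List.map_cons, List.map_nil, List.prod_cons, List.prod_nil, mul_one, nS, nG]
  rw [show chevG2.simple 0 = 7 by decide +kernel, show chevG2.simple 1 = 6 by decide +kernel,
    show chevG2.neg 7 = 4 by decide +kernel, show chevG2.neg 6 = 5 by decide +kernel]
  simpa [W, quad, xx, mul_assoc, xG_zero, ← two_mul, ← sub_eq_add_neg, neg_two, one_add_one_eq_two]
    using hid

lemma nJ_mem (hσ : ∀ x, σ x = x ^ e) (j : ℕ) (hj : j < foldG22.num) :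
    (tw σ).nJ j ∈ twistedG2 K e := by
  obtain rfl := num_zero hj
  rw [nJ_eq]
  exact mul_mem (mul_mem (mem_U hσ _ _ _) (mem_V hσ _ _ _)) (mem_U hσ _ _ _)

/-- index -/
def ix (i : Fin 2) : Fin chevG2.rank := i

omit [CharP K 3] in
lemma ext_ix {a b : Fin chevG2.rank → Kˣ} (h : ∀ k : Fin 2, a (ix k) = b (ix k)) : a = b :=
  funext h

/-- a parameter vector -/
def v2 (a b : Kˣ) : Fin chevG2.rank → Kˣ := (![a, b] : Fin 2 → Kˣ)

lemma theta_ix (c : Fin chevG2.rank → Kˣ) :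
    ((tw σ).theta c (ix 0) : K) = σ (c (ix 1)) ∧
      ((tw σ).theta c (ix 1) : K) = σ (c (ix 0)) ^ 3 := by
  have hθ : ∀ i k : Fin 2, foldG22.p i.val = k.val → ∀ l, isoG2.l (chevG2.simple i.val) = l →
      (((tw σ).theta c (ix k) : Kˣ) : K) = σ (c (ix i)) ^ l := fun i k e l el => by
    rw [(tw σ).theta_apply c (i := ix i) (k := ix k) e,
      psi_eq (show (ix i).val < chevG2.rank from (ix i).isLt)]
    subst el
    rfl
  refine ⟨?_, hθ 0 1 rfl 3 (by decide +kernel)⟩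
  simpa using hθ 1 0 rfl 1 (by decide +kernel)

lemma thetaFix_iff (hi : Inv3 σ) (c : Fin chevG2.rank → Kˣ) :
    c ∈ (tw σ).thetaFix ↔ σ (c (ix 1)) = c (ix 0) := by
  obtain ⟨t0, t1⟩ := theta_ix (σ := σ) c
  rw [Twist.mem_thetaFix]
  constructor
  · intro hc
    rw [hc] at t0
    exact t0.symm
  · intro h0
    refine ext_ix fun k => Units.ext ?_
    fin_cases k
    exacts [t0.trans h0, t1.trans (h0 ▸ hi _)]

lemma tor_inj : Function.Injective (tor chevG2 auxG2 : (Fin chevG2.rank → Kˣ) →* GL chevG2.Idx K) := by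
  refine tor_inj_of_inv stdG2.good (N := (!![2, 3; 1, 2] : Matrix (Fin 2) (Fin 2) ℤ)) ?_
  decide +kernel

lemma diag_eq : chevG2.diagonalSubgroup K ⊓ (tw σ).fix = (tw σ).thetaFix.map (tor chevG2 auxG2) :=
  (tw σ).diag_fix_inj tor_inj

/-- the torus parameter -/
noncomputable def hR (σ : K →+* K) : Kˣ →* GL chevG2.Idx K :=
  (tor chevG2 auxG2).comp
    { toFun := fun y => v2 (Units.map σ.toMonoidHom y) y
      map_one' := ext_ix fun k => by fin_cases k <;> simp [v2, ix]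
      map_mul' := fun a b => ext_ix fun k => by
        have key : ∀ k : Fin 2, (![Units.map σ.toMonoidHom (a * b), a * b] : Fin 2 → Kˣ) k =
            (![Units.map σ.toMonoidHom a, a] : Fin 2 → Kˣ) k *
              (![Units.map σ.toMonoidHom b, b] : Fin 2 → Kˣ) k := by
          intro k; fin_cases k <;> simp
        exact key k }

lemma hR_inj : Function.Injective (hR σ : Kˣ → GL chevG2.Idx K) := fun a b e =>
  congrFun (tor_inj e) (ix 1)

lemma hR_range (hi : Inv3 σ) : (hR σ).range = chevG2.diagonalSubgroup K ⊓ (tw σ).fix := by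
  rw [diag_eq]
  ext x
  constructor
  · rintro ⟨y, rfl⟩
    exact ⟨_, (thetaFix_iff hi _).2 rfl, rfl⟩
  · rintro ⟨c, hc, rfl⟩
    refine ⟨c (ix 1), congrArg (tor chevG2 auxG2) (ext_ix fun k => ?_)⟩
    fin_cases k
    exacts [Units.ext ((thetaFix_iff hi c).1 hc), rfl]

lemma hR_fix (hi : Inv3 σ) (y : Kˣ) : hR σ y ∈ (tw σ).fix := by
  have : hR σ y ∈ chevG2.diagonalSubgroup K ⊓ (tw σ).fix := by rw [← hR_range hi]; exact ⟨y, rfl⟩
  exact this.2

lemma card_diag [Fintype K] (hi : Inv3 σ) :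
    Nat.card ↥(chevG2.diagonalSubgroup K ⊓ (tw σ).fix) = Fintype.card K - 1 := by
  rw [← hR_range hi, ← Nat.card_congr (MonoidHom.ofInjective hR_inj).toEquiv, Nat.card_units,
    Nat.card_eq_fintype_card]

lemma chi_v2 (x y : Kˣ) (r : ℕ) :
    (chi chevG2 auxG2 (v2 x y) r : K) = (x : K) ^ auxG2.cart 0 r * (y : K) ^ auxG2.cart 1 r := by
  rw [chi_hG_simple]
  show ∏ i : Fin 2, ((![x, y] : Fin 2 → Kˣ) i : K) ^ auxG2.cart i.val r = _
  simp [Fin.prod_univ_two]

/-- the scalars by which the torus acts -/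
def scale (σ : K →+* K) (y : Kˣ) (q : Co K) : Co K :=
  ⟨(σ y ^ 2 * (y : K)⁻¹) * q.a, ((σ y ^ 3)⁻¹ * (y : K) ^ 2) * q.b, ((σ y)⁻¹ * y) * q.c, σ y * q.d,
    (σ y ^ 3 * (y : K)⁻¹) * q.f, (y : K) * q.g⟩

lemma hR_conj_W (y : Kˣ) (q : Co K) : hR σ y * W q * (hR σ y)⁻¹ = W (scale σ y q) := by
  set c := v2 (Units.map σ.toMonoidHom y) y with hc
  show tor chevG2 auxG2 c * W q * (tor chevG2 auxG2 c)⁻¹ = _
  set h := (tor chevG2 auxG2 c : GL chevG2.Idx K) with hh
  rw [W, show h * (xx 7 q.a * xx 6 q.b * xx 8 q.c * xx 9 q.d * xx 10 q.f * xx 11 q.g) * h⁻¹ =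
    (h * xx 7 q.a * h⁻¹) * (h * xx 6 q.b * h⁻¹) * (h * xx 8 q.c * h⁻¹) * (h * xx 9 q.d * h⁻¹) *
      (h * xx 10 q.f * h⁻¹) * (h * xx 11 q.g * h⁻¹) by group, hh]
  simp only [xx]
  rw [tor_conj_xG stdG2.good c (show 7 < chevG2.nroots by decide +kernel),
    tor_conj_xG stdG2.good c (show 6 < chevG2.nroots by decide +kernel),
    tor_conj_xG stdG2.good c (show 8 < chevG2.nroots by decide +kernel),
    tor_conj_xG stdG2.good c (show 9 < chevG2.nroots by decide +kernel),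
    tor_conj_xG stdG2.good c (show 10 < chevG2.nroots by decide +kernel),
    tor_conj_xG stdG2.good c (show 11 < chevG2.nroots by decide +kernel),
    hc, chi_v2, chi_v2, chi_v2, chi_v2, chi_v2, chi_v2,
    show auxG2.cart 0 7 = 2 by decide +kernel, show auxG2.cart 1 7 = -1 by decide +kernel,
    show auxG2.cart 0 6 = -3 by decide +kernel, show auxG2.cart 1 6 = 2 by decide +kernel,
    show auxG2.cart 0 8 = -1 by decide +kernel, show auxG2.cart 1 8 = 1 by decide +kernel,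
    show auxG2.cart 0 9 = 1 by decide +kernel, show auxG2.cart 1 9 = 0 by decide +kernel,
    show auxG2.cart 0 10 = 3 by decide +kernel, show auxG2.cart 1 10 = -1 by decide +kernel,
    show auxG2.cart 0 11 = 0 by decide +kernel, show auxG2.cart 1 11 = 1 by decide +kernel]
  simp [W, scale, xx, _root_.zpow_neg, zpow_ofNat]

lemma n_tor (x y : Kˣ) :
    (nS K stdG2.good 0 * tor chevG2 auxG2 (v2 x y) * (nS K stdG2.good 0)⁻¹ =
      tor chevG2 auxG2 (v2 (x⁻¹ * y) y)) ∧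
    (nS K stdG2.good 1 * tor chevG2 auxG2 (v2 x y) * (nS K stdG2.good 1)⁻¹ =
      tor chevG2 auxG2 (v2 x (x ^ 3 * y⁻¹))) := by
  have hc : ∀ j : Fin 2, auxG2.cart j.val (chevG2.simple 0) = [2, -1].getD j.val 0 ∧
      auxG2.cart j.val (chevG2.simple 1) = [-3, 2].getD j.val 0 := by decide +kernel
  constructor
  · rw [nS_conj_tor stdG2.good (show 0 < chevG2.rank by decide +kernel)]
    congr 1
    refine ext_ix fun k => ?_
    have hp : (∏ j : Fin 2, (![x, y] : Fin 2 → Kˣ) j ^ (-auxG2.cart j.val (chevG2.simple 0))) =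
        (x ^ 2)⁻¹ * y := by
      simp only [Fin.prod_univ_two, (hc _).1]
      simp [_root_.zpow_neg, zpow_ofNat]
    have key : ∀ k : Fin 2, (![x, y] : Fin 2 → Kˣ) k *
        (Pi.mulSingle (0 : Fin 2) ((x ^ 2)⁻¹ * y) : Fin 2 → Kˣ) k =
          (![x⁻¹ * y, y] : Fin 2 → Kˣ) k := by
      intro k; fin_cases k <;> simp
      all_goals
        apply Additive.ofMul.injective
        simp only [ofMul_mul, ofMul_inv, ofMul_pow]
        abel
    rw [← hp] at key
    exact key k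
  · rw [nS_conj_tor stdG2.good (show 1 < chevG2.rank by decide +kernel)]
    congr 1
    refine ext_ix fun k => ?_
    have hp : (∏ j : Fin 2, (![x, y] : Fin 2 → Kˣ) j ^ (-auxG2.cart j.val (chevG2.simple 1))) =
        x ^ 3 * (y ^ 2)⁻¹ := by
      simp only [Fin.prod_univ_two, (hc _).2]
      simp [_root_.zpow_neg, zpow_ofNat]
    have key : ∀ k : Fin 2, (![x, y] : Fin 2 → Kˣ) k *
        (Pi.mulSingle (1 : Fin 2) (x ^ 3 * (y ^ 2)⁻¹) : Fin 2 → Kˣ) k =
          (![x, x ^ 3 * y⁻¹] : Fin 2 → Kˣ) k := by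
      intro k; fin_cases k <;> simp
      all_goals
        apply Additive.ofMul.injective
        simp only [ofMul_mul, ofMul_inv, ofMul_pow]
        abel
    rw [← hp] at key
    exact key k

lemma nJ_hR (y : Kˣ) : (tw σ).nJ 0 * hR σ y * ((tw σ).nJ 0)⁻¹ = hR σ y⁻¹ := by
  show nW K stdG2.good [0, 1, 0, 1, 0, 1] * tor chevG2 auxG2 (v2 (Units.map σ.toMonoidHom y) y) *
    (nW K stdG2.good [0, 1, 0, 1, 0, 1])⁻¹ = tor chevG2 auxG2 (v2 (Units.map σ.toMonoidHom y⁻¹) y⁻¹)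
  simp only [nW, List.map_cons, List.map_nil, List.prod_cons, List.prod_nil, mul_one]
  set a := nS K stdG2.good 0 with ha
  set b := nS K stdG2.good 1 with hb
  set T := tor chevG2 auxG2 (v2 (Units.map σ.toMonoidHom y) y)
  rw [show a * (b * (a * (b * (a * b)))) * T * (a * (b * (a * (b * (a * b)))))⁻¹ =
    a * (b * (a * (b * (a * (b * T * b⁻¹) * a⁻¹) * b⁻¹) * a⁻¹) * b⁻¹) * a⁻¹ by group, ha, hb,
    (n_tor _ _).2, (n_tor _ _).1, (n_tor _ _).2, (n_tor _ _).1, (n_tor _ _).2, (n_tor _ _).1]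
  congr 1
  congr 1 <;> (try simp only [map_inv]) <;>
  · apply Additive.ofMul.injective
    simp only [ofMul_mul, ofMul_inv, ofMul_pow]
    abel

/-- the involution of the torus through words -/
lemma hR_neg_one : hR σ (-1 : Kˣ) = W (quad σ (0 : K) 0 1) *
    ((tw σ).nJ 0 * W (quad σ (0 : K) 0 1) * ((tw σ).nJ 0)⁻¹) * W (quad σ (1 : K) 1 1) *
    ((tw σ).nJ 0 * W (quad σ (-1 : K) 1 (-1)) * ((tw σ).nJ 0)⁻¹) := by
  have hchk : wordEqCheck chevG2 auxG2 3
      [(7, -1), (4, 1), (7, -1), (7, -1), (4, 1), (7, -1), (6, -1), (5, 1), (6, -1), (6, -1), (5, 1),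
        (6, -1)]
      [(9, 1), (11, 1), (2, -1), (0, -1), (7, 1), (6, 1), (8, -1), (9, -1), (10, 1), (11, 1),
        (4, 1), (5, 1), (3, 1), (2, -1), (1, -1), (0, 1)] = true := by
    decide +kernel
  have hid := word_eq_of_check (F := K) stdG2.good hchk
  rw [neg_W, neg_W]
  have e : hR σ (-1 : Kˣ) = hG stdG2.good 7 (-1 : K) * hG stdG2.good 6 (-1 : K) := by
    have h0 := hG_simple (F := K) stdG2.good (ix 0) (-1 : Kˣ)
    have h1 := hG_simple (F := K) stdG2.good (ix 1) (-1 : Kˣ)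
    rw [show chevG2.simple (ix 0).val = 7 by decide +kernel] at h0
    rw [show chevG2.simple (ix 1).val = 6 by decide +kernel] at h1
    simp only [Units.val_neg, Units.val_one] at h0 h1
    rw [h0, h1, ← map_mul]
    show tor chevG2 auxG2 _ = _
    congr 1
    refine ext_ix fun k => Units.ext ?_
    have key : ∀ k : Fin 2, (((![Units.map σ.toMonoidHom (-1), -1] : Fin 2 → Kˣ) k : Kˣ) : K) =
        (((Pi.mulSingle (0 : Fin 2) (-1) : Fin 2 → Kˣ) k *
          (Pi.mulSingle (1 : Fin 2) (-1) : Fin 2 → Kˣ) k : Kˣ) : K) := by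
      intro k; fin_cases k <;> simp
    exact key k
  rw [e]
  simp only [hG, nG]
  rw [show chevG2.neg 7 = 4 by decide +kernel, show chevG2.neg 6 = 5 by decide +kernel]
  have two : (2 : K) = -1 := by linear_combination three (K := K)
  simpa [W, quad, xx, mul_assoc, xG_zero, ← two_mul, ← sub_eq_add_neg, neg_two, one_add_one_eq_two,
    two] using hid

lemma sq_or_neg_sq [Fintype K] (h4 : Fintype.card K % 4 = 3) (g : Kˣ) :
    ∃ f : Kˣ, g = f * f ∨ g = -1 * (f * f) := by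
  classical
  obtain ⟨k, hk⟩ : ∃ k, Fintype.card K - 1 = 2 * (2 * k + 1) :=
    ⟨Fintype.card K / 4, by omega⟩
  have hord : g ^ (2 * (2 * k + 1)) = 1 := by rw [← hk, ← Fintype.card_units, pow_card_eq_one]
  set ε := g ^ (2 * k + 1) with hε
  have hε2 : (ε : K) ^ 2 = 1 := by
    rw [← Units.val_pow_eq_pow_val, hε, ← pow_mul, mul_comm, hord, Units.val_one]
  have hgε : (ε * g) ^ (2 * k + 1) = 1 := by
    rw [mul_pow, ← hε, pow_succ, pow_mul]
    have : ε ^ 2 = 1 := Units.ext (by rw [Units.val_pow_eq_pow_val, hε2, Units.val_one])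
    rw [this, one_pow, one_mul, ← sq, this]
  refine ⟨(ε * g) ^ (k + 1), ?_⟩
  have hsq : (ε * g) ^ (k + 1) * (ε * g) ^ (k + 1) = ε * g := by
    rw [← pow_add, show k + 1 + (k + 1) = 2 * k + 1 + 1 by ring, pow_succ, hgε, one_mul]
  rw [hsq]
  rcases sq_eq_one_iff.1 hε2 with h | h
  · exact Or.inl (by rw [show ε = 1 from Units.ext h, one_mul])
  · exact Or.inr (by rw [show ε = -1 from Units.ext (by simpa using h)]; simp)

lemma diag_le [Fintype K] (hσ : ∀ x, σ x = x ^ e) (hi : Inv3 σ) (h4 : Fintype.card K % 4 = 3) :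
    chevG2.diagonalSubgroup K ⊓ (tw σ).fix ≤ twistedG2 K e := by
  rw [← hR_range hi]
  rintro x ⟨g, rfl⟩
  have hW : ∀ f t u v, hR σ f * W (quad σ t u v) * (hR σ f)⁻¹ ∈ twistedG2 K e := fun f t u v => by
    have hx : hR σ f * W (quad σ t u v) * (hR σ f)⁻¹ ∈ (tw σ).fix :=
      mul_mem (mul_mem (hR_fix hi f) (W_quad_fix hi t u v)) (inv_mem (hR_fix hi f))
    rw [hR_conj_W] at hx ⊢
    rw [exists_quad hx]
    exact mem_U hσ _ _ _
  have hV : ∀ f t u v, hR σ f * ((tw σ).nJ 0 * W (quad σ t u v) * ((tw σ).nJ 0)⁻¹) * (hR σ f)⁻¹ ∈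
      twistedG2 K e := fun f t u v => by
    have hfi : hR σ f = (tw σ).nJ 0 * hR σ f⁻¹ * ((tw σ).nJ 0)⁻¹ := by rw [nJ_hR, inv_inv]
    rw [hfi]
    set n := (tw σ).nJ 0
    set a := hR σ f⁻¹
    rw [show n * a * n⁻¹ * (n * W (quad σ t u v) * n⁻¹) * (n * a * n⁻¹)⁻¹ =
      n * (a * W (quad σ t u v) * a⁻¹) * n⁻¹ by group]
    have hx : a * W (quad σ t u v) * a⁻¹ ∈ (tw σ).fix :=
      mul_mem (mul_mem (hR_fix hi _) (W_quad_fix hi t u v)) (inv_mem (hR_fix hi _))
    rw [hR_conj_W] at hx ⊢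
    rw [exists_quad hx]
    exact mem_V hσ _ _ _
  have hsq : ∀ f, hR σ (f * f) ∈ twistedG2 K e := fun f => by
    have h1 : hR σ f * (tw σ).nJ 0 * (hR σ f)⁻¹ ∈ twistedG2 K e := by
      rw [nJ_eq]
      set a := hR σ f
      set n := (tw σ).nJ 0
      rw [show a * (W (quad σ 0 0 1) * (n * W (quad σ (-1 : K) (-1) (-1)) * n⁻¹) *
          W (quad σ (-1 : K) 0 1)) * a⁻¹ =
        (a * W (quad σ (0 : K) 0 1) * a⁻¹) * (a * (n * W (quad σ (-1 : K) (-1) (-1)) * n⁻¹) * a⁻¹) *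
          (a * W (quad σ (-1 : K) 0 1) * a⁻¹) by group]
      exact mul_mem (mul_mem (hW _ _ _ _) (hV _ _ _ _)) (hW _ _ _ _)
    have h2 := mul_mem h1 (inv_mem (nJ_mem hσ 0 (by decide)))
    have e2 : hR σ f * (tw σ).nJ 0 * (hR σ f)⁻¹ * ((tw σ).nJ 0)⁻¹ = hR σ (f * f) := by
      rw [← map_inv, mul_assoc (hR σ f), mul_assoc (hR σ f), nJ_hR, inv_inv, map_mul]
    rwa [e2] at h2
  have hneg : hR σ (-1 : Kˣ) ∈ twistedG2 K e := by
    rw [hR_neg_one]
    exact mul_mem (mul_mem (mul_mem (mem_U hσ _ _ _) (mem_V hσ _ _ _)) (mem_U hσ _ _ _))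
      (mem_V hσ _ _ _)
  obtain ⟨f, rfl | rfl⟩ := sq_or_neg_sq h4 g
  · exact hsq f
  · rw [map_mul]; exact mul_mem hneg (hsq f)

/-- the twisted group is the fixed group -/
theorem twisted_eq_fix [Fintype K] (hσ : ∀ x, σ x = x ^ e) (hi : Inv3 σ)
    (h4 : Fintype.card K % 4 = 3) : twistedG2 K e = (tw σ).fix :=
  le_antisymm (twisted_le_fix hσ hi)
    ((tw σ).fix_le ftabG22_ok top (nJ_mem hσ) (class_le hσ hi) (diag_le hσ hi h4))

theorem split [Fintype K] (hi : Inv3 σ) : (tw σ).Split ftabG22 where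
  tab := ftabG22_ok
  extra := extra
  ne j hj := by
    refine (tw σ).ne_bot_of_card ?_
    rw [class_card hi j hj]
    refine le_trans Fintype.one_lt_card (Nat.le_self_pow ?_ _)
    obtain rfl := num_zero hj
    simp

theorem orders [Fintype K] (hi : Inv3 σ) {q : ℕ} (hq : Fintype.card K = q) :
    Nat.card ↥(chevG2.posUnipotent K ⊓ (tw σ).fix) = q ^ 3 ∧
    Nat.card ↥(tw σ).fix = q ^ 3 * (q - 1) * (q ^ 3 + 1) := by
  subst hq
  obtain ⟨e₀, he₀, hcnt⟩ := top
  have hsz : ∀ j < foldG22.num, nInv chevG2 auxG2 (foldG22.w j) = 2 * [3].getD j 0 := by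
    intro j hj
    obtain rfl := num_zero hj
    exact ((tw σ).orbit_roots (j := 0) hj (L := [6, 7, 8, 9, 10, 11]) (by decide +kernel)).2.2
  obtain ⟨hU, hX⟩ := (tw σ).card_formula ftabG22_ok (d := 2) two_pos hsz
    (class_card hi) he₀ hcnt
  have h6 : chevG2.posRoots.length = 6 := by
    rw [length_posRoots stdG2.good]; rfl
  rw [hcnt, h6, show (6 : ℕ) / 2 = 3 by rfl] at hU hX
  refine ⟨hU, ?_⟩
  have hp := congrArg (pEval (Fintype.card K)) poly
  simp only [pEval_prod, List.map_cons, List.map_nil, List.prod_cons, List.prod_nil,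
    mul_one, pEval_add, pEval_mono, pow_zero] at hp
  rw [hX, card_diag hi, hp]
  ring

lemma pos_eq [Fintype K] (hi : Inv3 σ) (y : GL chevG2.Idx K) :
    y ∈ chevG2.posUnipotent K ⊓ (tw σ).fix ↔ ∃ t u v, W (quad σ t u v) = y := by
  have hpos : ∀ r ∈ [6, 7, 8, 9, 10, 11], ∀ t : K, xx r t ∈ chevG2.posUnipotent K := by
    intro r hr t
    refine xG_mem_posUnipotent stdG2.good ?_ t
    revert r
    decide +kernel
  constructor
  · intro hy
    obtain ⟨e₀, he₀, hcnt⟩ := top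
    have hV : chevG2.posUnipotent K ⊓ (tw σ).fix = (tw σ).V (foldG22.w 0) := by
      refine le_antisymm ?_ fun z hz => ?_
      · rw [(tw σ).pos_eq_V ftabG22_ok he₀ hcnt]
        have hw : e₀.word = [0] := by
          have key : ∀ e ∈ ftabG22, e.cnt = 6 → e.word = [0] := by decide +kernel
          exact key e₀ he₀ (by rw [hcnt, length_posRoots stdG2.good]; rfl)
        rw [hw, show foldG22.flat [0] = foldG22.w 0 by simp [Fold.flat]]
      · obtain ⟨t, u, v, rfl⟩ := ((class0 hi).2 z).1 hz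
        exact ⟨mul_mem (mul_mem (mul_mem (mul_mem (mul_mem (hpos 7 (by simp) _) (hpos 6 (by simp) _))
          (hpos 8 (by simp) _)) (hpos 9 (by simp) _)) (hpos 10 (by simp) _)) (hpos 11 (by simp) _),
          W_quad_fix hi t u v⟩
    exact ((class0 hi).2 y).1 (hV ▸ hy)
  · rintro ⟨t, u, v, rfl⟩
    exact ⟨mul_mem (mul_mem (mul_mem (mul_mem (mul_mem (hpos 7 (by simp) _) (hpos 6 (by simp) _))
      (hpos 8 (by simp) _)) (hpos 9 (by simp) _)) (hpos 10 (by simp) _)) (hpos 11 (by simp) _),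
      W_quad_fix hi t u v⟩

theorem marked (hi : Inv3 σ) : (tw σ).Marked := by
  intro i hlt
  change i < 2 at hlt
  have e1 : pw stdG2.good [6, 7, 8, 9, 10, 11] (coord (quad σ (1 : K) 0 0)) ∈ (tw σ).fix := by
    rw [← W_eq_pw]; exact W_quad_fix hi _ _ _
  interval_cases i
  · refine (tw σ).mark_of (L := [6, 7, 8, 9, 10, 11]) (by decide +kernel) e1 (by decide +kernel) ?_
    rw [show chevG2.simple 0 = 7 by decide +kernel]
    simp [coord, quad]
  · refine (tw σ).mark_of (L := [6, 7, 8, 9, 10, 11]) (by decide +kernel) e1 (by decide +kernel) ?_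
    rw [show chevG2.simple 1 = 6 by decide +kernel]
    simp [coord, quad]

lemma scale_ne (hi : Inv3 σ) {y : K} (hy : y ≠ 0) (h : σ y ^ 3 = y ^ 2) : y = 1 := by
  have h1 : σ y = y ^ 3 * 0 + σ y := by ring
  have h2 := congrArg σ h
  rw [map_pow, map_pow] at h2
  rw [hi] at h2
  have h3 : y ^ 3 = y ^ 4 := by
    calc y ^ 3 = (σ y ^ 2) ^ 3 := by rw [← h2]
      _ = (σ y ^ 3) ^ 2 := by ring
      _ = y ^ 4 := by rw [h]; ring
  have : y ^ 3 * 1 = y ^ 3 * y := by rw [mul_one, ← pow_succ]; exact h3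
  exact (mul_left_cancel₀ (pow_ne_zero 3 hy) this).symm

lemma scale_ne' (hi : Inv3 σ) {y : K} (h : σ y ^ 3 = y) : y ^ 3 = y := by
  have h2 := congrArg σ h
  rw [map_pow, hi] at h2
  rw [← h2] at h
  exact h

lemma comm_W [Fintype K] (hi : Inv3 σ) {y : Kˣ} (hy : (y : K) ^ 3 ≠ y) (t u v : K) :
    W (quad σ t u v) ∈ ⁅(tw σ).fix, (tw σ).fix⁆ := by
  have hy1 : (y : K) ≠ 1 := fun h => hy (by rw [h]; ring)
  have hfix := hR_fix hi y
  have hσy : σ (y : K) ≠ 0 := (map_ne_zero σ).2 y.ne_zero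
  have hZ : ∀ z : K, W (quad σ 0 0 z) ∈ ⁅(tw σ).fix, (tw σ).fix⁆ := by
    refine comm_family (fun a b => ?_) (fun a => W_quad_fix hi 0 0 a) hfix (k := (y : K)) hy1
      fun a => ?_
    · rw [quad, quad, W_mul]
      simp [quad]
    · rw [hR_conj_W]
      simp [scale, quad]
  have hk10 : σ (y : K) ^ 3 * (y : K)⁻¹ ≠ 1 := fun h =>
    hy (scale_ne' hi (by rw [mul_inv_eq_one₀ y.ne_zero] at h; exact h))
  have hY : ∀ z : K, W (quad σ 0 z 0) ∈ ⁅(tw σ).fix, (tw σ).fix⁆ := by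
    refine comm_family (fun a b => ?_) (fun a => W_quad_fix hi 0 a 0) hfix hk10 fun a => ?_
    · rw [quad, quad, W_mul]
      simp [quad]
    · rw [hR_conj_W]
      have : σ (σ (y : K) ^ 3 * (y : K)⁻¹) = (σ (y : K))⁻¹ * y := by
        rw [map_mul, map_pow, hi, map_inv₀, mul_comm]
      simp only [scale, quad, mul_zero, map_zero, add_zero, zero_mul, zero_add, ne_eq, OfNat.ofNat_ne_zero,
        not_false_eq_true, zero_pow, map_mul σ (σ (y : K) ^ 3 * (y : K)⁻¹), this]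
  set k : K := (σ (y : K) ^ 3)⁻¹ * (y : K) ^ 2 with hk
  have hk1 : k - 1 ≠ 0 := fun h => by
    rw [sub_eq_zero, hk, inv_mul_eq_one₀ (pow_ne_zero 3 hσy)] at h
    exact hy1 (scale_ne hi y.ne_zero h)
  set s := t / (k - 1) with hs
  have hQ : quad σ s (0 : K) 0 = ⟨σ s, s, σ s * s, σ s ^ 2 * s, 0, 0⟩ := by simp [quad]
  obtain ⟨Q', hQ', hb'⟩ : ∃ Q' : Co K, W (quad σ s (0 : K) 0) * W Q' = 1 ∧ Q'.b = -s := by
    refine ⟨⟨-σ s, -s, 0, 0, -(σ s ^ 3 * s),
      -(σ s ^ 3 * s ^ 2) + -s * (σ s ^ 3 * s)⟩, ?_, rfl⟩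
    rw [hQ, W_mul]
    have h3 := three (K := K)
    have hz : W (⟨0, 0, 0, 0, 0, 0⟩ : Co K) = 1 := by simp [W, xx, xG_zero]
    rw [← hz]
    congr 1
    simp only [Co.mk.injEq]
    refine ⟨by ring, by ring, by ring, ?_, by ring, by ring⟩
    linear_combination (σ s ^ 2 * s) * h3
  have hmem : hR σ y * W (quad σ s (0 : K) 0) * (hR σ y)⁻¹ * W Q' ∈ ⁅(tw σ).fix, (tw σ).fix⁆ := by
    rw [eq_inv_of_mul_eq_one_right hQ', ← commutatorElement_def]
    exact Subgroup.commutator_mem_commutator hfix (W_quad_fix hi _ _ _)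
  obtain ⟨a', b', c', d', f', g'⟩ := Q'
  obtain rfl : b' = -s := hb'
  rw [hR_conj_W, scale, W_mul] at hmem
  have hq := exists_quad (Subgroup.commutator_le_self _ hmem)
  rw [hq] at hmem
  have hb : k * (quad σ s (0 : K) 0).b + -s = t := by
    show k * s + -s = t
    rw [hs]
    field_simp
    ring
  simp only [← hk, hb] at hmem
  generalize hu0 : σ (y : K) ^ 3 * (y : K)⁻¹ * (quad σ s (0 : K) 0).f + f' - a' ^ 3 *
    (k * (quad σ s (0 : K) 0).b) = u0 at hmem
  generalize hv0 : (y : K) * (quad σ s (0 : K) 0).g + g' - a' ^ 3 * (k * (quad σ s (0 : K) 0).b) ^ 2 -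
    -s * (σ (y : K) ^ 3 * (y : K)⁻¹ * (quad σ s (0 : K) 0).f - a' ^ 3 *
      (k * (quad σ s (0 : K) 0).b)) = v0 at hmem
  have e : W (quad σ t u v) =
      W (quad σ t u0 v0) * (W (quad σ 0 (u - u0) 0) * W (quad σ 0 0 (v - v0))) := by
    simp only [quad, W_mul]
    simp [add_assoc, ← map_add]
  rw [e]
  exact mul_mem hmem (mul_mem (hY _) (hZ _))

/-- the fixed group is perfect -/
theorem perfect [Fintype K] (hσ : ∀ x, σ x = x ^ e) (hi : Inv3 σ) (h4 : Fintype.card K % 4 = 3)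
    {y : Kˣ} (hy : (y : K) ^ 3 ≠ y) : commutator ↥(tw σ).fix = ⊤ := by
  refine Twist.perfect_of_le (le_trans (twisted_eq_fix hσ hi h4).ge ?_)
  have hconj : ∀ z ∈ (tw σ).fix, ∀ w ∈ ⁅(tw σ).fix, (tw σ).fix⁆,
      z * w * z⁻¹ ∈ ⁅(tw σ).fix, (tw σ).fix⁆ := fun z hz w hw => by
    have : ⁅z, w⁆ * w ∈ ⁅(tw σ).fix, (tw σ).fix⁆ :=
      mul_mem (Subgroup.commutator_mem_commutator hz (Subgroup.commutator_le_self _ hw)) hw
    simpa [commutatorElement_def] using this
  exact gen_le hσ (comm_W hi hy) (fun w hw => hconj _ ((tw σ).nJ_fix (by decide)) w hw)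

/-- the field endomorphism -/
theorem exists_sigma {K : Type*} [Field K] [Fintype K] {m : ℕ}
    (hK : Fintype.card K = 3 ^ (2 * m + 1)) :
    CharP K 3 ∧ Fintype.card K % 4 = 3 ∧
      ∃ σ : K →+* K, (∀ x, σ x = x ^ (3 ^ m)) ∧ Inv3 σ := by
  have hp : Fact (Nat.Prime 3) := ⟨Nat.prime_three⟩
  have hc : CharP K 3 := charP_of_card_eq_prime_pow hK
  refine ⟨hc, ?_, iterateFrobenius K 3 m, fun x => iterateFrobenius_def 3 m x, fun x => ?_⟩
  · rw [hK, pow_succ, pow_mul, Nat.mul_mod, Nat.pow_mod]; simp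
  · rw [iterateFrobenius_def, iterateFrobenius_def, ← pow_mul, ← pow_mul, ← mul_assoc, ← pow_add,
      ← pow_succ, show m + m + 1 = 2 * m + 1 by ring, ← hK, FiniteField.pow_card]

/-- an element outside the prime field -/
theorem exists_outside {K : Type*} [Field K] [Fintype K] {m : ℕ} (hm : 1 ≤ m)
    (hK : Fintype.card K = 3 ^ (2 * m + 1)) : ∃ y : Kˣ, (y : K) ^ 3 ≠ y := by
  classical
  by_contra h
  push Not at h
  have hle : Fintype.card Kˣ ≤ 2 := by
    obtain ⟨g, hg⟩ := IsCyclic.exists_generator (α := Kˣ)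
    have h2 : g ^ 2 = 1 := by
      have e : g ^ 2 * g = 1 * g := Units.ext (by
        rw [one_mul, ← pow_succ, Units.val_pow_eq_pow_val, h g])
      exact mul_right_cancel e
    have h3 := Nat.le_of_dvd two_pos (orderOf_dvd_of_pow_eq_one h2)
    rwa [orderOf_eq_card_of_forall_mem_zpowers hg, Nat.card_eq_fintype_card] at h3
  rw [Fintype.card_units, hK] at hle
  have h27 : 3 ^ 3 ≤ 3 ^ (2 * m + 1) := Nat.pow_le_pow_right (by norm_num) (by omega)
  omega

end CfsgLib.Chev.G22
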