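/-
Structure of the groups of type twisted G2.
-/
import Cfsg.Agent.Lib.Chev.Twist.Fam.G2

set_option autoImplicit false
set_option maxRecDepth 100000
set_option linter.unusedSimpArgs false

namespace CfsgLib.Chev.G22

open Cfsg.Lie Matrix CfsgLib.Chev
open scoped Pointwise

variable {K : Type*} [Field K] [CharP K 3] {σ : K →+* K}

lemma nJ_sq : (tw σ).nJ 0 * (tw σ).nJ 0 = 1 := by
  have hchk : wordEqCheck chevG2 auxG2 3
      [(7, 1), (4, -1), (7, 1), (6, 1), (5, -1), (6, 1), (7, 1), (4, -1), (7, 1), (6, 1), (5, -1),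
        (6, 1), (7, 1), (4, -1), (7, 1), (6, 1), (5, -1), (6, 1), (7, 1), (4, -1), (7, 1), (6, 1),
        (5, -1), (6, 1), (7, 1), (4, -1), (7, 1), (6, 1), (5, -1), (6, 1), (7, 1), (4, -1), (7, 1),
        (6, 1), (5, -1), (6, 1)] [] = true := by
    decide +kernel
  have hid := word_eq_of_check (F := K) stdG2.good hchk
  show nW K stdG2.good [0, 1, 0, 1, 0, 1] * nW K stdG2.good [0, 1, 0, 1, 0, 1] = _
  simp only [nW, List.map_cons, List.map_nil, List.prod_cons, List.prod_nil, mul_one, nS, nG]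
  rw [show chevG2.simple 0 = 7 by decide +kernel, show chevG2.simple 1 = 6 by decide +kernel,
    show chevG2.neg 7 = 4 by decide +kernel, show chevG2.neg 6 = 5 by decide +kernel]
  simpa [mul_assoc] using hid

lemma nJ_inv : ((tw σ).nJ 0)⁻¹ = (tw σ).nJ 0 := inv_eq_of_mul_eq_one_right nJ_sq

lemma neg_mem (q : Co K) :
    (tw σ).nJ 0 * W q * ((tw σ).nJ 0)⁻¹ ∈ chevG2.negUnipotent K := by
  rw [neg_W]
  have h : ∀ r ∈ [4, 5, 3, 2, 1, 0], chevG2.IsNegRoot r := by decide +kernel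
  exact mul_mem (mul_mem (mul_mem (mul_mem (mul_mem (xG_mem_negUnipotent stdG2.good (h 4 (by simp)) _)
    (xG_mem_negUnipotent stdG2.good (h 5 (by simp)) _))
    (xG_mem_negUnipotent stdG2.good (h 3 (by simp)) _))
    (xG_mem_negUnipotent stdG2.good (h 2 (by simp)) _))
    (xG_mem_negUnipotent stdG2.good (h 1 (by simp)) _))
    (xG_mem_negUnipotent stdG2.good (h 0 (by simp)) _)

variable [Fintype K]

lemma neg_mem' (hi : Inv3 σ) {u : GL chevG2.Idx K}
    (hu : u ∈ chevG2.posUnipotent K ⊓ (tw σ).fix) :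
    (tw σ).nJ 0 * u * ((tw σ).nJ 0)⁻¹ ∈ chevG2.negUnipotent K := by
  obtain ⟨t, u', v, rfl⟩ := (pos_eq hi u).1 hu
  exact neg_mem _

lemma eq_one_of_opposite (hi : Inv3 σ) {u : GL chevG2.Idx K}
    (hu : u ∈ chevG2.posUnipotent K ⊓ (tw σ).fix)
    (h : (tw σ).nJ 0 * u * ((tw σ).nJ 0)⁻¹ ∈ chevG2.borelSubgroup K) : u = 1 := by
  have : (tw σ).nJ 0 * u * ((tw σ).nJ 0)⁻¹ ∈ chevG2.borelSubgroup K ⊓ chevG2.negUnipotent K :=
    ⟨h, neg_mem' hi hu⟩
  rw [borel_inf_negUnipotent stdG2, Subgroup.mem_bot, mul_inv_eq_one, mul_eq_left] at this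
  exact this

lemma tor_conj_U (hi : Inv3 σ) {t : GL chevG2.Idx K}
    (ht : t ∈ chevG2.diagonalSubgroup K ⊓ (tw σ).fix) {u : GL chevG2.Idx K}
    (hu : u ∈ chevG2.posUnipotent K ⊓ (tw σ).fix) :
    t * u * t⁻¹ ∈ chevG2.posUnipotent K ⊓ (tw σ).fix := by
  rw [← hR_range hi] at ht
  obtain ⟨y, rfl⟩ := ht
  obtain ⟨a, b, c, rfl⟩ := (pos_eq hi u).1 hu
  have hx : hR σ y * W (quad σ a b c) * (hR σ y)⁻¹ ∈ (tw σ).fix :=
    mul_mem (mul_mem (hR_fix hi y) (W_quad_fix hi _ _ _)) (inv_mem (hR_fix hi y))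
  rw [hR_conj_W] at hx ⊢
  exact (pos_eq hi _).2 ⟨_, _, _, (congrArg W (exists_quad hx)).symm⟩

lemma n_tor_swap (hi : Inv3 σ) {t : GL chevG2.Idx K}
    (ht : t ∈ chevG2.diagonalSubgroup K ⊓ (tw σ).fix) :
    (tw σ).nJ 0 * t * ((tw σ).nJ 0)⁻¹ ∈ chevG2.diagonalSubgroup K ⊓ (tw σ).fix := by
  rw [← hR_range hi] at ht ⊢
  obtain ⟨y, rfl⟩ := ht
  rw [nJ_hR]
  exact ⟨_, rfl⟩

/-- the two cells -/
lemma cells (hi : Inv3 σ) {y : GL chevG2.Idx K} (hy : y ∈ (tw σ).fix) :
    (∃ u ∈ chevG2.posUnipotent K ⊓ (tw σ).fix, ∃ t ∈ chevG2.diagonalSubgroup K ⊓ (tw σ).fix,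
        y = u * t) ∨
    ∃ u ∈ chevG2.posUnipotent K ⊓ (tw σ).fix, ∃ t ∈ chevG2.diagonalSubgroup K ⊓ (tw σ).fix,
      ∃ v ∈ chevG2.posUnipotent K ⊓ (tw σ).fix, y = u * (tw σ).nJ 0 * t * v := by
  obtain ⟨u, hu, t, ht, e, he, v, hv, rfl⟩ := (tw σ).fix_decomp ftabG22_ok hy
  have key : ∀ e ∈ ftabG22, e.word = [] ∨ e.word = [0] := by decide +kernel
  rcases key e he with h | h <;> rw [h] at hv ⊢
  · left
    rw [show foldG22.flat [] = [] by simp [Fold.flat]] at hv ⊢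
    rw [(tw σ).V_id (w := []) (fun r _ => rfl), Subgroup.mem_bot] at hv
    exact ⟨u, hu, t, ht, by simp [hv, nW]⟩
  · right
    have e1 : nW K stdG2.good (foldG22.flat [0]) = (tw σ).nJ 0 := by
      simp [Fold.flat, Twist.nJ]
    refine ⟨u, hu, _, n_tor_swap hi ht, v, (tw σ).V_le_pos _ hv, ?_⟩
    rw [e1]
    set n := (tw σ).nJ 0 with hn
    rw [show u * n * (n * t * n⁻¹) * v = u * (n * n) * t * n⁻¹ * v by group, hn, nJ_sq, nJ_inv,
      mul_one]

/-- fixed elements of the Borel subgroup -/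
lemma borel_fix (hi : Inv3 σ) {y : GL chevG2.Idx K} (hy : y ∈ chevG2.borelSubgroup K)
    (hy' : y ∈ (tw σ).fix) :
    ∃ u ∈ chevG2.posUnipotent K ⊓ (tw σ).fix, ∃ t ∈ chevG2.diagonalSubgroup K ⊓ (tw σ).fix,
      y = u * t := by
  rcases cells hi hy' with h | ⟨u, hu, t, ht, v, hv, rfl⟩
  · exact h
  · exfalso
    have hn : (tw σ).nJ 0 ∈ chevG2.borelSubgroup K := by
      have := mul_mem (mul_mem (inv_mem (pos_le_borel hu.1)) hy)
        (inv_mem (mul_mem (diag_le_borel ht.1) (pos_le_borel hv.1)))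
      rwa [show u⁻¹ * (u * (tw σ).nJ 0 * t * v) * (t * v)⁻¹ = (tw σ).nJ 0 by group] at this
    exact BN.not_mem_B (P := (split hi).pair)
      (s := ⟨(tw σ).nJ 0, (tw σ).nJ_fix (by decide)⟩) ⟨0, by decide, rfl⟩
      (Subgroup.mem_subgroupOf.2 ⟨hn, (tw σ).nJ_fix (by decide)⟩)

/-- trivial intersection of conjugates of the unipotent group -/
lemma U_ti (hi : Inv3 σ) {y w z : GL chevG2.Idx K} (hy : y ∈ (tw σ).fix)
    (hw : w ∈ chevG2.posUnipotent K ⊓ (tw σ).fix) (hw1 : w ≠ 1)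
    (hyw : y * w * y⁻¹ ∈ chevG2.posUnipotent K ⊓ (tw σ).fix)
    (hz : z ∈ chevG2.posUnipotent K ⊓ (tw σ).fix) :
    y * z * y⁻¹ ∈ chevG2.posUnipotent K ⊓ (tw σ).fix := by
  rcases cells hi hy with ⟨u, hu, t, ht, rfl⟩ | ⟨u, hu, t, ht, v, hv, rfl⟩
  · rw [show u * t * z * (u * t)⁻¹ = u * (t * z * t⁻¹) * u⁻¹ by group]
    exact mul_mem (mul_mem hu (tor_conj_U hi ht hz)) (inv_mem hu)
  · exfalso
    set x := v * w * v⁻¹
    have hx : x ∈ chevG2.posUnipotent K ⊓ (tw σ).fix := mul_mem (mul_mem hv hw) (inv_mem hv)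
    have hx' := tor_conj_U hi ht hx
    have h1 : (tw σ).nJ 0 * (t * x * t⁻¹) * ((tw σ).nJ 0)⁻¹ ∈ chevG2.borelSubgroup K := by
      have := mul_mem (mul_mem (inv_mem hu) hyw) hu
      rw [show u⁻¹ * (u * (tw σ).nJ 0 * t * v * w * (u * (tw σ).nJ 0 * t * v)⁻¹) * u =
        (tw σ).nJ 0 * (t * (v * w * v⁻¹) * t⁻¹) * ((tw σ).nJ 0)⁻¹ by group] at this
      exact pos_le_borel this.1
    have h2 := eq_one_of_opposite hi hx' h1
    rw [mul_inv_eq_one, mul_eq_left, mul_inv_eq_one, mul_eq_left] at h2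
    exact hw1 h2

omit [Fintype K] in
lemma scale_fixed (hi : Inv3 σ) {y : Kˣ} {t u v : K} (hy : (y : K) ≠ 1)
    (h : scale σ y (quad σ t u v) = quad σ t u v) :
    t = 0 ∧ v = 0 ∧ (u = 0 ∨ (y : K) ^ 3 = y) := by
  simp only [scale, quad, Co.mk.injEq] at h
  obtain ⟨-, h2, -, -, h5, h6⟩ := h
  have hσy : σ (y : K) ≠ 0 := (map_ne_zero σ).2 y.ne_zero
  refine ⟨?_, ?_, ?_⟩
  · by_contra ht
    have h' := (mul_eq_right₀ ht).1 h2
    rw [inv_mul_eq_one₀ (pow_ne_zero 3 hσy)] at h'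
    exact hy (scale_ne hi y.ne_zero h')
  · by_contra hv
    exact hy ((mul_eq_right₀ hv).1 h6)
  · rcases eq_or_ne u 0 with h0 | h0
    · exact Or.inl h0
    · right
      have h' := (mul_eq_right₀ h0).1 h5
      rw [mul_inv_eq_one₀ y.ne_zero] at h'
      exact scale_ne' hi h'

omit [Fintype K] in
lemma W_zero : W (quad σ (0 : K) 0 0) = 1 := by
  simp [W, quad, xx, xG_zero]

omit [Fintype K] in
lemma W_cube (a b c d f g : K) :
    W ⟨a, b, c, d, f, g⟩ ^ 3 = 1 → a ^ 2 * b = 0 := by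
  intro h
  have hz : W (⟨0, 0, 0, 0, 0, 0⟩ : Co K) = 1 := by simp [W, xx, xG_zero]
  rw [pow_succ, pow_succ, pow_one, W_mul, W_mul, ← hz] at h
  have h2 := congrArg Co.d (W_inj h)
  simp only at h2
  linear_combination -h2 + (d + a ^ 2 * b - a * c) * (three (K := K))

omit [Fintype K] in
lemma W_cube_zero (u v : K) : W (quad σ 0 u v) ^ 3 = 1 := by
  rw [← W_zero (σ := σ), pow_succ, pow_succ, pow_one, quad, W_mul, W_mul]
  congr 1
  simp only [quad, Co.mk.injEq]
  have h3 := three (K := K)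
  refine ⟨?_, ?_, ?_, ?_, ?_, ?_⟩ <;> simp <;>
    first
      | linear_combination (0 : K) * h3
      | linear_combination u * h3
      | linear_combination v * h3
      | linear_combination σ u * h3
      | linear_combination σ v * h3

/-- elements of order three of the unipotent group -/
theorem count_three (hi : Inv3 σ) :
    Nat.card {u : ↥(chevG2.posUnipotent K ⊓ (tw σ).fix) // orderOf u = 3} =
      Fintype.card K ^ 2 - 1 := by
  classical
  have hp : Fact (Nat.Prime 3) := ⟨Nat.prime_three⟩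
  have key : ∀ t u v : K, ∀ hm : W (quad σ t u v) ∈ chevG2.posUnipotent K ⊓ (tw σ).fix,
      orderOf (⟨_, hm⟩ : ↥(chevG2.posUnipotent K ⊓ (tw σ).fix)) = 3 ↔ t = 0 ∧ (u, v) ≠ 0 := by
    intro t u v hm
    rw [Subgroup.orderOf_mk]
    constructor
    · intro h
      have h1 : W (quad σ t u v) ^ 3 = 1 := by rw [← h]; exact pow_orderOf_eq_one _
      have ht : t = 0 := by
        by_contra ht
        exact mul_ne_zero (pow_ne_zero 2 ((map_ne_zero σ).2 ht)) ht (W_cube _ _ _ _ _ _ h1)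
      refine ⟨ht, fun e => ?_⟩
      simp only [Prod.mk_eq_zero] at e
      rw [ht, e.1, e.2, W_zero, orderOf_one] at h
      omega
    · rintro ⟨rfl, hne⟩
      refine orderOf_eq_prime (W_cube_zero u v) fun e => hne ?_
      have := W_inj (e.trans (W_zero (σ := σ)).symm)
      simp only [quad, Co.mk.injEq] at this
      simp [this.2.2.2.2.1, this.2.2.2.2.2]
  have hmem : ∀ t u v : K, W (quad σ t u v) ∈ chevG2.posUnipotent K ⊓ (tw σ).fix :=
    fun t u v => (pos_eq hi _).2 ⟨t, u, v, rfl⟩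
  let F : {p : K × K // p ≠ 0} → {u : ↥(chevG2.posUnipotent K ⊓ (tw σ).fix) // orderOf u = 3} :=
    fun p => ⟨⟨_, hmem 0 p.1.1 p.1.2⟩, (key _ _ _ _).2 ⟨rfl, p.2⟩⟩
  have hb : Function.Bijective F := by
    constructor
    · intro p p' e
      have := W_inj (congrArg (fun x => (x.1 : GL chevG2.Idx K)) e)
      simp only [quad, Co.mk.injEq] at this
      exact Subtype.ext (Prod.ext this.2.2.2.2.1 this.2.2.2.2.2)
    · rintro ⟨⟨y, hy⟩, ho⟩
      obtain ⟨t, u, v, rfl⟩ := (pos_eq hi y).1 hy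
      obtain ⟨rfl, hne⟩ := (key t u v hy).1 ho
      exact ⟨⟨(u, v), hne⟩, rfl⟩
  rw [← Nat.card_congr (Equiv.ofBijective F hb), Nat.card_eq_fintype_card, Fintype.card_subtype_compl,
    Fintype.card_subtype_eq, Fintype.card_prod, sq]

/-- torus elements of odd order -/
theorem odd_torus (hi : Inv3 σ) (h4 : Fintype.card K % 4 = 3) :
    2 * Nat.card {h : ↥(chevG2.diagonalSubgroup K ⊓ (tw σ).fix) // Odd (orderOf h)} =
        Fintype.card K - 1 ∧
      ∀ h ∈ chevG2.diagonalSubgroup K ⊓ (tw σ).fix, h ≠ 1 → Odd (orderOf h) →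
        chevG2.posUnipotent K ⊓ (tw σ).fix ⊓ Subgroup.centralizer {h} = ⊥ := by
  classical
  constructor
  · obtain ⟨k, hk⟩ : ∃ k, Fintype.card K - 1 = 2 * (2 * k + 1) := ⟨Fintype.card K / 4, by omega⟩
    have hodd : ∀ y : Kˣ, Odd (orderOf y) ↔ y ∈ (powMonoidHom (2 * k + 1) : Kˣ →* Kˣ).ker := by
      intro y
      have hdvd : orderOf y ∣ 2 * (2 * k + 1) := by
        rw [← hk, ← Fintype.card_units]; exact orderOf_dvd_card
      rw [MonoidHom.mem_ker, powMonoidHom_apply, ← orderOf_dvd_iff_pow_eq_one]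
      constructor
      · intro h
        exact (Nat.coprime_two_right.2 h).dvd_of_dvd_mul_left hdvd
      · intro h
        exact Odd.of_dvd_nat (odd_two_mul_add_one k) h
    let φ : Kˣ ≃* ↥(chevG2.diagonalSubgroup K ⊓ (tw σ).fix) :=
      (MonoidHom.ofInjective hR_inj).trans (MulEquiv.subgroupCongr (hR_range hi))
    have e : {h : ↥(chevG2.diagonalSubgroup K ⊓ (tw σ).fix) // Odd (orderOf h)} ≃
        (powMonoidHom (2 * k + 1) : Kˣ →* Kˣ).ker :=
      φ.symm.toEquiv.subtypeEquiv fun h => by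
        rw [← MulEquiv.orderOf_eq φ.symm h, hodd]; rfl
    rw [Nat.card_congr e, IsCyclic.card_powMonoidHom_ker, Nat.card_units, Nat.card_eq_fintype_card, hk,
      Nat.gcd_mul_left_left]
  · intro h hh h1 hodd
    rw [← hR_range hi] at hh
    obtain ⟨y, rfl⟩ := hh
    rw [eq_bot_iff]
    rintro w ⟨hw, hc⟩
    obtain ⟨t, u, v, rfl⟩ := (pos_eq hi w).1 hw
    have hy1 : (y : K) ≠ 1 := fun e => h1 (by rw [show y = 1 from Units.ext e, map_one])
    have hc' : hR σ y * W (quad σ t u v) * (hR σ y)⁻¹ = W (quad σ t u v) := by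
      rw [mul_inv_eq_iff_eq_mul]
      exact Subgroup.mem_centralizer_iff.1 hc _ rfl
    rw [hR_conj_W] at hc'
    obtain ⟨ht, hv, hu | hu⟩ := scale_fixed hi hy1 (W_inj hc')
    · rw [Subgroup.mem_bot, ht, hu, hv, W_zero]
    · exfalso
      have h2 : y ^ 2 = 1 := by
        have e : y ^ 2 * y = 1 * y := Units.ext (by
          rw [one_mul, ← pow_succ, Units.val_pow_eq_pow_val, hu])
        exact mul_right_cancel e
      have hd : orderOf (hR σ y) ∣ 2 := orderOf_dvd_of_pow_eq_one (by rw [← map_pow, h2, map_one])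
      rcases (Nat.dvd_prime Nat.prime_two).1 hd with e | e
      · exact h1 (orderOf_eq_one_iff.1 e)
      · rw [e] at hodd; exact Nat.not_odd_iff_even.2 even_two hodd

/-- Sylow subgroups for the characteristic meet trivially -/
theorem sylow_ti (hi : Inv3 σ) {m : ℕ} (hK : Fintype.card K = 3 ^ (2 * m + 1))
    (P Q : Sylow 3 ↥(tw σ).fix) (hPQ : P ≠ Q) :
    (P : Subgroup ↥(tw σ).fix) ⊓ (Q : Subgroup ↥(tw σ).fix) = ⊥ := by
  classical
  have : Finite (GL chevG2.Idx K) := finite_GL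
  have hp : Fact (Nat.Prime 3) := ⟨Nat.prime_three⟩
  obtain ⟨hcU, hcG⟩ := orders hi hK
  set H := (chevG2.posUnipotent K ⊓ (tw σ).fix).subgroupOf (tw σ).fix with hH
  have hcard : Nat.card H = 3 ^ ((Nat.card ↥(tw σ).fix).factorization 3) := by
    rw [hH, Nat.card_congr (Subgroup.subgroupOfEquivOfLe inf_le_right).toEquiv, hcU, hcG]
    set q := 3 ^ (2 * m + 1) with hq
    have hq3 : 3 ∣ q := dvd_pow_self 3 (by omega)
    have hnd : ¬ 3 ∣ (q - 1) * (q ^ 3 + 1) := by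
      intro h
      have hq1 : 1 ≤ q := Nat.one_le_pow _ _ (by norm_num)
      rcases Nat.prime_three.dvd_mul.1 h with h | h
      · omega
      · have : 3 ∣ q ^ 3 := dvd_pow hq3 (by norm_num)
        omega
    have hnz : (q - 1) * (q ^ 3 + 1) ≠ 0 := fun e => hnd (e ▸ dvd_zero 3)
    have hqz : q ^ 3 ≠ 0 := pow_ne_zero _ (by positivity)
    rw [mul_assoc, Nat.factorization_mul hqz hnz, Finsupp.add_apply,
      Nat.factorization_eq_zero_of_not_dvd hnd, add_zero, hq, ← pow_mul, Nat.prime_three.factorization_pow,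
      Finsupp.single_eq_same]
  set S := Sylow.ofCard H hcard with hS
  obtain ⟨g, rfl⟩ := MulAction.exists_smul_eq ↥(tw σ).fix S P
  obtain ⟨h, rfl⟩ := MulAction.exists_smul_eq ↥(tw σ).fix S Q
  rw [eq_bot_iff]
  rintro x ⟨hxP, hxQ⟩
  replace hxP : x ∈ MulAut.conj g • (S : Subgroup ↥(tw σ).fix) := hxP
  replace hxQ : x ∈ MulAut.conj h • (S : Subgroup ↥(tw σ).fix) := hxQ
  rw [Subgroup.mem_pointwise_smul_iff_inv_smul_mem, hS, Sylow.coe_ofCard] at hxP hxQ
  rw [Subgroup.mem_bot]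
  by_contra hx
  set y := h⁻¹ * g with hy
  have hP' : (g⁻¹ * x * g : ↥(tw σ).fix) ∈ H := by simpa using hxP
  have hQ' : (h⁻¹ * x * h : ↥(tw σ).fix) ∈ H := by simpa using hxQ
  have hyw : y * (g⁻¹ * x * g) * y⁻¹ = h⁻¹ * x * h := by rw [hy]; group
  have hne : g⁻¹ * x * g ≠ 1 := fun e => hx (by
    rw [show x = g * (g⁻¹ * x * g) * g⁻¹ by group, e]; group)
  have hti : ∀ z ∈ H, y * z * y⁻¹ ∈ H := fun z hz => by
    refine Subgroup.mem_subgroupOf.2 ?_
    refine U_ti hi y.2 (Subgroup.mem_subgroupOf.1 hP') (fun e => hne (Subtype.ext e)) ?_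
      (Subgroup.mem_subgroupOf.1 hz)
    have := Subgroup.mem_subgroupOf.1 hQ'
    rwa [← hyw] at this
  refine hPQ ?_
  have hyS : y • S = S := by
    refine Sylow.ext ?_
    rw [Sylow.smul_def, Sylow.pointwise_smul_def, hS, Sylow.coe_ofCard]
    refine Subgroup.eq_of_le_of_card_ge ?_ ?_
    · intro z hz
      obtain ⟨w, hw, rfl⟩ := (Subgroup.mem_smul_pointwise_iff_exists _ _ _).1 hz
      simpa using hti w hw
    · exact (Nat.card_congr (Subgroup.equivSMul _ H).toEquiv).le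
  calc g • S = h • (y • S) := by rw [← mul_smul, hy, mul_inv_cancel_left]
    _ = h • S := by rw [hyS]

/-- the group generated by the involution of the torus, as a bound -/
lemma cent_le (hi : Inv3 σ) {t u v : K} (hne : (t, u, v) ≠ 0) {y : Kˣ}
    (h : scale σ y (quad σ t u v) = quad σ t u v) : y = 1 ∨ y = -1 := by
  rcases eq_or_ne (y : K) 1 with e | e
  · exact Or.inl (Units.ext e)
  obtain ⟨rfl, rfl, hu | hu⟩ := scale_fixed hi e h
  · exact absurd (by simp [hu]) hne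
  · right
    have h2 : (y : K) ^ 2 = 1 := by
      have : (y : K) ^ 2 * y = 1 * y := by rw [one_mul, ← pow_succ]; exact hu
      exact mul_right_cancel₀ y.ne_zero this
    exact Units.ext (by simpa using (sq_eq_one_iff.1 h2).resolve_left e)

/-- stabilisers of triples of cosets of the Borel subgroup -/
theorem three_point (hi : Inv3 σ) :
    let B := (chevG2.borelSubgroup K ⊓ (tw σ).fix).subgroupOf (tw σ).fix
    (∀ x y z : ↥(tw σ).fix ⧸ B, x ≠ y → x ≠ z → y ≠ z →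
        Nat.card ↥(MulAction.stabilizer ↥(tw σ).fix x ⊓ MulAction.stabilizer ↥(tw σ).fix y ⊓
          MulAction.stabilizer ↥(tw σ).fix z) ≤ 2) ∧
      ∃ x y z : ↥(tw σ).fix ⧸ B, x ≠ y ∧ x ≠ z ∧ y ≠ z ∧
        Nat.card ↥(MulAction.stabilizer ↥(tw σ).fix x ⊓ MulAction.stabilizer ↥(tw σ).fix y ⊓
          MulAction.stabilizer ↥(tw σ).fix z) = 2 := by
  intro B
  classical
  have : Finite (GL chevG2.Idx K) := finite_GL
  let n : ↥(tw σ).fix := ⟨(tw σ).nJ 0, (tw σ).nJ_fix (by decide)⟩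
  have hmemB : ∀ a : ↥(tw σ).fix, a ∈ B ↔ (a : GL chevG2.Idx K) ∈ chevG2.borelSubgroup K :=
    fun a => by
      rw [Subgroup.mem_subgroupOf, Subgroup.mem_inf]
      exact ⟨fun h => h.1, fun h => ⟨h, a.2⟩⟩
  have hstab : ∀ (a s : ↥(tw σ).fix),
      s ∈ MulAction.stabilizer ↥(tw σ).fix (QuotientGroup.mk a : ↥(tw σ).fix ⧸ B) ↔
        a⁻¹ * s * a ∈ B := fun a s => by
    rw [MulAction.mem_stabilizer_iff, MulAction.Quotient.smul_mk, smul_eq_mul, eq_comm,
      QuotientGroup.eq, ← mul_assoc]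
  have hR' : ∀ y : Kˣ, hR σ y ∈ (tw σ).fix := hR_fix hi
  -- every coset other than the base one
  have hcos : ∀ a : ↥(tw σ).fix, (QuotientGroup.mk a : ↥(tw σ).fix ⧸ B) ≠ QuotientGroup.mk 1 →
      ∃ u : ↥(tw σ).fix, (u : GL chevG2.Idx K) ∈ chevG2.posUnipotent K ∧
        (QuotientGroup.mk a : ↥(tw σ).fix ⧸ B) = QuotientGroup.mk (u * n) := by
    intro a ha
    rcases cells hi a.2 with ⟨u, hu, t, ht, e⟩ | ⟨u, hu, t, ht, v, hv, e⟩
    · exfalso
      apply ha
      rw [QuotientGroup.eq, mul_one, inv_mem_iff, hmemB, e]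
      exact mul_mem (pos_le_borel hu.1) (diag_le_borel ht.1)
    · refine ⟨⟨u, hu.2⟩, hu.1, ?_⟩
      rw [QuotientGroup.eq, ← inv_mem_iff, hmemB]
      have : (((a : ↥(tw σ).fix)⁻¹ * (⟨u, hu.2⟩ * n))⁻¹ : ↥(tw σ).fix).1 = t * v := by
        show ((a : GL chevG2.Idx K)⁻¹ * (u * (tw σ).nJ 0))⁻¹ = t * v
        rw [e]; group
      rw [this]
      exact mul_mem (diag_le_borel ht.1) (pos_le_borel hv.1)
  -- the stabiliser of the standard triple
  have hfix3 : ∀ t u v : K, ∀ s : ↥(tw σ).fix, s ∈ B → n⁻¹ * s * n ∈ B →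
      (⟨_, W_quad_fix hi t u v⟩ * n)⁻¹ * s * (⟨_, W_quad_fix hi t u v⟩ * n) ∈ B →
      ∃ y : Kˣ, (s : GL chevG2.Idx K) = hR σ y ∧ scale σ y (quad σ t u v) = quad σ t u v := by
    intro t u v s h1 h2 h3
    rw [hmemB] at h1 h2 h3
    obtain ⟨a, ha, c, hc, e⟩ := borel_fix hi h1 s.2
    change ((tw σ).nJ 0)⁻¹ * (s : GL chevG2.Idx K) * (tw σ).nJ 0 ∈ _ at h2
    rw [e, nJ_inv] at h2
    have hcn := n_tor_swap hi hc
    rw [nJ_inv] at hcn
    have ha1 : a = 1 := by
      refine eq_one_of_opposite hi ha ?_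
      have := mul_mem h2 (inv_mem (diag_le_borel hcn.1))
      rwa [show (tw σ).nJ 0 * (a * c) * (tw σ).nJ 0 * ((tw σ).nJ 0 * c * (tw σ).nJ 0)⁻¹ =
        (tw σ).nJ 0 * a * ((tw σ).nJ 0)⁻¹ by group] at this
    rw [ha1, one_mul] at e
    rw [← hR_range hi] at hc
    obtain ⟨y, rfl⟩ := hc
    refine ⟨y, e, W_inj ?_⟩
    set w := W (quad σ t u v) with hw
    have hwU : w ∈ chevG2.posUnipotent K ⊓ (tw σ).fix := (pos_eq hi _).2 ⟨_, _, _, rfl⟩
    have hy' : hR σ y ∈ chevG2.diagonalSubgroup K ⊓ (tw σ).fix := by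
      rw [← hR_range hi]; exact ⟨y, rfl⟩
    change ((w * (tw σ).nJ 0)⁻¹ * (s : GL chevG2.Idx K) * (w * (tw σ).nJ 0)) ∈ _ at h3
    have hz : w⁻¹ * (hR σ y * w * (hR σ y)⁻¹) ∈ chevG2.posUnipotent K ⊓ (tw σ).fix :=
      mul_mem (inv_mem hwU) (tor_conj_U hi hy' hwU)
    have h4 : w⁻¹ * (hR σ y * w * (hR σ y)⁻¹) = 1 := by
      refine eq_one_of_opposite hi hz ?_
      have hcy : ((tw σ).nJ 0)⁻¹ * hR σ y * (tw σ).nJ 0 ∈ chevG2.borelSubgroup K := by
        have := diag_le_borel (n_tor_swap hi hy').1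
        rwa [nJ_inv] at this ⊢
      have := mul_mem h3 (inv_mem hcy)
      rw [e] at this
      rw [show (w * (tw σ).nJ 0)⁻¹ * hR σ y * (w * (tw σ).nJ 0) *
        (((tw σ).nJ 0)⁻¹ * hR σ y * (tw σ).nJ 0)⁻¹ =
        ((tw σ).nJ 0)⁻¹ * (w⁻¹ * (hR σ y * w * (hR σ y)⁻¹)) * (tw σ).nJ 0 by group] at this
      rw [nJ_inv] at this ⊢
      exact this
    rw [inv_mul_eq_one] at h4
    rw [← hR_conj_W]
    exact h4.symm
  -- moving a triple to standard position
  refine ⟨fun x y z hxy hxz hyz => ?_, ?_⟩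
  · induction x using QuotientGroup.induction_on with | _ a => ?_
    induction y using QuotientGroup.induction_on with | _ b => ?_
    induction z using QuotientGroup.induction_on with | _ c => ?_
    obtain ⟨u, hu, eu⟩ := hcos (a⁻¹ * b) fun e => hxy (by
      rw [QuotientGroup.eq] at e ⊢
      simpa using inv_mem e)
    set g := a * u with hg
    have huB : u ∈ B := (hmemB u).2 (pos_le_borel hu)
    have ex : (QuotientGroup.mk a : ↥(tw σ).fix ⧸ B) = QuotientGroup.mk g := by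
      rw [QuotientGroup.eq, hg, inv_mul_cancel_left]; exact huB
    have ey : (QuotientGroup.mk b : ↥(tw σ).fix ⧸ B) = QuotientGroup.mk (g * n) := by
      rw [QuotientGroup.eq] at eu ⊢
      simpa [hg, mul_assoc] using eu
    obtain ⟨w, hw, ew⟩ := hcos (g⁻¹ * c) fun e => hxz (ex.trans (by
      rw [QuotientGroup.eq] at e ⊢
      simpa using inv_mem e))
    obtain ⟨t, u', v, hwq⟩ := (pos_eq hi (w : GL chevG2.Idx K)).1 ⟨hw, w.2⟩
    have hne : (t, u', v) ≠ 0 := fun e => hyz (by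
      simp only [Prod.mk_eq_zero] at e
      rw [e.1, e.2.1, e.2.2, W_zero] at hwq
      have : w = 1 := Subtype.ext hwq.symm
      rw [this, one_mul] at ew
      rw [ey]
      rw [QuotientGroup.eq] at ew ⊢
      simpa [mul_assoc] using inv_mem ew)
    have ez : (QuotientGroup.mk c : ↥(tw σ).fix ⧸ B) = QuotientGroup.mk (g * (w * n)) := by
      rw [QuotientGroup.eq] at ew ⊢
      simpa [mul_assoc] using ew
    set S := MulAction.stabilizer ↥(tw σ).fix (QuotientGroup.mk a : ↥(tw σ).fix ⧸ B) ⊓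
      MulAction.stabilizer ↥(tw σ).fix (QuotientGroup.mk b : ↥(tw σ).fix ⧸ B) ⊓
      MulAction.stabilizer ↥(tw σ).fix (QuotientGroup.mk c : ↥(tw σ).fix ⧸ B) with hSdef
    have hsub : (S : Set ↥(tw σ).fix) ⊆
        {g * ⟨hR σ 1, hR' 1⟩ * g⁻¹, g * ⟨hR σ (-1), hR' (-1)⟩ * g⁻¹} := by
      intro s hs
      rw [hSdef, SetLike.mem_coe, Subgroup.mem_inf, Subgroup.mem_inf] at hs
      obtain ⟨⟨h1, h2⟩, h3⟩ := hs
      rw [ex, hstab] at h1
      rw [ey, hstab] at h2
      rw [ez, hstab] at h3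
      have hwq' : (⟨_, W_quad_fix hi t u' v⟩ : ↥(tw σ).fix) = w := Subtype.ext hwq
      obtain ⟨y, e1, e2⟩ := hfix3 t u' v (g⁻¹ * s * g) h1
        (by simpa [mul_assoc] using h2) (by rw [hwq']; simpa [mul_assoc] using h3)
      have es : s = g * ⟨hR σ y, hR' y⟩ * g⁻¹ := by
        rw [show (⟨hR σ y, hR' y⟩ : ↥(tw σ).fix) = g⁻¹ * s * g from Subtype.ext e1.symm]; group
      rcases cent_le hi hne e2 with rfl | rfl
      · exact Or.inl es
      · exact Or.inr es
    calc Nat.card ↥S = (S : Set ↥(tw σ).fix).ncard := (Nat.card_coe_set_eq _)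
      _ ≤ _ := Set.ncard_le_ncard hsub
      _ ≤ 2 := (Set.ncard_insert_le _ _).trans (by rw [Set.ncard_singleton])
  · have hwf := W_quad_fix (σ := σ) hi 0 1 0
    set w : ↥(tw σ).fix := ⟨_, hwf⟩ with hwdef
    have hnB : n ∉ B := BN.not_mem_B (P := (split hi).pair) (s := n) ⟨0, by decide, rfl⟩
    have hwU : W (quad σ (0 : K) 1 0) ∈ chevG2.posUnipotent K ⊓ (tw σ).fix :=
      (pos_eq hi _).2 ⟨_, _, _, rfl⟩
    have hwB : w ∈ B := (hmemB w).2 (pos_le_borel hwU.1)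
    refine ⟨QuotientGroup.mk 1, QuotientGroup.mk n, QuotientGroup.mk (w * n), ?_, ?_, ?_, ?_⟩
    · rw [Ne, QuotientGroup.eq, inv_one, one_mul]; exact hnB
    · rw [Ne, QuotientGroup.eq, inv_one, one_mul]
      exact fun h => hnB (by simpa using mul_mem (inv_mem hwB) h)
    · rw [Ne, QuotientGroup.eq, hmemB]
      intro h
      have h1 : W (quad σ (0 : K) 1 0) = 1 := by
        refine eq_one_of_opposite hi hwU ?_
        rw [nJ_inv]
        rwa [Subgroup.coe_mul, Subgroup.coe_inv, Subgroup.coe_mul, nJ_inv, ← mul_assoc] at h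
      have := congrArg Co.f (W_inj (h1.trans (W_zero (σ := σ)).symm))
      exact one_ne_zero this
    · have hsc : scale σ (-1 : Kˣ) (quad σ (0 : K) 1 0) = quad σ (0 : K) 1 0 := by
        simp [scale, quad, inv_neg]
        try ring
      have hset : ((MulAction.stabilizer ↥(tw σ).fix (QuotientGroup.mk 1 : ↥(tw σ).fix ⧸ B) ⊓
          MulAction.stabilizer ↥(tw σ).fix (QuotientGroup.mk n : ↥(tw σ).fix ⧸ B) ⊓
          MulAction.stabilizer ↥(tw σ).fix (QuotientGroup.mk (w * n) : ↥(tw σ).fix ⧸ B) :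
            Subgroup ↥(tw σ).fix) : Set ↥(tw σ).fix) = {1, ⟨hR σ (-1), hR' (-1)⟩} := by
        ext s
        constructor
        · intro hs
          rw [SetLike.mem_coe, Subgroup.mem_inf, Subgroup.mem_inf] at hs
          obtain ⟨⟨h1, h2⟩, h3⟩ := hs
          rw [hstab, inv_one, one_mul, mul_one] at h1
          rw [hstab] at h2 h3
          obtain ⟨y, e1, e2⟩ := hfix3 0 1 0 s h1 h2 h3
          rcases cent_le hi (by simp) e2 with rfl | rfl
          · exact Or.inl (Subtype.ext (by rw [e1, map_one]; rfl))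
          · exact Or.inr (Subtype.ext e1)
        · rintro (rfl | rfl)
          · exact one_mem _
          · have hd : hR σ (-1 : Kˣ) ∈ chevG2.diagonalSubgroup K ⊓ (tw σ).fix := by
              rw [← hR_range hi]; exact ⟨_, rfl⟩
            have hB : hR σ (-1 : Kˣ) ∈ chevG2.borelSubgroup K := diag_le_borel hd.1
            have hn : ((tw σ).nJ 0)⁻¹ * hR σ (-1 : Kˣ) * (tw σ).nJ 0 ∈ chevG2.borelSubgroup K := by
              have := diag_le_borel (n_tor_swap hi hd).1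
              rwa [nJ_inv] at this ⊢
            have hcm : hR σ (-1 : Kˣ) * W (quad σ (0 : K) 1 0) =
                W (quad σ (0 : K) 1 0) * hR σ (-1 : Kˣ) := by
              rw [← mul_inv_eq_iff_eq_mul, hR_conj_W, hsc]
            refine ⟨⟨(hstab _ _).2 ?_, (hstab _ _).2 ?_⟩, (hstab _ _).2 ?_⟩
            · rw [hmemB]; simpa using hB
            · rw [hmemB]; exact hn
            · rw [hmemB]
              show (W (quad σ (0 : K) 1 0) * (tw σ).nJ 0)⁻¹ * hR σ (-1 : Kˣ) *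
                (W (quad σ (0 : K) 1 0) * (tw σ).nJ 0) ∈ _
              rw [mul_assoc, ← mul_assoc (hR σ (-1 : Kˣ)), hcm]
              rw [show (W (quad σ (0 : K) 1 0) * (tw σ).nJ 0)⁻¹ *
                (W (quad σ (0 : K) 1 0) * hR σ (-1 : Kˣ) * (tw σ).nJ 0) =
                ((tw σ).nJ 0)⁻¹ * hR σ (-1 : Kˣ) * (tw σ).nJ 0 by group]
              exact hn
      rw [← SetLike.coe_sort_coe, hset, Nat.card_coe_set_eq, Set.ncard_pair]
      intro e
      have := congrArg (fun s : ↥(tw σ).fix => (s : GL chevG2.Idx K)) e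
      simp only [OneMemClass.coe_one] at this
      rw [← map_one (hR σ)] at this
      have h2 := congrArg Units.val (hR_inj this)
      simp only [Units.val_one, Units.val_neg] at h2
      exact absurd (show (2 : K) = 0 by linear_combination h2) (fun h => by
        have := three (K := K)
        exact one_ne_zero (show (1 : K) = 0 by linear_combination this - h))

omit [Fintype K] in
/-- `A₁` -/
lemma coxeter_A_one : Nonempty ((CoxeterMatrix.A 1).Group ≃* Multiplicative (ZMod 2)) := by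
  set cs := (CoxeterMatrix.A 1).toCoxeterSystem
  let f : Fin 1 → Multiplicative (ZMod 2) := fun _ => Multiplicative.ofAdd 1
  have hf : (CoxeterMatrix.A 1).IsLiftable f := by
    intro i j
    rw [show (f i * f j) = 1 from by decide, one_pow]
  set φ := cs.lift ⟨f, hf⟩
  have hφ : ∀ i, φ (cs.simple i) = f i := fun i => cs.lift_apply_simple hf i
  let ψ : Multiplicative (ZMod 2) → (CoxeterMatrix.A 1).Group := fun x => cs.simple 0 ^ x.toAdd.val
  have key : ∀ x, ψ (f 0 * x) = cs.simple 0 * ψ x := by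
    intro x
    have : x = 1 ∨ x = Multiplicative.ofAdd 1 := by revert x; decide
    rcases this with rfl | rfl
    · rw [mul_one]
      show cs.simple 0 ^ (1 : ZMod 2).val = cs.simple 0 * cs.simple 0 ^ (0 : ZMod 2).val
      rw [ZMod.val_one, ZMod.val_zero, pow_one, pow_zero, mul_one]
    · show cs.simple 0 ^ ((1 + 1 : ZMod 2)).val = cs.simple 0 * cs.simple 0 ^ (1 : ZMod 2).val
      rw [show (1 + 1 : ZMod 2) = 0 by decide, ZMod.val_one, ZMod.val_zero, pow_one, pow_zero,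
        cs.simple_mul_simple_self]
  have hleft : ∀ w, ψ (φ w) = w := by
    intro w
    induction w using cs.simple_induction_left with
    | one =>
      rw [map_one]
      show cs.simple 0 ^ (0 : ZMod 2).val = 1
      rw [ZMod.val_zero, pow_zero]
    | mul_simple_left w i ih =>
      rw [map_mul, hφ, Subsingleton.elim i 0, key, ih]
  refine ⟨MulEquiv.ofBijective φ ⟨fun a b e => by rw [← hleft a, ← hleft b, e], fun x => ?_⟩⟩
  have : x = 1 ∨ x = Multiplicative.ofAdd 1 := by revert x; decide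
  rcases this with rfl | rfl
  · exact ⟨1, map_one φ⟩
  · exact ⟨cs.simple 0, hφ 0⟩

/-- the Weyl group -/
theorem weyl (hi : Inv3 σ) :
    ∃ φ : ↥(chevG2.monomialSubgroup K ⊓ (tw σ).fix) →* Multiplicative (ZMod 2), Function.Surjective φ ∧
      φ.ker = (chevG2.diagonalSubgroup K ⊓ (tw σ).fix).subgroupOf
        (chevG2.monomialSubgroup K ⊓ (tw σ).fix) := by
  obtain ⟨φ, hs, hk⟩ := (split hi).coxeter (CoxeterMatrix.A 1) cox
  obtain ⟨E⟩ := coxeter_A_one
  exact ⟨E.toMonoidHom.comp φ, E.surjective.comp hs, by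
    rw [MulEquiv.toMonoidHom_eq_coe, MonoidHom.ker_mulEquiv_comp, hk]⟩

end CfsgLib.Chev.G22
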