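/-
The centraliser of an involution in the groups of type twisted G2.
-/
import Cfsg.Agent.Lib.Chev.Twist.Fam.G2Facts
import Cfsg.Agent.Lib.Steinberg.RankOne
import Cfsg.Agent.Lib.Classical.Order

set_option autoImplicit false
set_option maxRecDepth 100000
set_option linter.unusedSimpArgs false

namespace CfsgLib.Chev.G22

open Cfsg.Lie Matrix CfsgLib.Chev
open CfsgLib.Steinberg.R1Data (up dn)
open scoped MatrixGroups

variable {K : Type*} [Field K] {σ : K →+* K}

/-- the rank one homomorphism of a root -/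
noncomputable def phiR (r : ℕ) (hr : r < chevG2.nroots) : SL(2, K) →* GL chevG2.Idx K :=
  (CfsgLib.Steinberg.exists_sl2 (F := K) stdG2.good r hr).choose

lemma phiR_spec (r : ℕ) (hr : r < chevG2.nroots) (y : SL(2, K)) (t : K) :
    ((y : Matrix (Fin 2) (Fin 2) K) = !![1, t; 0, 1] → phiR r hr y = xG stdG2.good r t) ∧
    ((y : Matrix (Fin 2) (Fin 2) K) = !![1, 0; t, 1] →
      phiR r hr y = xG stdG2.good (auxG2.neg r) t) :=
  (CfsgLib.Steinberg.exists_sl2 (F := K) stdG2.good r hr).choose_spec y t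

lemma phiR_range (r : ℕ) (hr : r < chevG2.nroots) :
    (phiR (K := K) r hr).range =
      chevG2.rootSubgroup K r ⊔ chevG2.rootSubgroup K (chevG2.neg r) :=
  CfsgLib.Steinberg.sl2_range stdG2.good (phiR_spec r hr) (stdG2.good.neg_eq r hr)

lemma lt8 : 8 < chevG2.nroots := by decide +kernel
lemma lt10 : 10 < chevG2.nroots := by decide +kernel

lemma phi_comm (g h : SL(2, K)) : Commute (phiR 8 lt8 g) (phiR 10 lt10 h) := by
  have hn : chevG2.neg 8 = 3 ∧ chevG2.neg 10 = 1 := by decide +kernel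
  have hc : ∀ r ∈ [8, 3], ∀ s ∈ [10, 1], commPair chevG2 auxG2 r s = true := by decide +kernel
  have h1 : ∀ r ∈ [8, 3], ∀ t : K,
      (phiR (K := K) 10 lt10).range ≤ Subgroup.centralizer {xx r t} := by
    intro r hr t
    rw [phiR_range, hn.2]
    refine sup_le ?_ ?_ <;> intro y hy <;>
      obtain ⟨u, rfl⟩ := (mem_rootSubgroup_iff stdG2.good).1 hy <;>
      refine Subgroup.mem_centralizer_iff.2 fun z hz => ?_ <;>
      rw [Set.mem_singleton_iff.1 hz]
    · exact (commute_xG stdG2 (hc r hr 10 (by simp)) t u).eq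
    · exact (commute_xG stdG2 (hc r hr 1 (by simp)) t u).eq
  have h2 : (phiR (K := K) 8 lt8).range ≤ Subgroup.centralizer ((phiR (K := K) 10 lt10).range : Set _) := by
    rw [phiR_range, hn.1]
    refine sup_le ?_ ?_ <;> intro y hy <;>
      obtain ⟨u, rfl⟩ := (mem_rootSubgroup_iff stdG2.good).1 hy <;>
      refine Subgroup.mem_centralizer_iff.2 fun z hz => ?_
    · exact (Subgroup.mem_centralizer_iff.1 (h1 8 (by simp) u hz) _ rfl).symm
    · exact (Subgroup.mem_centralizer_iff.1 (h1 3 (by simp) u hz) _ rfl).symm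
  exact (Subgroup.mem_centralizer_iff.1 (h2 ⟨g, rfl⟩) _ ⟨h, rfl⟩).symm

/-- the twisted diagonal homomorphism -/
noncomputable def Psi (σ : K →+* K) : SL(2, K) →* GL chevG2.Idx K where
  toFun g := phiR 8 lt8 (SpecialLinearGroup.map σ g) * phiR 10 lt10 g
  map_one' := by rw [map_one, map_one, map_one, mul_one]
  map_mul' g h := by
    rw [map_mul, map_mul, map_mul]
    exact (phi_comm _ g).mul_mul_mul_comm _ _

lemma map_up (t : K) : SpecialLinearGroup.map σ (up t) = up (σ t) := by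
  refine Subtype.ext ?_
  ext i j
  fin_cases i <;> fin_cases j <;> simp

lemma map_dn (t : K) : SpecialLinearGroup.map σ (dn t) = dn (σ t) := by
  refine Subtype.ext ?_
  ext i j
  fin_cases i <;> fin_cases j <;> simp

/-- the Weyl element of `SL₂` -/
abbrev wJ : SL(2, K) := CfsgLib.Steinberg.R1Data.wS

/-- `-1` -/
def m1 : SL(2, K) := wJ * wJ

lemma wS_eq : (wJ : SL(2, K)) = up 1 * dn (-1 : K) * up 1 := by
  refine Subtype.ext ?_
  ext i j
  fin_cases i <;> fin_cases j <;> simp [SpecialLinearGroup.coe_mul, Matrix.mul_apply, Fin.sum_univ_two]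

lemma m1_val : ((m1 : SL(2, K)) : Matrix (Fin 2) (Fin 2) K) = !![-1, 0; 0, -1] := by
  ext i j
  fin_cases i <;> fin_cases j <;>
    simp [m1, SpecialLinearGroup.coe_mul, Matrix.mul_apply, Fin.sum_univ_two]

lemma Psi_up' (t : K) : Psi σ (up t) = xx 8 (σ t) * xx 10 t := by
  show phiR 8 lt8 (SpecialLinearGroup.map σ (up t)) * phiR 10 lt10 (up t) = _
  rw [map_up, (phiR_spec 8 lt8 _ (σ t)).1 rfl, (phiR_spec 10 lt10 _ t).1 rfl]

lemma Psi_dn' (t : K) : Psi σ (dn t) = xx 3 (σ t) * xx 1 t := by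
  show phiR 8 lt8 (SpecialLinearGroup.map σ (dn t)) * phiR 10 lt10 (dn t) = _
  rw [map_dn, (phiR_spec 8 lt8 _ (σ t)).2 rfl, (phiR_spec 10 lt10 _ t).2 rfl,
    show auxG2.neg 8 = 3 by decide +kernel, show auxG2.neg 10 = 1 by decide +kernel]

variable [CharP K 3]

lemma Psi_up (t : K) : Psi σ (up t) = W (quad σ 0 t 0) := by
  rw [Psi_up']; simp [W, quad, xx, xG_zero]

lemma Psi_dn (t : K) :
    Psi σ (dn t) = (tw σ).nJ 0 * W (quad σ 0 (-t) 0) * ((tw σ).nJ 0)⁻¹ := by
  rw [Psi_dn', neg_W]; simp [quad, xx, xG_zero, map_neg]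

lemma Psi_fix (hi : Inv3 σ) (g : SL(2, K)) : Psi σ g ∈ (tw σ).fix := by
  suffices h : (⊤ : Subgroup SL(2, K)) ≤ (tw σ).fix.comap (Psi σ) from h (Subgroup.mem_top g)
  rw [← CfsgLib.Steinberg.R1Data.closure_gens, Subgroup.closure_le]
  have hu : ∀ t, Psi σ (up t) ∈ (tw σ).fix := fun t => by rw [Psi_up]; exact W_quad_fix hi _ _ _
  have hn := (tw σ).nJ_fix (j := 0) (by decide)
  rintro _ (⟨t, rfl⟩ | rfl)
  · exact hu t
  · show Psi σ wJ ∈ (tw σ).fix
    rw [wS_eq, map_mul, map_mul, Psi_dn]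
    exact mul_mem (mul_mem (hu 1) (mul_mem (mul_mem hn (W_quad_fix hi _ _ _)) (inv_mem hn))) (hu 1)

/-- the involution of the torus -/
noncomputable def aR (σ : K →+* K) : GL chevG2.Idx K := hR σ (-1 : Kˣ)

lemma aR_W (u : K) : aR σ * W (quad σ 0 u 0) = W (quad σ 0 u 0) * aR σ := by
  have h3 := three (K := K)
  rw [aR, ← mul_inv_eq_iff_eq_mul, hR_conj_W]
  congr 1
  simp [scale, quad, inv_neg]
  ring

lemma aR_nJ : aR σ * (tw σ).nJ 0 = (tw σ).nJ 0 * aR σ := by
  have h := nJ_hR (σ := σ) (-1 : Kˣ)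
  rw [inv_neg, inv_one, mul_inv_eq_iff_eq_mul] at h
  exact h.symm

lemma aR_comm (g : SL(2, K)) : aR σ * Psi σ g = Psi σ g * aR σ := by
  suffices h : (⊤ : Subgroup SL(2, K)) ≤ (Subgroup.centralizer {aR σ}).comap (Psi σ) from
    Subgroup.mem_centralizer_iff.1 (Subgroup.mem_comap.1 (h (Subgroup.mem_top g))) _ rfl
  rw [← CfsgLib.Steinberg.R1Data.closure_gens, Subgroup.closure_le]
  have hu : ∀ t, W (quad σ 0 t 0) ∈ Subgroup.centralizer {aR σ} := fun t =>
    Subgroup.mem_centralizer_iff.2 fun z hz => by rw [Set.mem_singleton_iff.1 hz]; exact aR_W t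
  have hn : (tw σ).nJ 0 ∈ Subgroup.centralizer {aR σ} :=
    Subgroup.mem_centralizer_iff.2 fun z hz => by rw [Set.mem_singleton_iff.1 hz]; exact aR_nJ
  rintro _ (⟨t, rfl⟩ | rfl)
  · rw [SetLike.mem_coe, Subgroup.mem_comap, Psi_up]; exact hu t
  · show Psi σ wJ ∈ Subgroup.centralizer {aR σ}
    rw [wS_eq, map_mul, map_mul, Psi_dn, Psi_up]
    exact mul_mem (mul_mem (hu 1) (mul_mem (mul_mem hn (hu _)) (inv_mem hn))) (hu 1)

lemma Psi_m1 : Psi σ (m1 : SL(2, K)) = 1 := by
  have hchk : wordEqCheck chevG2 auxG2 3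
      [(8, 1), (10, 1), (3, -1), (1, -1), (8, 1), (10, 1), (8, 1), (10, 1), (3, -1), (1, -1), (8, 1),
        (10, 1)] [] = true := by
    decide +kernel
  have hid := word_eq_of_check (F := K) stdG2.good hchk
  rw [m1, wS_eq, map_mul, map_mul, map_mul, Psi_up', Psi_dn']
  simpa [xx, mul_assoc] using hid

lemma hR_neg_one_hG :
    aR σ = hG stdG2.good 7 (-1 : K) * hG stdG2.good 6 (-1 : K) := by
  have h0 := hG_simple (F := K) stdG2.good (ix 0) (-1 : Kˣ)
  have h1 := hG_simple (F := K) stdG2.good (ix 1) (-1 : Kˣ)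
  rw [show chevG2.simple (ix 0).val = 7 by decide +kernel] at h0
  rw [show chevG2.simple (ix 1).val = 6 by decide +kernel] at h1
  simp only [Units.val_neg, Units.val_one] at h0 h1
  rw [h0, h1, ← map_mul]
  show tor chevG2 auxG2 _ = _
  congr 1
  refine ext_ix fun k => Units.ext ?_
  have key : ∀ k : Fin 2, (((![Units.map σ.toMonoidHom (-1), -1] : Fin 2 → Kˣ) k : Kˣ) : K) =
      (((Pi.mulSingle (0 : Fin 2) (-1) : Fin 2 → Kˣ) k *
        (Pi.mulSingle (1 : Fin 2) (-1) : Fin 2 → Kˣ) k : Kˣ) : K) := by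
    intro k; fin_cases k <;> simp
  exact key k

lemma two_ne : (2 : K) ≠ 0 := fun h =>
  one_ne_zero (show (1 : K) = 0 by linear_combination (three (K := K)) - h)

lemma aR_ne_one : aR σ ≠ 1 := by
  intro h
  rw [aR, ← map_one (hR σ)] at h
  have h2 := congrArg Units.val (hR_inj h)
  simp only [Units.val_one, Units.val_neg] at h2
  exact two_ne (K := K) (by linear_combination -h2)

lemma aR_sq : aR σ * aR σ = 1 := by
  rw [aR, ← map_mul, neg_one_mul, neg_neg, map_one]

variable [Fintype K]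

lemma upper_of_borel (hi : Inv3 σ) {g : SL(2, K)} (hg : Psi σ g ∈ chevG2.borelSubgroup K) :
    g 1 0 = 0 := by
  by_contra hc
  have hd := CfsgLib.Steinberg.R1Data.det_eq g
  have e : g = up ((g 0 0 - 1) / g 1 0) * dn (g 1 0) * up ((g 1 1 - 1) / g 1 0) := by
    refine Subtype.ext ?_
    ext i j
    fin_cases i <;> fin_cases j <;>
      simp [SpecialLinearGroup.coe_mul, Matrix.mul_apply, Fin.sum_univ_two] <;> field_simp <;>
      first | linear_combination hd | linear_combination -hd | ring1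
  have hU : ∀ t, W (quad σ (0 : K) t 0) ∈ chevG2.posUnipotent K ⊓ (tw σ).fix := fun t =>
    (pos_eq hi _).2 ⟨_, _, _, rfl⟩
  have hB : ∀ t, Psi σ (up t) ∈ chevG2.borelSubgroup K := fun t => by
    rw [Psi_up]; exact pos_le_borel (hU t).1
  rw [e, map_mul, map_mul] at hg
  have h1 := mul_mem (mul_mem (inv_mem (hB ((g 0 0 - 1) / g 1 0))) hg)
    (inv_mem (hB ((g 1 1 - 1) / g 1 0)))
  rw [mul_assoc (Psi σ (up _)), inv_mul_cancel_left, mul_inv_cancel_right, Psi_dn] at h1
  have h2 := congrArg Co.f (W_inj ((eq_one_of_opposite hi (hU _) h1).trans (W_zero (σ := σ)).symm))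
  simp only [quad, neg_eq_zero] at h2
  exact hc h2

lemma central_of_borel (hi : Inv3 σ) {g : SL(2, K)}
    (hg : ∀ h, Psi σ (h * g * h⁻¹) ∈ chevG2.borelSubgroup K) : g = 1 ∨ g = m1 := by
  have h0 := upper_of_borel hi (by simpa using hg 1)
  have key : ∀ t : K, t * (g 0 0 - g 1 1) - t ^ 2 * g 0 1 = 0 := by
    intro t
    have h := upper_of_borel hi (hg (dn t))
    simp [SpecialLinearGroup.coe_mul, SpecialLinearGroup.coe_inv, Matrix.mul_apply, Fin.sum_univ_two,
      Matrix.adjugate_fin_two, Matrix.vecMul, dotProduct, h0] at h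
    linear_combination h
  have hb : g 0 1 = 0 := by
    have h1 := key 1
    have h2 := key (-1)
    have : (2 : K) * g 0 1 = 0 := by linear_combination -h1 - h2
    exact (mul_eq_zero.1 this).resolve_left two_ne
  have hd : g 0 0 = g 1 1 := by
    have h1 := key 1
    rw [hb] at h1
    linear_combination h1
  have hdet := CfsgLib.Steinberg.R1Data.det_eq g
  rw [h0, hb, ← hd] at hdet
  have h2 : g 0 0 ^ 2 = 1 := by linear_combination hdet
  rcases sq_eq_one_iff.1 h2 with e | e
  · left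
    refine Subtype.ext ?_
    ext i j
    fin_cases i <;> fin_cases j <;> simp [h0, hb, e, ← hd]
  · right
    refine Subtype.ext ?_
    rw [m1_val]
    ext i j
    fin_cases i <;> fin_cases j <;> simp [h0, hb, e, ← hd]

lemma Psi_ker (hi : Inv3 σ) {g : SL(2, K)} : Psi σ g = 1 ↔ g = 1 ∨ g = m1 := by
  refine ⟨fun h => central_of_borel hi fun k => ?_, ?_⟩
  · rw [map_mul, map_mul, h, mul_one, ← map_mul, mul_inv_cancel, map_one]
    exact one_mem _
  · rintro (rfl | rfl)
    · exact map_one _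
    · exact Psi_m1

lemma aR_not_range (hi : Inv3 σ) (g : SL(2, K)) : Psi σ g ≠ aR σ := by
  intro h
  have hB : aR σ ∈ chevG2.borelSubgroup K := by
    have : aR σ ∈ chevG2.diagonalSubgroup K ⊓ (tw σ).fix := by rw [← hR_range hi]; exact ⟨_, rfl⟩
    exact diag_le_borel this.1
  have hc : g = 1 ∨ g = m1 := central_of_borel hi fun k => by
    rw [map_mul, map_mul, h, ← aR_comm, mul_assoc, ← map_mul, mul_inv_cancel, map_one, mul_one]
    exact hB
  exact aR_ne_one (h.symm.trans ((Psi_ker hi).2 hc))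

omit [CharP K 3] [Fintype K] in
lemma center_cases {g : SL(2, K)} (hg : g ∈ Subgroup.center SL(2, K)) : g = 1 ∨ g = m1 := by
  obtain ⟨r, hr, hr'⟩ := Matrix.SpecialLinearGroup.mem_center_iff.1 hg
  rw [Fintype.card_fin] at hr
  rcases sq_eq_one_iff.1 hr with rfl | rfl
  · left
    refine Subtype.ext (hr'.symm.trans ?_)
    ext i j
    fin_cases i <;> fin_cases j <;> simp [Matrix.scalar_apply]
  · right
    refine Subtype.ext (hr'.symm.trans ?_)
    rw [m1_val]
    ext i j
    fin_cases i <;> fin_cases j <;> simp [Matrix.scalar_apply]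

omit [CharP K 3] [Fintype K] in
lemma m1_center : (m1 : SL(2, K)) ∈ Subgroup.center SL(2, K) := by
  refine Matrix.SpecialLinearGroup.mem_center_iff.2 ⟨-1, by simp, ?_⟩
  rw [m1_val]
  ext i j
  fin_cases i <;> fin_cases j <;> simp [Matrix.scalar_apply]

/-- into the fixed group -/
noncomputable def PsiF (hi : Inv3 σ) : SL(2, K) →* ↥(tw σ).fix := (Psi σ).codRestrict _ (Psi_fix hi)

/-- from the projective group -/
noncomputable def PsiBar (hi : Inv3 σ) :
    Matrix.ProjectiveSpecialLinearGroup (Fin 2) K →* ↥(tw σ).fix :=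
  QuotientGroup.lift _ (PsiF hi) fun g hg => by
    refine MonoidHom.mem_ker.2 (Subtype.ext ?_)
    exact (Psi_ker hi).2 (center_cases hg)

lemma PsiBar_inj (hi : Inv3 σ) : Function.Injective (PsiBar hi) := by
  rw [injective_iff_map_eq_one]
  intro x
  induction x using QuotientGroup.induction_on with | _ g => ?_
  intro h
  rw [QuotientGroup.eq_one_iff]
  rcases (Psi_ker hi).1 (congrArg Subtype.val h) with rfl | rfl
  · exact one_mem _
  · exact m1_center

/-- the involution as an element of the fixed group -/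
noncomputable def aF (hi : Inv3 σ) : ↥(tw σ).fix := ⟨aR σ, hR_fix hi _⟩

omit [Fintype K] in
lemma aF_sq (hi : Inv3 σ) : aF hi * aF hi = 1 := Subtype.ext aR_sq

lemma range_le_cent (hi : Inv3 σ) (x : Matrix.ProjectiveSpecialLinearGroup (Fin 2) K) :
    PsiBar hi x ∈ Subgroup.centralizer {aF hi} := by
  induction x using QuotientGroup.induction_on with | _ g => ?_
  refine Subgroup.mem_centralizer_iff.2 fun z hz => ?_
  rw [Set.mem_singleton_iff.1 hz]
  exact Subtype.ext (aR_comm g)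

lemma fixed_U (hi : Inv3 σ) {u : GL chevG2.Idx K} (hu : u ∈ chevG2.posUnipotent K ⊓ (tw σ).fix)
    (h : aR σ * u * (aR σ)⁻¹ = u) : ∃ t, u = W (quad σ 0 t 0) := by
  obtain ⟨t, v, w, rfl⟩ := (pos_eq hi u).1 hu
  rw [aR, hR_conj_W] at h
  have hne : ((-1 : Kˣ) : K) ≠ 1 := by
    simp only [Units.val_neg, Units.val_one]
    intro h
    exact two_ne (K := K) (by linear_combination -h)
  obtain ⟨rfl, rfl, -⟩ := scale_fixed hi hne (W_inj h)
  exact ⟨v, rfl⟩

lemma tor_comm (hi : Inv3 σ) {t : GL chevG2.Idx K} (ht : t ∈ chevG2.diagonalSubgroup K ⊓ (tw σ).fix) :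
    aR σ * t = t * aR σ := by
  rw [← hR_range hi] at ht
  obtain ⟨y, rfl⟩ := ht
  rw [aR, ← map_mul, ← map_mul, mul_comm]

lemma cent_bound (hi : Inv3 σ) :
    Nat.card ↥(Subgroup.centralizer {aF hi}) ≤
      Fintype.card K * (Fintype.card K - 1) * (Fintype.card K + 1) := by
  classical
  set F : (K × Kˣ) ⊕ (K × Kˣ × K) → GL chevG2.Idx K :=
    Sum.elim (fun p => W (quad σ 0 p.1 0) * hR σ p.2)
      (fun p => W (quad σ 0 p.1 0) * (tw σ).nJ 0 * hR σ p.2.1 * W (quad σ 0 p.2.2 0)) with hF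
  have key : ∀ y : ↥(Subgroup.centralizer {aF hi}), ∃ p, F p = ((y : ↥(tw σ).fix) : GL chevG2.Idx K) := by
    rintro ⟨⟨y, hy⟩, hc⟩
    have hya : aR σ * y = y * aR σ :=
      congrArg Subtype.val (Subgroup.mem_centralizer_iff.1 hc (aF hi) rfl)
    rcases cells hi hy with ⟨u, hu, t, ht, rfl⟩ | ⟨u, hu, t, ht, v, hv, rfl⟩
    · have hu' : aR σ * u * (aR σ)⁻¹ = u := by
        rw [mul_inv_eq_iff_eq_mul]
        have : aR σ * u * t = u * aR σ * t := by
          rw [mul_assoc, hya, mul_assoc u (aR σ), tor_comm hi ht, mul_assoc]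
        exact mul_right_cancel this
      obtain ⟨s, rfl⟩ := fixed_U hi hu hu'
      rw [← hR_range hi] at ht
      obtain ⟨z, rfl⟩ := ht
      exact ⟨Sum.inl (s, z), rfl⟩
    · have ha : aR σ ∈ chevG2.diagonalSubgroup K ⊓ (tw σ).fix := by
        rw [← hR_range hi]; exact ⟨_, rfl⟩
      have hu1 := tor_conj_U hi ha hu
      have hv1 := tor_conj_U hi ha hv
      set a := aR σ with hadef
      set n := (tw σ).nJ 0 with hndef
      have e1 : a * u * a⁻¹ * n * t * (a * v * a⁻¹) = u * n * t * v := by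
        calc a * u * a⁻¹ * n * t * (a * v * a⁻¹) = a * u * (a⁻¹ * n) * (t * a) * (v * a⁻¹) := by group
          _ = a * u * (n * a⁻¹) * (a * t) * (v * a⁻¹) := by
              rw [(show Commute a n from aR_nJ).inv_left.eq, (show Commute a t from tor_comm hi ht).eq]
          _ = a * (u * n * t * v) * a⁻¹ := by group
          _ = u * n * t * v := by rw [hya, mul_inv_cancel_right]
      have hz : (a * u * a⁻¹)⁻¹ * u ∈ chevG2.posUnipotent K ⊓ (tw σ).fix := mul_mem (inv_mem hu1) hu
      have hmem : n * ((a * u * a⁻¹)⁻¹ * u) * n⁻¹ ∈ chevG2.borelSubgroup K := by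
        have e2 : n⁻¹ * ((a * u * a⁻¹)⁻¹ * u) * n = t * (a * v * a⁻¹) * v⁻¹ * t⁻¹ := by
          have := congrArg (fun x => n⁻¹ * (a * u * a⁻¹)⁻¹ * x * v⁻¹ * t⁻¹) e1
          rw [show n⁻¹ * (a * u * a⁻¹)⁻¹ * (a * u * a⁻¹ * n * t * (a * v * a⁻¹)) * v⁻¹ * t⁻¹ =
            t * (a * v * a⁻¹) * v⁻¹ * t⁻¹ by group,
            show n⁻¹ * (a * u * a⁻¹)⁻¹ * (u * n * t * v) * v⁻¹ * t⁻¹ =
              n⁻¹ * ((a * u * a⁻¹)⁻¹ * u) * n by group] at this
          exact this.symm
        rw [hndef, nJ_inv, ← hndef] at e2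
        rw [hndef, nJ_inv, ← hndef, e2]
        exact mul_mem (mul_mem (mul_mem (diag_le_borel ht.1) (pos_le_borel hv1.1))
          (inv_mem (pos_le_borel hv.1))) (inv_mem (diag_le_borel ht.1))
      have hu2 := eq_one_of_opposite hi hz hmem
      rw [inv_mul_eq_one] at hu2
      rw [hu2] at e1
      have hv2 : a * v * a⁻¹ = v := mul_left_cancel e1
      obtain ⟨s, rfl⟩ := fixed_U hi hu hu2
      obtain ⟨r, rfl⟩ := fixed_U hi hv hv2
      rw [← hR_range hi] at ht
      obtain ⟨z, rfl⟩ := ht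
      exact ⟨Sum.inr (s, z, r), rfl⟩
  choose g hg using key
  have ginj : Function.Injective g := fun x y h => by
    refine Subtype.ext (Subtype.ext ?_)
    rw [← hg x, ← hg y, h]
  refine (Nat.card_le_card_of_injective g ginj).trans (le_of_eq ?_)
  rw [Nat.card_sum, Nat.card_prod, Nat.card_prod, Nat.card_prod, Nat.card_units,
    Nat.card_eq_fintype_card]
  ring

lemma zmod2_cases : ∀ k : Multiplicative (ZMod 2), k = 1 ∨ k = Multiplicative.ofAdd 1 := by decide

omit [CharP K 3] [Fintype K] [Field K] in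
/-- the homomorphism given by an involution -/
def invHom {G : Type*} [Group G] (x : G) (h : x * x = 1) : Multiplicative (ZMod 2) →* G where
  toFun k := x ^ k.toAdd.val
  map_one' := by simp
  map_mul' a b := by
    have : ∀ c : Multiplicative (ZMod 2), c = 1 ∨ c = Multiplicative.ofAdd 1 := by decide
    rcases this a with rfl | rfl <;> rcases this b with rfl | rfl <;>
      simp [ZMod.val_one, h, show ((1 : ZMod 2) + 1) = 0 by decide, ← ofAdd_add]

lemma card_PSL (h4 : Fintype.card K % 4 = 3) :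
    2 * Nat.card (Matrix.ProjectiveSpecialLinearGroup (Fin 2) K) =
      Fintype.card K * (Fintype.card K - 1) * (Fintype.card K + 1) := by
  have h := CfsgLib.Classical.card_PSL_two_mul (F := K)
  rw [Nat.card_eq_fintype_card (α := K),
    Nat.gcd_eq_left (show 2 ∣ Fintype.card K - 1 by omega)] at h
  rw [h, show Fintype.card K ^ 2 - 1 = (Fintype.card K + 1) * (Fintype.card K - 1) by
    rw [← Nat.sq_sub_sq, one_pow]]
  ring

theorem cent_iso (hi : Inv3 σ) (h4 : Fintype.card K % 4 = 3) :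
    Nonempty (↥(Subgroup.centralizer {aF hi}) ≃*
      Multiplicative (ZMod 2) × Matrix.ProjectiveSpecialLinearGroup (Fin 2) K) := by
  classical
  have : Finite (GL chevG2.Idx K) := finite_GL
  have ha : aF hi ∈ Subgroup.centralizer {aF hi} :=
    Subgroup.mem_centralizer_iff.2 fun z hz => by rw [Set.mem_singleton_iff.1 hz]
  let aC : ↥(Subgroup.centralizer {aF hi}) := ⟨aF hi, ha⟩
  let φ := (PsiBar hi).codRestrict (Subgroup.centralizer {aF hi}) (range_le_cent hi)
  let A := invHom aC (Subtype.ext (aF_sq hi))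
  have hcomm : ∀ k x, Commute (A k) (φ x) := fun k x => by
    have h1 : Commute aC (φ x) :=
      Subtype.ext (Subgroup.mem_centralizer_iff.1 (range_le_cent hi x) _ rfl)
    exact h1.pow_left _
  let Φ := A.noncommCoprod φ hcomm
  have hinj : Function.Injective Φ := by
    rw [injective_iff_map_eq_one]
    rintro ⟨k, x⟩ h
    have hk := zmod2_cases k
    rcases hk with rfl | rfl
    · rw [MonoidHom.noncommCoprod_apply, map_one, one_mul] at h
      have := PsiBar_inj hi ((congrArg Subtype.val h).trans (map_one (PsiBar hi)).symm)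
      exact Prod.ext rfl this
    · exfalso
      induction x using QuotientGroup.induction_on with | _ g => ?_
      rw [MonoidHom.noncommCoprod_apply] at h
      have h' := congrArg (fun z : ↥(Subgroup.centralizer {aF hi}) =>
        ((z : ↥(tw σ).fix) : GL chevG2.Idx K)) h
      have e : aR σ * Psi σ g = 1 := by
        change aR σ ^ (1 : ZMod 2).val * Psi σ g = 1 at h'
        rwa [ZMod.val_one, pow_one] at h'
      refine aR_not_range hi g ?_
      rw [eq_inv_of_mul_eq_one_right e]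
      exact inv_eq_of_mul_eq_one_right aR_sq
  have hcard : Nat.card (Multiplicative (ZMod 2) × Matrix.ProjectiveSpecialLinearGroup (Fin 2) K) =
      Nat.card ↥(Subgroup.centralizer {aF hi}) := by
    refine le_antisymm (Nat.card_le_card_of_injective Φ hinj) ?_
    rw [Nat.card_prod, show Nat.card (Multiplicative (ZMod 2)) = 2 from by simp, card_PSL h4]
    exact cent_bound hi
  exact ⟨(MulEquiv.ofBijective Φ
    ((Nat.bijective_iff_injective_and_card Φ).2 ⟨hinj, hcard⟩)).symm⟩

/-- an involution of the torus is `aR` -/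
lemma eq_aF (hi : Inv3 σ) {a : ↥(tw σ).fix}
    (haH : (a : GL chevG2.Idx K) ∈ chevG2.diagonalSubgroup K) (ha1 : a ≠ 1) (ha2 : a * a = 1) :
    a = aF hi := by
  have hH : (a : GL chevG2.Idx K) ∈ chevG2.diagonalSubgroup K ⊓ (tw σ).fix := ⟨haH, a.2⟩
  rw [← hR_range hi] at hH
  obtain ⟨y, hy⟩ := hH
  have h2 : y * y = 1 := hR_inj (σ := σ) (by rw [map_mul, map_one, hy]; exact congrArg Subtype.val ha2)
  have h2' : (y : K) ^ 2 = 1 := by rw [sq, ← Units.val_mul, h2, Units.val_one]
  refine Subtype.ext ?_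
  show _ = aR σ
  rw [← hy, aR]
  rcases sq_eq_one_iff.1 h2' with e | e
  · exact absurd (Subtype.ext (by rw [← hy, show y = 1 from Units.ext e, map_one]; rfl)) ha1
  · rw [show y = -1 from Units.ext (by simpa using e)]

end CfsgLib.Chev.G22
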