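/-
The Sylow subgroups of the groups of type twisted G2 for primes above three are cyclic.
-/
import Cfsg.Agent.Lib.Chev.Twist.Fam.G2Cent
import Cfsg.Agent.Lib.Chev.Twist.SpecialData
import Cfsg.Agent.Lib.Chev.Simple
import Cfsg.Agent.Lib.Classical.SL2Sylow
import Mathlib.LinearAlgebra.Matrix.GeneralLinearGroup.Card

set_option autoImplicit false
set_option maxRecDepth 100000
set_option linter.unusedSimpArgs false

namespace CfsgLib.Chev

open scoped MatrixGroups

/-- cyclic Sylow subgroups from a cyclic source -/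
lemma isCyclic_sylow_of_hom {G H : Type*} [Group G] [Finite G] [Group H] [Finite H] [IsCyclic H]
    {p : ℕ} [Fact p.Prime] (f : H →* G) (hk : ¬ p ∣ Nat.card f.ker)
    (hv : p ^ (Nat.card G).factorization p ∣ Nat.card H) (P : Sylow p G) :
    IsCyclic (P : Subgroup G) := by
  refine CfsgLib.Classical.isCyclic_sylow_of_dvd (C := f.range)
    (isCyclic_of_surjective _ f.rangeRestrict_surjective) ?_ P
  have h := Subgroup.card_eq_card_quotient_mul_card_subgroup f.ker
  rw [Nat.card_congr (QuotientGroup.quotientKerEquivRange f).toEquiv] at h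
  rw [h] at hv
  exact (((Fact.out : p.Prime).coprime_iff_not_dvd.2 hk).pow_left _).dvd_of_dvd_mul_right hv

/-- the general linear group of degree seven has a cyclic subgroup of order `q ^ 6 - 1` -/
lemma exists_cyclic_GL_seven (F : Type*) [Field F] [Finite F] :
    ∃ C : Subgroup (GL (Fin 7) F), IsCyclic C ∧ Nat.card C = Nat.card F ^ 6 - 1 := by
  classical
  obtain ⟨p, hp⟩ := CharP.exists F
  have : Fact p.Prime := ⟨CharP.char_is_prime F p⟩
  let L := FiniteField.Extension F p 6
  let b : Module.Basis (Fin 6) F L :=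
    Module.finBasisOfFinrankEq F L (FiniteField.finrank_extension F p 6)
  let A : L →* Matrix (Fin 7) (Fin 7) F :=
    { toFun := fun x => Matrix.reindexAlgEquiv F F finSumFinEquiv
        (Matrix.fromBlocks (Algebra.leftMulMatrix b x) 0 0 (1 : Matrix (Fin 1) (Fin 1) F))
      map_one' := by rw [map_one, Matrix.fromBlocks_one, map_one]
      map_mul' := fun x y => by
        rw [← map_mul (Matrix.reindexAlgEquiv F F finSumFinEquiv), Matrix.fromBlocks_multiply]
        simp }
  have hA : Function.Injective A := by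
    intro x y h
    have h' := (Matrix.reindexAlgEquiv F F finSumFinEquiv).injective h
    exact Algebra.leftMulMatrix_injective b (Matrix.fromBlocks_inj.1 h').1
  refine ⟨(Units.map A).range, isCyclic_of_surjective _ (Units.map A).rangeRestrict_surjective, ?_⟩
  rw [← Nat.card_congr (MonoidHom.ofInjective (Units.map_injective hA)).toEquiv, CfsgLib.Classical.card_units_field,
    FiniteField.natCard_extension]

/-- Sylow subgroups of the general linear group of degree seven, for the primitive case -/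
lemma isCyclic_sylow_GL_seven (F : Type*) [Field F] [Finite F] {p : ℕ} [Fact p.Prime] (h2 : p ≠ 2) (h3 : p ≠ 3)
    (h : (Nat.card F : ZMod p) ^ 2 - Nat.card F + 1 = 0) (Q : Sylow p (GL (Fin 7) F)) :
    IsCyclic (Q : Subgroup (GL (Fin 7) F)) := by
  classical
  have := Fintype.ofFinite F
  obtain ⟨C, hC, hcard⟩ := exists_cyclic_GL_seven F
  refine CfsgLib.Classical.isCyclic_sylow_of_dvd hC ?_ Q
  have hp : p.Prime := Fact.out
  have h3' : (3 : ZMod p) ≠ 0 := fun e => h3 <| by
    have : ((3 : ℕ) : ZMod p) = 0 := by exact_mod_cast e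
    rw [ZMod.natCast_eq_zero_iff] at this
    exact ((Nat.prime_dvd_prime_iff_eq hp Nat.prime_three).1 this)
  set q := Nat.card F with hq
  set x : ZMod p := (q : ZMod p) with hx
  have hx0 : x ≠ 0 := fun e => one_ne_zero (show (1 : ZMod p) = 0 by rw [e] at h; linear_combination h)
  have e1 : x ≠ 1 := fun e => one_ne_zero (show (1 : ZMod p) = 0 by rw [e] at h; linear_combination h)
  have e3 : x ^ 3 = -1 := by linear_combination (x + 1) * h
  have e2 : x ^ 2 ≠ 1 := fun e => h3' (by
    have : x = 2 := by linear_combination -h + e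
    rw [this] at h; linear_combination h)
  have e4 : x ^ 4 ≠ 1 := fun e => h3' (by
    have : x = -1 := by linear_combination -e + x * e3
    rw [this] at h; linear_combination h)
  have e5 : x ^ 5 ≠ 1 := fun e => hx0 (by
    have : x ^ 2 = -1 := by linear_combination -e + x ^ 2 * e3
    linear_combination -h + this)
  have e3' : x ^ 3 ≠ 1 := fun e => h2 <| by
    have e' : ((2 : ℕ) : ZMod p) = 0 := by push_cast; linear_combination e3 - e
    rw [ZMod.natCast_eq_zero_iff] at e'
    exact (Nat.prime_dvd_prime_iff_eq hp Nat.prime_two).1 e'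
  have e7 : x ^ 7 ≠ 1 := fun e => e1 (by linear_combination e - (x ^ 4 - x) * e3)
  have hpow : ∀ k ∈ [1, 2, 3, 4, 5, 7], x ^ k ≠ 1 := by
    simp only [List.forall_mem_cons, List.not_mem_nil, IsEmpty.forall_iff, implies_true, and_true,
      pow_one]
    exact ⟨e1, e2, e3', e4, e5, e7⟩
  have hpq : ¬ p ∣ q := fun e => hx0 ((ZMod.natCast_eq_zero_iff _ _).2 e)
  have hq1 : 1 < q := Finite.one_lt_card
  have hnd : ∀ i : Fin 7, i ≠ 1 → ¬ p ∣ q ^ 7 - q ^ (i : ℕ) := by
    intro i hi hdvd
    have hle : q ^ (i : ℕ) ≤ q ^ 7 := Nat.pow_le_pow_right (by omega) i.2.le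
    have hcast := (ZMod.natCast_eq_zero_iff _ _).2 hdvd
    rw [Nat.cast_sub hle, Nat.cast_pow, Nat.cast_pow, sub_eq_zero, ← hx] at hcast
    refine hpow (7 - i) (by fin_cases i <;> simp at hi ⊢) ?_
    refine mul_left_cancel₀ (pow_ne_zero (i : ℕ) hx0) ?_
    rw [← pow_add, mul_one, show (i : ℕ) + (7 - i) = 7 by omega]
    exact hcast
  have hG : Nat.card (GL (Fin 7) F) = ∏ i : Fin 7, (q ^ 7 - q ^ (i : ℕ)) := by
    rw [Matrix.card_GL_field, hq, Nat.card_eq_fintype_card]
  rw [hcard, hG, ← Finset.mul_prod_erase Finset.univ _ (Finset.mem_univ (1 : Fin 7))]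
  have hr : ¬ p ∣ ∏ i ∈ Finset.univ.erase (1 : Fin 7), (q ^ 7 - q ^ (i : ℕ)) := by
    rw [(Nat.prime_iff.1 hp).dvd_finsetProd_iff]
    rintro ⟨i, hi, h'⟩
    exact hnd i (Finset.ne_of_mem_erase hi) h'
  have h7 : q ^ 7 - q ^ ((1 : Fin 7) : ℕ) = q * (q ^ 6 - 1) := by
    rw [Nat.mul_sub, mul_one, ← pow_succ']; simp
  rw [h7, mul_assoc, mul_left_comm]
  set r := ∏ i ∈ Finset.univ.erase (1 : Fin 7), (q ^ 7 - q ^ (i : ℕ))
  have h6 : q ^ 6 - 1 ≠ 0 := by have := Nat.one_lt_pow (show 6 ≠ 0 by norm_num) hq1; omega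
  have hr0 : r ≠ 0 := fun e => hr (e ▸ dvd_zero p)
  rw [Nat.factorization_mul h6 (mul_ne_zero (by omega) hr0), Finsupp.add_apply,
    Nat.factorization_eq_zero_of_not_dvd (n := q * r) (by rw [hp.dvd_mul]; tauto), add_zero]
  exact Nat.ordProj_dvd _ _

namespace G22

open Cfsg.Lie CfsgLib.Chev

variable {K : Type*} [Field K] [Fintype K] [CharP K 3] {σ : K →+* K}

/-- Sylow subgroups for primes above three -/
theorem sylow_cyclic {m : ℕ} (hK : Fintype.card K = 3 ^ (2 * m + 1)) (hi : Inv3 σ) {p : ℕ}
    [Fact p.Prime] (hp : 3 < p) (P : Sylow p ↥(tw σ).fix) :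
    IsCyclic (P : Subgroup ↥(tw σ).fix) := by
  classical
  have : Finite (GL chevG2.Idx K) := finite_GL
  have hpp : p.Prime := Fact.out
  obtain ⟨-, hG⟩ := orders hi (q := Fintype.card K) rfl
  set q := Fintype.card K with hq
  have hq1 : 1 < q := Fintype.one_lt_card
  have hpq : ¬ p ∣ q := fun e => by
    rw [hK] at e
    have := (Nat.prime_dvd_prime_iff_eq hpp Nat.prime_three).1 (hpp.dvd_of_dvd_pow e)
    omega
  have hp2 : ¬ p ∣ 2 := fun e => by have := Nat.le_of_dvd (by norm_num) e; omega
  obtain ⟨c, hc⟩ : ∃ c, q * q = q + c := ⟨q * q - q, by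
    have := Nat.le_mul_self q; omega⟩
  have hcube : q ^ 3 + 1 = (q + 1) * (c + 1) := by
    have : q * (q * q) = q * q + q * c := by rw [← mul_add, ← hc]
    ring_nf at this hc ⊢
    omega
  have hv : (Nat.card ↥(tw σ).fix).factorization p =
      (q - 1).factorization p + (q ^ 3 + 1).factorization p := by
    rw [hG, Nat.factorization_mul (mul_ne_zero (pow_ne_zero _ (by omega)) (by omega)) (by omega),
      Nat.factorization_mul (pow_ne_zero _ (by omega)) (by omega), Finsupp.add_apply,
      Finsupp.add_apply, Nat.factorization_eq_zero_of_not_dvd (n := q ^ 3)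
        (fun e => hpq (hpp.dvd_of_dvd_pow e)), zero_add]
  by_cases d1 : p ∣ q - 1
  · -- the split torus
    have hn : ¬ p ∣ q ^ 3 + 1 := by
      intro e
      obtain ⟨k, hk⟩ : q - 1 ∣ q ^ 3 - 1 := by simpa using Nat.sub_dvd_pow_sub_pow q 1 3
      have := Nat.dvd_sub e (d1.trans ⟨k, hk⟩)
      have h1 : 1 ≤ q ^ 3 := Nat.one_le_pow _ _ (by omega)
      rw [show q ^ 3 + 1 - (q ^ 3 - 1) = 2 by omega] at this
      exact hp2 this
    let f : Kˣ →* ↥(tw σ).fix := (hR σ).codRestrict _ (hR_fix hi)
    have hf : Function.Injective f := fun a b e => hR_inj (congrArg Subtype.val e)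
    refine isCyclic_sylow_of_hom f ?_ ?_ P
    · rw [(MonoidHom.ker_eq_bot_iff f).2 hf, Subgroup.card_bot]
      exact hpp.not_dvd_one
    · rw [hv, Nat.factorization_eq_zero_of_not_dvd hn, add_zero, CfsgLib.Classical.card_units_field,
        Nat.card_eq_fintype_card, ← hq]
      exact Nat.ordProj_dvd _ _
  by_cases d2 : p ∣ q + 1
  · -- inside the centraliser of an involution
    have hn : ¬ p ∣ c + 1 := by
      intro e
      have h3c : c + 1 + (q + 1) * 2 = (q + 1) * q + 3 := by nlinarith [hc]
      have h1 : p ∣ (q + 1) * q + 3 := h3c ▸ dvd_add e (d2.mul_right 2)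
      have h2 := (Nat.dvd_add_right (d2.mul_right q)).1 h1
      have := Nat.le_of_dvd (by norm_num) h2
      omega
    obtain ⟨C, hC, hcard⟩ := CfsgLib.Classical.exists_cyclic_card_add_one (F := K)
    refine isCyclic_sylow_of_hom ((PsiF hi).comp C.subtype) ?_ ?_ P
    · intro e
      have h1 : Nat.card ((PsiF hi).comp C.subtype).ker ≤ ({1, m1} : Set SL(2, K)).ncard := by
        rw [← Nat.card_coe_set_eq]
        refine Nat.card_le_card_of_injective (fun g => ⟨((g : ↥C) : SL(2, K)), ?_⟩) ?_
        · exact (Psi_ker hi).1 (congrArg Subtype.val (MonoidHom.mem_ker.1 g.2))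
        · intro a b e
          exact Subtype.ext (Subtype.ext (congrArg (fun z : ↥({1, m1} : Set SL(2, K)) => (z : SL(2, K))) e))
      have h2 : ({1, m1} : Set SL(2, K)).ncard ≤ 2 :=
        (Set.ncard_insert_le _ _).trans (by rw [Set.ncard_singleton])
      have := Nat.le_of_dvd Nat.card_pos e
      omega
    · rw [hv, Nat.factorization_eq_zero_of_not_dvd d1, zero_add, hcard, Nat.card_eq_fintype_card,
        ← hq, hcube, Nat.factorization_mul (by omega) (by omega), Finsupp.add_apply,
        Nat.factorization_eq_zero_of_not_dvd hn, add_zero]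
      exact Nat.ordProj_dvd _ _
  by_cases d3 : p ∣ c + 1
  · -- the action in degree seven
    haveI : CharP K isoG2.p := ‹CharP K 3›
    let f : ↥(tw σ).fix →* GL (Fin 7) K :=
      (Iso.phi1 (F := K) stdG2.good isoG2_valid).comp (Subgroup.inclusion (tw σ).fix_le_group)
    have hf : Function.Injective f :=
      (Iso.phi1_inj stdG2 conn_G2 isoG2_valid).comp (Subgroup.inclusion_injective _)
    obtain ⟨Q, hQ⟩ := (P.2.map f).exists_le_sylow
    have h : (Nat.card K : ZMod p) ^ 2 - Nat.card K + 1 = 0 := by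
      rw [Nat.card_eq_fintype_card, ← hq]
      have e1 := (ZMod.natCast_eq_zero_iff _ _).2 d3
      have e2 := congrArg (Nat.cast : ℕ → ZMod p) hc
      push_cast at e1 e2
      linear_combination e1 + e2
    have := isCyclic_sylow_GL_seven K (by omega) (by omega) h Q
    exact isCyclic_of_injective ((Subgroup.inclusion hQ).comp
        (Subgroup.equivMapOfInjective (P : Subgroup ↥(tw σ).fix) f hf).toMonoidHom)
      ((Subgroup.inclusion_injective hQ).comp (MulEquiv.injective _))
  · have h0 : (Nat.card ↥(tw σ).fix).factorization p = 0 := by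
      rw [hv, Nat.factorization_eq_zero_of_not_dvd d1, hcube,
        Nat.factorization_eq_zero_of_not_dvd (by rw [hpp.dvd_mul]; tauto)]
    have := Sylow.card_eq_multiplicity P
    rw [h0, pow_zero] at this
    haveI : Subsingleton (P : Subgroup ↥(tw σ).fix) :=
      (Nat.card_eq_one_iff_unique.1 this).1
    exact isCyclic_of_subsingleton

end G22

end CfsgLib.Chev
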