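/-
The Sylow 2-subgroups of the groups of type twisted G2.
-/
import Cfsg.Agent.Lib.Chev.Twist.Fam.G2Cent

set_option autoImplicit false
set_option maxRecDepth 100000
set_option linter.unusedSimpArgs false

namespace CfsgLib.Chev

open scoped Pointwise

/-- the order of a subgroup through a conjugation orbit -/
lemma card_eq_conj_orbit {G : Type*} [Group G] [Finite G] (N : Subgroup G) (x : G) :
    Nat.card N = ((fun n => n * x * n⁻¹) '' (N : Set G)).ncard *
      Nat.card ↥(N ⊓ Subgroup.centralizer {x}) := by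
  let _ : MulAction ↥N G := MulAction.compHom G ((MulAut.conj (G := G)).comp N.subtype)
  have hsm : ∀ (n : ↥N) (g : G), n • g = (n : G) * g * (n : G)⁻¹ := fun _ _ => rfl
  have h1 : (fun n => n * x * n⁻¹) '' (N : Set G) = MulAction.orbit ↥N x := by
    ext y
    constructor
    · rintro ⟨n, hn, rfl⟩
      exact ⟨⟨n, hn⟩, hsm _ _⟩
    · rintro ⟨n, rfl⟩
      exact ⟨n, n.2, (hsm _ _).symm⟩
  have h2 : Nat.card ↥(MulAction.stabilizer ↥N x) = Nat.card ↥(N ⊓ Subgroup.centralizer {x}) := by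
    refine Nat.card_congr
      { toFun := fun n => ⟨(n.1 : G), n.1.2, Subgroup.mem_centralizer_iff.2 fun z hz => ?_⟩
        invFun := fun n => ⟨⟨n.1, n.2.1⟩, ?_⟩
        left_inv := fun n => rfl
        right_inv := fun n => rfl }
    · rw [Set.mem_singleton_iff.1 hz]
      have h : n.1 • x = x := n.2
      rw [hsm, mul_inv_eq_iff_eq_mul] at h
      exact h.symm
    · show (⟨n.1, n.2.1⟩ : ↥N) • x = x
      rw [hsm, mul_inv_eq_iff_eq_mul]
      exact (Subgroup.mem_centralizer_iff.1 n.2.2 x rfl).symm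
  rw [h1, ← h2, ← Nat.card_coe_set_eq, Nat.card_congr (MulAction.orbitEquivQuotientStabilizer ↥N x)]
  exact Subgroup.card_eq_card_quotient_mul_card_subgroup _

end CfsgLib.Chev

namespace CfsgLib.Chev.G22

open Cfsg.Lie Matrix CfsgLib.Chev
open CfsgLib.Steinberg.R1Data (up dn)
open scoped MatrixGroups

variable {K : Type*} [Field K] [CharP K 3] {σ : K →+* K}

/-- a second element of order four of `SL₂` -/
def hS : SL(2, K) := ⟨!![1, 1; 1, -1], by
  rw [Matrix.det_fin_two_of]; linear_combination -(three (K := K))⟩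

/-- an element of order three of `SL₂` normalising the quaternion group -/
def gS : SL(2, K) := ⟨!![-1, -1; 1, 0], by rw [Matrix.det_fin_two_of]; ring⟩

omit [CharP K 3] in
lemma wJ_val : ((wJ : SL(2, K)) : Matrix (Fin 2) (Fin 2) K) = !![0, 1; -1, 0] := rfl

lemma hS_val : ((hS : SL(2, K)) : Matrix (Fin 2) (Fin 2) K) = !![1, 1; 1, -1] := rfl

lemma gS_val : ((gS : SL(2, K)) : Matrix (Fin 2) (Fin 2) K) = !![-1, -1; 1, 0] := rfl

lemma hS_sq : (hS : SL(2, K)) * hS = m1 := by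
  refine Subtype.ext ?_
  show ((hS : SL(2, K)) : Matrix (Fin 2) (Fin 2) K) * ((hS : SL(2, K)) : Matrix (Fin 2) (Fin 2) K) = _
  rw [hS_val, m1_val]
  have h3 := three (K := K)
  ext i j
  fin_cases i <;> fin_cases j <;> simp <;> linear_combination h3

lemma hS_wJ : (hS : SL(2, K)) * wJ = m1 * (wJ * hS) := by
  refine Subtype.ext ?_
  show ((hS : SL(2, K)) : Matrix (Fin 2) (Fin 2) K) * ((wJ : SL(2, K)) : Matrix (Fin 2) (Fin 2) K) =
    ((m1 : SL(2, K)) : Matrix (Fin 2) (Fin 2) K) * (((wJ : SL(2, K)) : Matrix (Fin 2) (Fin 2) K) * ((hS : SL(2, K)) : Matrix (Fin 2) (Fin 2) K))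
  simp only [hS_val, m1_val, wJ_val]
  ext i j
  fin_cases i <;> fin_cases j <;> simp

lemma wJ_gS : (wJ : SL(2, K)) * gS = gS * hS := by
  refine Subtype.ext ?_
  show ((wJ : SL(2, K)) : Matrix (Fin 2) (Fin 2) K) * ((gS : SL(2, K)) : Matrix (Fin 2) (Fin 2) K) =
    ((gS : SL(2, K)) : Matrix (Fin 2) (Fin 2) K) * ((hS : SL(2, K)) : Matrix (Fin 2) (Fin 2) K)
  simp only [hS_val, gS_val, wJ_val]
  have h3 := three (K := K)
  ext i j
  fin_cases i <;> fin_cases j <;> simp <;> linear_combination h3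

lemma hS_gS : (hS : SL(2, K)) * gS = gS * (wJ * hS) := by
  refine Subtype.ext ?_
  show ((hS : SL(2, K)) : Matrix (Fin 2) (Fin 2) K) * ((gS : SL(2, K)) : Matrix (Fin 2) (Fin 2) K) =
    ((gS : SL(2, K)) : Matrix (Fin 2) (Fin 2) K) * (((wJ : SL(2, K)) : Matrix (Fin 2) (Fin 2) K) * ((hS : SL(2, K)) : Matrix (Fin 2) (Fin 2) K))
  simp only [hS_val, gS_val, wJ_val]
  have h3 := three (K := K)
  ext i j
  fin_cases i <;> fin_cases j <;> simp <;>
    first | linear_combination h3 | linear_combination -h3 | ring1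

variable [Fintype K]

lemma Psi_ne (hi : Inv3 σ) {g : SL(2, K)} {i j : Fin 2}
    (h1 : g i j ≠ (1 : SL(2, K)) i j) (h2 : g i j ≠ (m1 : SL(2, K)) i j) : Psi σ g ≠ 1 := by
  intro h
  rcases (Psi_ker hi).1 h with rfl | rfl
  · exact h1 rfl
  · exact h2 rfl

variable (hi : Inv3 σ)

/-- the image of the Weyl element -/
noncomputable def wF : ↥(tw σ).fix := PsiF hi wJ

/-- the image of the second element -/
noncomputable def qF : ↥(tw σ).fix := PsiF hi hS

/-- the image of the element of order three -/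
noncomputable def gF : ↥(tw σ).fix := PsiF hi gS

lemma PsiF_m1 : PsiF hi (m1 : SL(2, K)) = 1 := Subtype.ext Psi_m1

lemma wF_sq : wF hi * wF hi = 1 := by
  rw [wF, ← map_mul]; exact PsiF_m1 hi

lemma qF_sq : qF hi * qF hi = 1 := by
  rw [qF, ← map_mul, hS_sq]; exact PsiF_m1 hi

lemma wq_comm : qF hi * wF hi = wF hi * qF hi := by
  rw [qF, wF, ← map_mul, hS_wJ, map_mul, PsiF_m1, one_mul, map_mul]

lemma a_comm (g : SL(2, K)) : aF hi * PsiF hi g = PsiF hi g * aF hi := Subtype.ext (aR_comm g)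

lemma conj_w : (gF hi)⁻¹ * wF hi * gF hi = qF hi := by
  rw [mul_assoc, gF, wF, ← map_mul, wJ_gS, map_mul, inv_mul_cancel_left, qF]

lemma conj_q : (gF hi)⁻¹ * qF hi * gF hi = wF hi * qF hi := by
  rw [mul_assoc, gF, qF, ← map_mul, hS_gS, map_mul, inv_mul_cancel_left, map_mul, wF]

/-- the elementary abelian group of order eight -/
noncomputable def eHom :
    Multiplicative (ZMod 2) × Multiplicative (ZMod 2) × Multiplicative (ZMod 2) →* ↥(tw σ).fix :=
  (invHom (aF hi) (aF_sq hi)).noncommCoprod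
    ((invHom (wF hi) (wF_sq hi)).noncommCoprod (invHom (qF hi) (qF_sq hi))
      (fun _ _ => Commute.pow_pow (wq_comm hi).symm _ _))
    (fun _ _ => (Commute.pow_left (Commute.mul_right (Commute.pow_right (a_comm hi _) _)
      (Commute.pow_right (a_comm hi _) _)) _))

lemma eHom_apply (i j k : Multiplicative (ZMod 2)) :
    eHom hi (i, j, k) = aF hi ^ i.toAdd.val * (wF hi ^ j.toAdd.val * qF hi ^ k.toAdd.val) := rfl

include hi in
lemma entry_ne : Psi σ (wJ : SL(2, K)) ≠ 1 ∧ Psi σ (hS : SL(2, K)) ≠ 1 ∧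
    Psi σ ((wJ : SL(2, K)) * hS) ≠ 1 := by
  refine ⟨Psi_ne hi (i := 0) (j := 1) ?_ ?_, Psi_ne hi (i := 0) (j := 1) ?_ ?_,
    Psi_ne hi (i := 1) (j := 0) ?_ ?_⟩
  all_goals simp [m1_val, wJ_val, hS_val, SpecialLinearGroup.coe_mul]

lemma eHom_inj : Function.Injective (eHom hi) := by
  rw [injective_iff_map_eq_one]
  rintro ⟨i, j, k⟩ h
  rw [eHom_apply] at h
  have h' : aR σ ^ i.toAdd.val * (Psi σ wJ ^ j.toAdd.val * Psi σ hS ^ k.toAdd.val) = 1 :=
    congrArg Subtype.val h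
  rw [← map_pow, ← map_pow, ← map_mul] at h'
  obtain ⟨e1, e2, e3⟩ := entry_ne hi
  rcases zmod2_cases i with rfl | rfl
  · simp only [toAdd_one, ZMod.val_zero, pow_zero, one_mul] at h'
    rcases zmod2_cases j with rfl | rfl <;> rcases zmod2_cases k with rfl | rfl
    · rfl
    · exact absurd (by simpa [ZMod.val_one] using h') e2
    · exact absurd (by simpa [ZMod.val_one] using h') e1
    · exact absurd (by simpa [ZMod.val_one] using h') e3
  · exfalso
    simp only [toAdd_ofAdd, ZMod.val_one, pow_one] at h'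
    refine aR_not_range hi ((wJ : SL(2, K)) ^ j.toAdd.val * hS ^ k.toAdd.val) ?_
    rw [eq_inv_of_mul_eq_one_right h']
    exact inv_eq_of_mul_eq_one_right aR_sq

/-- its range -/
noncomputable def eSub : Subgroup ↥(tw σ).fix := (eHom hi).range

lemma card_eSub : Nat.card ↥(eSub hi) = 8 := by
  rw [eSub, ← Nat.card_congr (MonoidHom.ofInjective (eHom_inj hi)).toEquiv]
  simp

lemma eSub_sq : ∀ x ∈ eSub hi, x * x = 1 := by
  rintro _ ⟨p, rfl⟩
  rw [← map_mul, show p * p = 1 from by revert p; decide, map_one]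

lemma mem_eSub : aF hi ∈ eSub hi ∧ wF hi ∈ eSub hi ∧ qF hi ∈ eSub hi := by
  refine ⟨⟨(Multiplicative.ofAdd 1, 1, 1), ?_⟩, ⟨(1, Multiplicative.ofAdd 1, 1), ?_⟩,
    ⟨(1, 1, Multiplicative.ofAdd 1), ?_⟩⟩ <;>
  simp [eHom_apply, ZMod.val_one]

lemma eSub_le {N : Subgroup ↥(tw σ).fix} (h1 : aF hi ∈ N) (h2 : wF hi ∈ N) (h3 : qF hi ∈ N) :
    eSub hi ≤ N := by
  rintro _ ⟨⟨i, j, k⟩, rfl⟩
  rw [eHom_apply]
  exact mul_mem (pow_mem h1 _) (mul_mem (pow_mem h2 _) (pow_mem h3 _))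

lemma eSub_cases {x : ↥(tw σ).fix} (hx : x ∈ eSub hi) (h1 : x ≠ 1) :
    x = aF hi ∨ x = wF hi ∨ x = qF hi ∨ x = wF hi * qF hi ∨ x = aF hi * wF hi ∨
      x = aF hi * qF hi ∨ x = aF hi * (wF hi * qF hi) := by
  obtain ⟨⟨i, j, k⟩, rfl⟩ := hx
  rw [eHom_apply] at h1 ⊢
  rcases zmod2_cases i with rfl | rfl <;> rcases zmod2_cases j with rfl | rfl <;>
    rcases zmod2_cases k with rfl | rfl <;> simp [ZMod.val_one] at h1 ⊢

lemma mod_eight {m : ℕ} : 3 ^ (2 * m + 1) % 8 = 3 := by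
  rw [pow_succ, pow_mul, Nat.mul_mod, Nat.pow_mod]
  norm_num

lemma card_two {m : ℕ} (hK : Fintype.card K = 3 ^ (2 * m + 1)) (hi : Inv3 σ) :
    (Nat.card ↥(tw σ).fix).factorization 2 = 3 := by
  obtain ⟨-, hG⟩ := orders hi hK
  have h8 := mod_eight (m := m)
  rw [hG]
  set q := 3 ^ (2 * m + 1) with hq
  obtain ⟨c, hc⟩ : ∃ c, q = 8 * c + 3 := ⟨q / 8, by omega⟩
  have h1 : q - 1 = 2 * (4 * c + 1) := by omega
  obtain ⟨d, hd⟩ : ∃ d, q ^ 3 + 1 = 4 * (2 * d + 1) :=
    ⟨64 * c ^ 3 + 72 * c ^ 2 + 27 * c + 3, by rw [hc]; ring⟩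
  obtain ⟨e, he⟩ : ∃ e, q ^ 3 = 2 * e + 1 :=
    ⟨256 * c ^ 3 + 288 * c ^ 2 + 108 * c + 13, by rw [hc]; ring⟩
  rw [h1, hd, he, show (2 * e + 1) * (2 * (4 * c + 1)) * (4 * (2 * d + 1)) =
    2 ^ 3 * ((2 * e + 1) * (4 * c + 1) * (2 * d + 1)) by ring,
    Nat.factorization_mul (by norm_num) (by positivity), Finsupp.add_apply,
    Nat.prime_two.factorization_pow, Finsupp.single_eq_same,
    Nat.factorization_eq_zero_of_not_dvd]
  intro h
  rcases Nat.prime_two.dvd_mul.1 h with h | h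
  · rcases Nat.prime_two.dvd_mul.1 h with h | h <;> omega
  · omega

/-- the reference Sylow 2-subgroup -/
theorem exists_syl {m : ℕ} (hK : Fintype.card K = 3 ^ (2 * m + 1)) (hi : Inv3 σ) :
    ∃ E : Sylow 2 ↥(tw σ).fix, (E : Subgroup ↥(tw σ).fix) = eSub hi := by
  have : Finite (GL chevG2.Idx K) := finite_GL
  have : Fact (Nat.Prime 2) := ⟨Nat.prime_two⟩
  exact ⟨Sylow.ofCard (eSub hi) (by rw [card_eSub, card_two hK hi]; norm_num), Sylow.coe_ofCard _ _⟩

/-- every Sylow 2-subgroup is elementary abelian of order eight -/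
theorem sylow_two {m : ℕ} (hK : Fintype.card K = 3 ^ (2 * m + 1)) (hi : Inv3 σ)
    (S : Sylow 2 ↥(tw σ).fix) : Nat.card S = 8 ∧ ∀ x ∈ S, x * x = 1 := by
  have : Finite (GL chevG2.Idx K) := finite_GL
  have : Fact (Nat.Prime 2) := ⟨Nat.prime_two⟩
  obtain ⟨E, hE⟩ := exists_syl hK hi
  obtain ⟨g, rfl⟩ := MulAction.exists_smul_eq ↥(tw σ).fix E S
  have e : ((g • E : Sylow 2 ↥(tw σ).fix) : Subgroup ↥(tw σ).fix) =
      (eSub hi).map (MulAut.conj g).toMonoidHom := by
    rw [← hE]; rfl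
  refine ⟨?_, fun x hx => ?_⟩
  · show Nat.card ↥((g • E : Sylow 2 ↥(tw σ).fix) : Subgroup ↥(tw σ).fix) = 8
    rw [e, Subgroup.card_map_of_injective (MulAut.conj g).injective, card_eSub]
  · have hx' : x ∈ (eSub hi).map (MulAut.conj g).toMonoidHom := e ▸ hx
    obtain ⟨y, hy, rfl⟩ := hx'
    rw [← map_mul, eSub_sq hi y hy, map_one]

/-- an element of the centraliser of `a` -/
lemma cent_form (h4 : Fintype.card K % 4 = 3) {y : ↥(tw σ).fix}
    (hy : y ∈ Subgroup.centralizer {aF hi}) :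
    ∃ g : SL(2, K), y = PsiF hi g ∨ y = aF hi * PsiF hi g := by
  classical
  have : Finite (GL chevG2.Idx K) := finite_GL
  obtain ⟨e⟩ := cent_iso hi h4
  have hcard := Nat.card_congr e.toEquiv
  set T : Set ↥(tw σ).fix :=
    {z | ∃ g : SL(2, K), z = PsiF hi g ∨ z = aF hi * PsiF hi g} with hT
  have hsub : T ⊆ (Subgroup.centralizer {aF hi} : Set ↥(tw σ).fix) := by
    rintro z ⟨g, rfl | rfl⟩
    · exact range_le_cent hi (QuotientGroup.mk g)
    · exact mul_mem (Subgroup.mem_centralizer_iff.2 fun w hw => by rw [Set.mem_singleton_iff.1 hw])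
        (range_le_cent hi (QuotientGroup.mk g))
  have hge : Nat.card ↥(Subgroup.centralizer {aF hi}) ≤ T.ncard := by
    rw [hcard]
    let f : Multiplicative (ZMod 2) × Matrix.ProjectiveSpecialLinearGroup (Fin 2) K → T := fun p =>
      ⟨aF hi ^ p.1.toAdd.val * PsiBar hi p.2, by
        obtain ⟨g, hg⟩ := QuotientGroup.mk_surjective p.2
        refine ⟨g, ?_⟩
        rw [← hg]
        rcases zmod2_cases p.1 with e | e <;> rw [e]
        · left
          simp only [toAdd_one, ZMod.val_zero, pow_zero, one_mul]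
          rfl
        · right
          simp only [toAdd_ofAdd, ZMod.val_one, pow_one]
          rfl⟩
    have hf : Function.Injective f := by
      rintro ⟨i, p⟩ ⟨j, r⟩ h
      have h' : aF hi ^ i.toAdd.val * PsiBar hi p = aF hi ^ j.toAdd.val * PsiBar hi r :=
        congrArg Subtype.val h
      have hno : ∀ p r, aF hi * PsiBar hi p ≠ PsiBar hi r := fun p r h => by
        obtain ⟨g, hg⟩ := QuotientGroup.mk_surjective (r * p⁻¹)
        refine aR_not_range hi g ?_
        have : PsiBar hi (r * p⁻¹) = aF hi := by rw [map_mul, map_inv, ← h, mul_inv_cancel_right]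
        rw [← hg] at this
        exact congrArg Subtype.val this
      rcases zmod2_cases i with rfl | rfl <;> rcases zmod2_cases j with rfl | rfl <;>
        simp only [toAdd_one, toAdd_ofAdd, ZMod.val_zero, ZMod.val_one, pow_zero, pow_one, one_mul] at h'
      · rw [PsiBar_inj hi h']
      · exact absurd h'.symm (hno r p)
      · exact absurd h' (hno p r)
      · rw [PsiBar_inj hi (mul_left_cancel h')]
    exact (Nat.card_le_card_of_injective f hf).trans_eq (Nat.card_coe_set_eq T)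
  rw [← SetLike.coe_sort_coe, Nat.card_coe_set_eq] at hge
  have heq := Set.eq_of_subset_of_ncard_le hsub hge
  have : y ∈ T := by rw [heq]; exact hy
  exact this

include hi in
lemma comm_cases {g k : SL(2, K)} (h : Psi σ g * Psi σ k = Psi σ k * Psi σ g) :
    g * k = k * g ∨ g * k = m1 * (k * g) := by
  rw [← map_mul, ← map_mul] at h
  have h1 : Psi σ ((g * k) * (k * g)⁻¹) = 1 := by rw [map_mul, map_inv, h, mul_inv_cancel]
  rcases (Psi_ker hi).1 h1 with e | e
  · exact Or.inl (mul_inv_eq_one.1 e)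
  · exact Or.inr (mul_inv_eq_iff_eq_mul.1 e)

/-- `E` is its own centraliser -/
theorem cent_eSub (h4 : Fintype.card K % 4 = 3) {y : ↥(tw σ).fix}
    (ha : aF hi * y = y * aF hi) (hw : wF hi * y = y * wF hi) (hq : qF hi * y = y * qF hi) :
    y ∈ eSub hi := by
  obtain ⟨ma, mw, mq⟩ := mem_eSub hi
  obtain ⟨g, hy⟩ := cent_form hi h4 (y := y)
    (Subgroup.mem_centralizer_iff.2 fun z hz => by rw [Set.mem_singleton_iff.1 hz]; exact ha)
  suffices hg : PsiF hi g ∈ eSub hi by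
    rcases hy with rfl | rfl
    exacts [hg, mul_mem ma hg]
  have hk : ∀ k : SL(2, K), PsiF hi k * y = y * PsiF hi k →
      Psi σ g * Psi σ k = Psi σ k * Psi σ g := by
    intro k hk
    have e : PsiF hi g * PsiF hi k = PsiF hi k * PsiF hi g := by
      rcases hy with rfl | rfl
      · exact hk.symm
      · rw [← mul_assoc, ← a_comm, mul_assoc, mul_assoc] at hk
        exact (mul_left_cancel hk).symm
    exact congrArg Subtype.val e
  have hd := CfsgLib.Steinberg.R1Data.det_eq g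
  have h3 := three (K := K)
  have key : ∀ k ∈ ({1, m1, wJ, m1 * wJ, hS, m1 * hS, wJ * hS, m1 * (wJ * hS)} : Set SL(2, K)),
      PsiF hi k ∈ eSub hi := by
    intro k hk
    have e1 := PsiF_m1 hi
    rcases hk with rfl | rfl | rfl | rfl | rfl | rfl | rfl | rfl <;>
      try simp only [map_one, map_mul, e1, one_mul]
    exacts [one_mem _, one_mem _, mw, mw, mq, mq, mul_mem mw mq, mul_mem mw mq]
  refine key g ?_
  have two := two_ne (K := K)
  have hval : ∀ k : SL(2, K), (g : Matrix (Fin 2) (Fin 2) K) = k → g = k := fun k h => Subtype.ext h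
  rcases comm_cases hi (hk wJ hw) with h1 | h1 <;> rcases comm_cases hi (hk hS hq) with h2 | h2
  all_goals
    have a1 := congrFun (congrFun (congrArg Subtype.val h1) 0) 0
    have a2 := congrFun (congrFun (congrArg Subtype.val h1) 0) 1
    have b1 := congrFun (congrFun (congrArg Subtype.val h2) 0) 0
    have b2 := congrFun (congrFun (congrArg Subtype.val h2) 0) 1
    simp [SpecialLinearGroup.coe_mul, wJ_val, hS_val, m1_val, Matrix.mul_apply, Fin.sum_univ_two,
      Matrix.vecMul, dotProduct] at a1 a2 b1 b2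
  · -- scalar
    have hr : g 0 1 = 0 := by
      have : (2 : K) * g 0 1 = 0 := by linear_combination b1 - a1
      exact (mul_eq_zero.1 this).resolve_left two
    have hs : g 1 0 = 0 := by linear_combination -a1 - hr
    have hu : g 1 1 = g 0 0 := by linear_combination -a2
    rw [hr, hs, hu] at hd
    have h' : g 0 0 ^ 2 = 1 := by linear_combination hd
    rcases sq_eq_one_iff.1 h' with e | e
    · refine Or.inl (hval 1 ?_)
      ext i j; fin_cases i <;> fin_cases j <;> simp [hr, hs, hu, e]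
    · refine Or.inr (Or.inl (hval m1 ?_))
      rw [m1_val]; ext i j; fin_cases i <;> fin_cases j <;> simp [hr, hs, hu, e]
  · -- ± w
    have hs : g 1 0 = -g 0 1 := by linear_combination -a1
    have hp : g 0 0 = 0 := by
      have : (2 : K) * g 0 0 = 0 := by linear_combination b1 + a1
      exact (mul_eq_zero.1 this).resolve_left two
    have hu : g 1 1 = 0 := by linear_combination hp - a2
    rw [hs, hp, hu] at hd
    have h' : g 0 1 ^ 2 = 1 := by linear_combination hd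
    rcases sq_eq_one_iff.1 h' with e | e
    · refine Or.inr (Or.inr (Or.inl (hval _ ?_)))
      rw [wJ_val]; ext i j; fin_cases i <;> fin_cases j <;> simp [hs, hp, hu, e]
    · refine Or.inr (Or.inr (Or.inr (Or.inl (hval _ ?_))))
      show _ = (((m1) : SL(2, K)) : Matrix (Fin 2) (Fin 2) K) * (((wJ) : SL(2, K)) : Matrix (Fin 2) (Fin 2) K)
      rw [wJ_val, m1_val]
      ext i j; fin_cases i <;> fin_cases j <;> simp [hs, hp, hu, e]
  · -- ± h
    have hs : g 1 0 = g 0 1 := by linear_combination -a1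
    have hu : g 1 1 = -g 0 0 := by linear_combination a2
    have hr : g 0 1 = g 0 0 := by
      have : (2 : K) * (g 0 1 - g 0 0) = 0 := by linear_combination -b2 - hu
      exact sub_eq_zero.1 ((mul_eq_zero.1 this).resolve_left two)
    rw [hs, hr, hu] at hd
    have h' : g 0 0 ^ 2 = 1 := by linear_combination hd + g 0 0 ^ 2 * h3
    rcases sq_eq_one_iff.1 h' with e | e
    · refine Or.inr (Or.inr (Or.inr (Or.inr (Or.inl (hval _ ?_)))))
      rw [hS_val]; ext i j; fin_cases i <;> fin_cases j <;> simp [hs, hr, hu, e]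
    · refine Or.inr (Or.inr (Or.inr (Or.inr (Or.inr (Or.inl (hval _ ?_))))))
      show _ = (((m1) : SL(2, K)) : Matrix (Fin 2) (Fin 2) K) * (((hS) : SL(2, K)) : Matrix (Fin 2) (Fin 2) K)
      rw [hS_val, m1_val]
      ext i j; fin_cases i <;> fin_cases j <;> simp [hs, hr, hu, e]
  · -- ± wh
    have hs : g 1 0 = g 0 1 := by linear_combination -a1
    have hu : g 1 1 = -g 0 0 := by linear_combination a2
    have hr : g 0 1 = -g 0 0 := by
      have : (2 : K) * (g 0 1 + g 0 0) = 0 := by linear_combination b1 - hs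
      exact eq_neg_of_add_eq_zero_left ((mul_eq_zero.1 this).resolve_left two)
    rw [hs, hr, hu] at hd
    have h' : g 0 0 ^ 2 = 1 := by linear_combination hd + g 0 0 ^ 2 * h3
    rcases sq_eq_one_iff.1 h' with e | e
    · refine Or.inr (Or.inr (Or.inr (Or.inr (Or.inr (Or.inr (Or.inl (hval _ ?_)))))))
      show _ = (((wJ) : SL(2, K)) : Matrix (Fin 2) (Fin 2) K) * (((hS) : SL(2, K)) : Matrix (Fin 2) (Fin 2) K)
      rw [hS_val, wJ_val]
      ext i j; fin_cases i <;> fin_cases j <;> simp [hs, hr, hu, e]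
    · refine Or.inr (Or.inr (Or.inr (Or.inr (Or.inr (Or.inr (Or.inr (hval _ ?_)))))))
      show _ = (((m1) : SL(2, K)) : Matrix (Fin 2) (Fin 2) K) * ((((wJ) : SL(2, K)) : Matrix (Fin 2) (Fin 2) K) * (((hS) : SL(2, K)) : Matrix (Fin 2) (Fin 2) K))
      rw [hS_val, wJ_val, m1_val]
      ext i j; fin_cases i <;> fin_cases j <;> simp [hs, hr, hu, e]

/-- the two words conjugating involutions to `a` -/
lemma fused : (∃ P : ↥(tw σ).fix, P * wF hi = aF hi * P) ∧
    (∃ P : ↥(tw σ).fix, P * (aF hi * wF hi) = aF hi * P) := by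
  have hn := (tw σ).nJ_fix (j := 0) (by decide)
  have hw : Psi σ (wJ : SL(2, K)) = xx 8 1 * xx 10 1 * (xx 3 (-1) * xx 1 (-1)) * (xx 8 1 * xx 10 1) := by
    rw [wS_eq, map_mul, map_mul, Psi_up', Psi_dn']; simp [map_neg]
  have two : (2 : K) = -1 := by linear_combination three (K := K)
  have hc1 : wordEqCheck chevG2 auxG2 3
      [(7, 1), (6, 1), (8, 1), (9, -1), (11, 1), (4, 1), (5, 1), (1, 1), (0, -1),
        (8, 1), (10, 1), (3, -1), (1, -1), (8, 1), (10, 1)]
      [(7, -1), (4, 1), (7, -1), (7, -1), (4, 1), (7, -1), (6, -1), (5, 1), (6, -1), (6, -1), (5, 1),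
        (6, -1), (7, 1), (6, 1), (8, 1), (9, -1), (11, 1), (4, 1), (5, 1), (1, 1), (0, -1)] = true := by
    decide +kernel
  have hc2 : wordEqCheck chevG2 auxG2 3
      [(9, 1), (11, 1), (4, -1), (5, -1), (2, 1), (1, 1), (0, -1),
        (7, -1), (4, 1), (7, -1), (7, -1), (4, 1), (7, -1), (6, -1), (5, 1), (6, -1), (6, -1), (5, 1),
        (6, -1), (8, 1), (10, 1), (3, -1), (1, -1), (8, 1), (10, 1)]
      [(7, -1), (4, 1), (7, -1), (7, -1), (4, 1), (7, -1), (6, -1), (5, 1), (6, -1), (6, -1), (5, 1),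
        (6, -1), (9, 1), (11, 1), (4, -1), (5, -1), (2, 1), (1, 1), (0, -1)] = true := by
    decide +kernel
  have hid1 := word_eq_of_check (F := K) stdG2.good hc1
  have hid2 := word_eq_of_check (F := K) stdG2.good hc2
  constructor
  · refine ⟨⟨W (quad σ (1 : K) 0 1) * ((tw σ).nJ 0 * W (quad σ (-1 : K) (-1) 1) * ((tw σ).nJ 0)⁻¹),
      mul_mem (W_quad_fix hi _ _ _)
        (mul_mem (mul_mem hn (W_quad_fix hi _ _ _)) (inv_mem hn))⟩, Subtype.ext ?_⟩
    show W (quad σ (1 : K) 0 1) * ((tw σ).nJ 0 * W (quad σ (-1 : K) (-1) 1) * ((tw σ).nJ 0)⁻¹) * Psi σ wJ =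
      aR σ * (W (quad σ (1 : K) 0 1) * ((tw σ).nJ 0 * W (quad σ (-1 : K) (-1) 1) * ((tw σ).nJ 0)⁻¹))
    rw [neg_W, hR_neg_one_hG, hw]
    simp only [hG, nG]
    rw [show chevG2.neg 7 = 4 by decide +kernel, show chevG2.neg 6 = 5 by decide +kernel]
    simpa [W, quad, xx, mul_assoc, xG_zero, ← two_mul, ← sub_eq_add_neg, neg_two, one_add_one_eq_two,
      two] using hid1
  · refine ⟨⟨W (quad σ (0 : K) 0 1) * ((tw σ).nJ 0 * W (quad σ (1 : K) (-1) 1) * ((tw σ).nJ 0)⁻¹),
      mul_mem (W_quad_fix hi _ _ _)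
        (mul_mem (mul_mem hn (W_quad_fix hi _ _ _)) (inv_mem hn))⟩, Subtype.ext ?_⟩
    show W (quad σ (0 : K) 0 1) * ((tw σ).nJ 0 * W (quad σ (1 : K) (-1) 1) * ((tw σ).nJ 0)⁻¹) * (aR σ * Psi σ wJ) =
      aR σ * (W (quad σ (0 : K) 0 1) * ((tw σ).nJ 0 * W (quad σ (1 : K) (-1) 1) * ((tw σ).nJ 0)⁻¹))
    rw [neg_W, hR_neg_one_hG, hw]
    simp only [hG, nG]
    rw [show chevG2.neg 7 = 4 by decide +kernel, show chevG2.neg 6 = 5 by decide +kernel]
    simpa [W, quad, xx, mul_assoc, xG_zero, ← two_mul, ← sub_eq_add_neg, neg_two, one_add_one_eq_two,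
      two] using hid2

/-- every involution of `E` is conjugate to `a` -/
lemma conj_a {x : ↥(tw σ).fix} (hx : x ∈ eSub hi) (h1 : x ≠ 1) :
    ∃ P : ↥(tw σ).fix, x = P⁻¹ * aF hi * P := by
  obtain ⟨⟨P, hP⟩, ⟨Q, hQ⟩⟩ := fused hi
  have hwP : wF hi = P⁻¹ * aF hi * P := by rw [mul_assoc, ← hP, inv_mul_cancel_left]
  have hwQ : aF hi * wF hi = Q⁻¹ * aF hi * Q := by rw [mul_assoc Q⁻¹, ← hQ, inv_mul_cancel_left]
  have step : ∀ z, (∃ P : ↥(tw σ).fix, z = P⁻¹ * aF hi * P) →
      ∃ P : ↥(tw σ).fix, (gF hi)⁻¹ * z * gF hi = P⁻¹ * aF hi * P := fun z ⟨P, hP⟩ =>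
    ⟨P * gF hi, by rw [hP]; group⟩
  have hga : (gF hi)⁻¹ * aF hi * gF hi = aF hi := by
    rw [mul_assoc, gF, a_comm, inv_mul_cancel_left]
  have hg2 : ∀ z, (gF hi)⁻¹ * (aF hi * z) * gF hi = aF hi * ((gF hi)⁻¹ * z * gF hi) := fun z => by
    calc (gF hi)⁻¹ * (aF hi * z) * gF hi =
          ((gF hi)⁻¹ * aF hi * gF hi) * ((gF hi)⁻¹ * z * gF hi) := by group
      _ = _ := by rw [hga]
  have hq := step _ ⟨P, hwP⟩
  rw [conj_w] at hq
  have hwq := step _ hq
  rw [conj_q] at hwq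
  have haq := step _ ⟨Q, hwQ⟩
  rw [hg2, conj_w] at haq
  have hawq := step _ haq
  rw [hg2, conj_q] at hawq
  rcases eSub_cases hi hx h1 with rfl | rfl | rfl | rfl | rfl | rfl | rfl
  exacts [⟨1, by group⟩, ⟨P, hwP⟩, hq, hwq, ⟨Q, hwQ⟩, haq, hawq]

/-- the normaliser of `E` -/
theorem norm_eSub {m : ℕ} (hK : Fintype.card K = 3 ^ (2 * m + 1)) (h4 : Fintype.card K % 4 = 3)
    (hi : Inv3 σ) : Nat.card ↥(Subgroup.normalizer (eSub hi : Set ↥(tw σ).fix)) = 168 := by
  classical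
  have : Finite (GL chevG2.Idx K) := finite_GL
  have : Fact (Nat.Prime 2) := ⟨Nat.prime_two⟩
  obtain ⟨E, hE⟩ := exists_syl hK hi
  obtain ⟨ma, mw, mq⟩ := mem_eSub hi
  set N := Subgroup.normalizer (eSub hi : Set ↥(tw σ).fix) with hN
  have hEN : eSub hi ≤ N := Subgroup.le_normalizer
  have hconjE : ∀ n ∈ N, ∀ z ∈ eSub hi, n * z * n⁻¹ ∈ eSub hi := fun n hn z hz =>
    (Subgroup.mem_normalizer_iff.1 hn z).1 hz
  have hcomm : ∀ x ∈ eSub hi, x ∈ Subgroup.centralizer ((E : Subgroup ↥(tw σ).fix) : Set ↥(tw σ).fix) := by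
    rintro _ ⟨p, rfl⟩
    refine Subgroup.mem_centralizer_iff.2 fun z hz => ?_
    obtain ⟨r, rfl⟩ : z ∈ eSub hi := hE ▸ hz
    rw [← map_mul, ← map_mul, mul_comm]
  -- the orbit of `a`
  have h7 : (fun n => n * aF hi * n⁻¹) '' (N : Set ↥(tw σ).fix) =
      (eSub hi : Set ↥(tw σ).fix) \ {1} := by
    ext x
    constructor
    · rintro ⟨n, hn, rfl⟩
      refine ⟨hconjE n hn _ ma, fun h => aR_ne_one (σ := σ) ?_⟩
      have : aF hi = 1 := by
        have h' : n * aF hi * n⁻¹ = 1 := h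
        rwa [mul_inv_eq_one, mul_eq_left] at h'
      exact congrArg Subtype.val this
    · rintro ⟨hx, h1⟩
      obtain ⟨P, hP⟩ := conj_a hi hx h1
      obtain ⟨n, hn, e⟩ := Sylow.conj_eq_normalizer_conj_of_mem_centralizer E (aF hi) P (hcomm _ ma)
        (hP ▸ hcomm _ hx)
      refine ⟨n⁻¹, inv_mem ?_, ?_⟩
      · show n ∈ N
        rw [hN, ← hE]; exact hn
      · show n⁻¹ * aF hi * n⁻¹⁻¹ = x
        rw [inv_inv, ← e, hP]
  -- inside the centraliser of `a`
  set M := N ⊓ Subgroup.centralizer {aF hi} with hM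
  have hrange : ∀ y ∈ Subgroup.centralizer {aF hi}, ∀ k : SL(2, K),
      ∃ k', y * PsiF hi k * y⁻¹ = PsiF hi k' := by
    intro y hy k
    obtain ⟨g, rfl | rfl⟩ := cent_form hi h4 hy
    · exact ⟨g * k * g⁻¹, by rw [map_mul, map_mul, map_inv]⟩
    · refine ⟨g * k * g⁻¹, ?_⟩
      rw [map_mul, map_mul, map_inv, show aF hi * PsiF hi g * PsiF hi k * (aF hi * PsiF hi g)⁻¹ =
        aF hi * (PsiF hi g * PsiF hi k * (PsiF hi g)⁻¹) * (aF hi)⁻¹ by group, ← map_inv, ← map_mul,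
        ← map_mul, a_comm, mul_inv_cancel_right]
  have hPsiE : ∀ z ∈ eSub hi, ∀ k : SL(2, K), z = PsiF hi k → z ≠ 1 →
      z = wF hi ∨ z = qF hi ∨ z = wF hi * qF hi := by
    intro z hz k hk h1
    have hno : ∀ k' : SL(2, K), aF hi * PsiF hi k' ≠ PsiF hi k := by
      intro k' e
      refine aR_not_range hi (k * k'⁻¹) (congrArg Subtype.val (?_ : PsiF hi (k * k'⁻¹) = aF hi))
      rw [map_mul, map_inv, ← e, mul_inv_cancel_right]
    rcases eSub_cases hi hz h1 with e | e | e | e | e | e | e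
    · exact absurd ((by rw [map_one, mul_one, ← hk, e] : aF hi * PsiF hi 1 = PsiF hi k)) (hno 1)
    · exact Or.inl e
    · exact Or.inr (Or.inl e)
    · exact Or.inr (Or.inr e)
    · exact absurd ((by rw [← hk, e]; rfl : aF hi * PsiF hi wJ = PsiF hi k)) (hno _)
    · exact absurd ((by rw [← hk, e]; rfl : aF hi * PsiF hi hS = PsiF hi k)) (hno _)
    · exact absurd ((by rw [← hk, e, map_mul]; rfl : aF hi * PsiF hi (wJ * hS) = PsiF hi k)) (hno _)
  have hgM : gF hi ∈ M := by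
    refine Subgroup.mem_inf.2 ⟨?_, Subgroup.mem_centralizer_iff.2 fun z hz => by
      rw [Set.mem_singleton_iff.1 hz]; exact a_comm hi _⟩
    have hle : eSub hi ≤ (eSub hi).map (MulAut.conj (gF hi)).toMonoidHom := by
      have hmap : ∀ z ∈ eSub hi, ∀ y, (gF hi)⁻¹ * y * gF hi = z →
          y ∈ (eSub hi).map (MulAut.conj (gF hi)).toMonoidHom :=
        fun z hz y e => ⟨z, hz, by simp [← e]; group⟩
      refine eSub_le hi (hmap _ ma _ ?_) (hmap _ mq _ (conj_w hi))
        (hmap _ (mul_mem mw mq) _ (conj_q hi))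
      rw [mul_assoc, gF, a_comm, inv_mul_cancel_left]
    have heq := Subgroup.eq_of_le_of_card_ge hle
      (le_of_eq (Subgroup.card_map_of_injective (MulAut.conj (gF hi)).injective))
    refine Subgroup.mem_normalizer_iff.2 fun z => ⟨fun hz => ?_, fun hz => ?_⟩
    · rw [heq]; exact ⟨z, hz, rfl⟩
    · rw [heq] at hz
      obtain ⟨y, hy, e⟩ := hz
      have : y = z := (MulAut.conj (gF hi)).injective e
      exact this ▸ hy
  have hne : wF hi ≠ 1 ∧ qF hi ≠ 1 ∧ wF hi * qF hi ≠ 1 := by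
    obtain ⟨e1, e2, e3⟩ := entry_ne hi
    refine ⟨fun h => e1 (congrArg Subtype.val h), fun h => e2 (congrArg Subtype.val h), fun h => e3 ?_⟩
    rw [map_mul]; exact congrArg Subtype.val h
  have h3 : (fun n => n * wF hi * n⁻¹) '' (M : Set ↥(tw σ).fix) =
      {wF hi, qF hi, wF hi * qF hi} := by
    ext x
    constructor
    · rintro ⟨n, hn, rfl⟩
      obtain ⟨k, hk⟩ := hrange n hn.2 wJ
      exact hPsiE _ (hconjE n hn.1 _ mw) k hk fun e => hne.1 (by rwa [mul_inv_eq_one, mul_eq_left] at e)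
    · have h1 : (gF hi)⁻¹ ∈ M := inv_mem hgM
      rintro (rfl | rfl | rfl)
      · exact ⟨1, one_mem _, by simp⟩
      · exact ⟨(gF hi)⁻¹, h1, by simpa using conj_w hi⟩
      · refine ⟨(gF hi)⁻¹ * (gF hi)⁻¹, mul_mem h1 h1, ?_⟩
        show (gF hi)⁻¹ * (gF hi)⁻¹ * wF hi * ((gF hi)⁻¹ * (gF hi)⁻¹)⁻¹ = _
        rw [← conj_q hi, ← conj_w hi]; simp [mul_assoc]
  set L := M ⊓ Subgroup.centralizer {wF hi} with hL
  have hELle : eSub hi ≤ L := by
    intro z hz
    refine Subgroup.mem_inf.2 ⟨Subgroup.mem_inf.2 ⟨hEN hz, ?_⟩, ?_⟩ <;>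
      refine Subgroup.mem_centralizer_iff.2 fun y hy => ?_ <;> rw [Set.mem_singleton_iff.1 hy]
    · exact Subgroup.mem_centralizer_iff.1 (hcomm z hz) _ (hE ▸ ma)
    · exact Subgroup.mem_centralizer_iff.1 (hcomm z hz) _ (hE ▸ mw)
  have hLq : L ⊓ Subgroup.centralizer {qF hi} = eSub hi := by
    refine le_antisymm (fun y hy => ?_) fun z hz => Subgroup.mem_inf.2 ⟨hELle hz,
      Subgroup.mem_centralizer_iff.2 fun y hy => by
        rw [Set.mem_singleton_iff.1 hy]
        exact Subgroup.mem_centralizer_iff.1 (hcomm z hz) _ (hE ▸ mq)⟩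
    exact cent_eSub hi h4 (Subgroup.mem_centralizer_iff.1 hy.1.1.2 _ rfl)
      (Subgroup.mem_centralizer_iff.1 hy.1.2 _ rfl) (Subgroup.mem_centralizer_iff.1 hy.2 _ rfl)
  have hLcard : Nat.card L = 8 := by
    have h := card_eq_conj_orbit L (qF hi)
    rw [hLq, card_eSub] at h
    have hsub : (fun n => n * qF hi * n⁻¹) '' (L : Set ↥(tw σ).fix) ⊆
        {qF hi, wF hi * qF hi} := by
      rintro _ ⟨n, hn, rfl⟩
      obtain ⟨k, hk⟩ := hrange n hn.1.2 hS
      rcases hPsiE _ (hconjE n hn.1.1 _ mq) k hk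
        (fun e => hne.2.1 (by rwa [mul_inv_eq_one, mul_eq_left] at e)) with e | e | e
      · exfalso
        have hc := Subgroup.mem_centralizer_iff.1 hn.2 _ rfl
        have e2 : n * qF hi = n * wF hi := by
          have e' : n * qF hi * n⁻¹ = wF hi := e
          rw [mul_inv_eq_iff_eq_mul, hc] at e'
          exact e'
        have := mul_left_cancel e2
        exact hne.2.2 (by rw [this]; exact wF_sq hi)
      · exact Or.inl e
      · exact Or.inr e
    have h2 := (Set.ncard_le_ncard hsub (Set.toFinite _)).trans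
      ((Set.ncard_insert_le _ _).trans (by rw [Set.ncard_singleton]))
    have hdvd : ¬ 16 ∣ Nat.card L := fun h16 => by
      have hG := h16.trans (Subgroup.card_subgroup_dvd_card L)
      have hf := card_two hK hi
      have h0 : Nat.card ↥(tw σ).fix ≠ 0 := Nat.card_pos.ne'
      have := (Nat.prime_two.pow_dvd_iff_le_factorization h0).1 (show 2 ^ 4 ∣ _ from hG)
      omega
    rw [h] at hdvd ⊢
    interval_cases hn : ((fun n => n * qF hi * n⁻¹) '' (L : Set ↥(tw σ).fix)).ncard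
    · exfalso
      have : Nat.card L = 0 := by rw [h]
      exact Nat.card_pos.ne' this
    · norm_num
    · exact absurd (dvd_refl 16) hdvd
  have hwq : wF hi ≠ qF hi := fun e => hne.2.2 (by rw [← e]; exact wF_sq hi)
  rw [card_eq_conj_orbit N (aF hi), h7, ← hM, card_eq_conj_orbit M (wF hi), h3, ← hL, hLcard]
  have hc7 : ((eSub hi : Set ↥(tw σ).fix) \ {1}).ncard = 7 := by
    rw [Set.ncard_diff_singleton_of_mem (one_mem _), ← Nat.card_coe_set_eq, SetLike.coe_sort_coe,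
      card_eSub]
  have hc3 : ({wF hi, qF hi, wF hi * qF hi} : Set ↥(tw σ).fix).ncard = 3 := by
    refine Set.ncard_eq_three.2 ⟨_, _, _, hwq, ?_, ?_, rfl⟩
    · exact fun e => hne.2.1 (mul_eq_left.1 e.symm)
    · exact fun e => hne.1 (mul_eq_right.1 e.symm)
  rw [hc7, hc3]

/-- Sylow 2-subgroups: centraliser and normaliser -/
theorem sylow_two_norm {m : ℕ} (hK : Fintype.card K = 3 ^ (2 * m + 1)) (h4 : Fintype.card K % 4 = 3)
    (hi : Inv3 σ) (S : Sylow 2 ↥(tw σ).fix) :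
    Subgroup.centralizer ((S : Subgroup ↥(tw σ).fix) : Set ↥(tw σ).fix) = S ∧
      Nat.card (Subgroup.normalizer ((S : Subgroup ↥(tw σ).fix) : Set ↥(tw σ).fix)) = 168 := by
  have : Finite (GL chevG2.Idx K) := finite_GL
  have : Fact (Nat.Prime 2) := ⟨Nat.prime_two⟩
  obtain ⟨E, hE⟩ := exists_syl hK hi
  obtain ⟨g, rfl⟩ := MulAction.exists_smul_eq ↥(tw σ).fix E S
  have hS : ((g • E : Sylow 2 ↥(tw σ).fix) : Subgroup ↥(tw σ).fix) =
      (eSub hi).map (MulAut.conj g).toMonoidHom := by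
    rw [← hE]; rfl
  obtain ⟨ma, mw, mq⟩ := mem_eSub hi
  refine ⟨le_antisymm (fun y hy => ?_) ?_, ?_⟩
  · rw [hS] at hy ⊢
    refine ⟨g⁻¹ * y * g, ?_, by simp; group⟩
    have h : ∀ z ∈ eSub hi, z * (g⁻¹ * y * g) = g⁻¹ * y * g * z := by
      intro z hz
      have := Subgroup.mem_centralizer_iff.1 hy _ ⟨z, hz, rfl⟩
      change g * z * g⁻¹ * y = y * (g * z * g⁻¹) at this
      calc z * (g⁻¹ * y * g) = g⁻¹ * (g * z * g⁻¹ * y) * g := by group
        _ = g⁻¹ * (y * (g * z * g⁻¹)) * g := by rw [this]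
        _ = _ := by group
    exact cent_eSub hi h4 (h _ ma) (h _ mw) (h _ mq)
  · intro y hy
    rw [hS] at hy ⊢
    obtain ⟨y, hy, rfl⟩ := hy
    refine Subgroup.mem_centralizer_iff.2 fun z hz => ?_
    obtain ⟨z, hz, rfl⟩ := hz
    obtain ⟨p, rfl⟩ := hy
    obtain ⟨r, rfl⟩ := hz
    rw [← map_mul, ← map_mul, ← map_mul, ← map_mul, mul_comm]
  · rw [hS]
    have h := Subgroup.map_equiv_normalizer_eq (eSub hi) (MulAut.conj g)
    rw [← h, Subgroup.card_map_of_injective (MulAut.conj g).injective, norm_eSub hK h4 hi]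

end CfsgLib.Chev.G22
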