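/-
The groups of type twisted G2 as systems of small Ree type.
-/
import Cfsg.Agent.Lib.Chev.Twist.Fam.G2Facts
import Cfsg.Agent.Lib.Chev.Twist.Fam.G2Sylow
import Cfsg.Agent.Lib.Chev.Twist.Fam.G2Cyclic
import Cfsg.Agent.Lib.Chev.Ree.PSL
import Cfsg.Agent.Lib.Chev.Ree.Six
import Cfsg.Agent.Lib.Chev.Ree.Sys

set_option autoImplicit false
set_option maxRecDepth 100000

namespace CfsgLib.Chev

open Cfsg.Lie Matrix
open scoped MatrixGroups

namespace Ree

/-- the automiser of a subgroup of prime order with bounded exponent -/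
lemma relIndex_six {G : Type*} [Group G] [Finite G] {p : ℕ} [Fact p.Prime] {x : G} (ho : orderOf x = p)
    (h : ∀ n ∈ Subgroup.normalizer ((Subgroup.zpowers x : Subgroup G) : Set G), n ^ 6 ∈ Cn x) :
    (Cn x).relIndex (Subgroup.normalizer ((Subgroup.zpowers x : Subgroup G) : Set G)) ∣ 6 := by
  set H := Subgroup.zpowers x with hH
  have hC : Subgroup.centralizer (H : Set G) = Cn x := by
    rw [hH, Subgroup.zpowers_eq_closure, Subgroup.centralizer_closure]
  have e : (Cn x).relIndex (Subgroup.normalizer (H : Set G)) =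
      Nat.card H.normalizerMonoidHom.range := by
    rw [← Subgroup.index_ker, Subgroup.normalizerMonoidHom_ker, hC]
    rfl
  rw [e]
  haveI : IsCyclic (ZMod (Nat.card H))ˣ := by
    rw [hH, Nat.card_zpowers, ho]; infer_instance
  haveI : IsCyclic H := by rw [hH]; exact Subgroup.isCyclic_zpowers x
  haveI : IsCyclic (MulAut H) :=
    isCyclic_of_surjective _ (IsCyclic.mulAutMulEquiv H).symm.surjective
  obtain ⟨⟨g, n, hn⟩, hg⟩ := IsCyclic.exists_ofOrder_eq_natCard (α := H.normalizerMonoidHom.range)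
  rw [← hg]
  refine orderOf_dvd_of_pow_eq_one (Subtype.ext ?_)
  show g ^ 6 = 1
  rw [← hn, ← map_pow, ← MonoidHom.mem_ker, Subgroup.normalizerMonoidHom_ker, Subgroup.mem_subgroupOf,
    hC]
  exact h _ n.2

/-- the facts about the primes dividing the sixth factor, for groups embedded in degree seven -/
theorem six_of_hom {G F : Type*} [Group G] [Finite G] [Field F] [Finite F]
    (f : G →* GL (Fin 7) F) (hf : Function.Injective f) {p : ℕ} [Fact p.Prime] (h2 : p ≠ 2) (h3 : p ≠ 3)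
    (hq : (Nat.card F : ZMod p) ^ 2 - Nat.card F + 1 = 0) {x : G} (ho : orderOf x = p) :
    IsMulCommutative ↥(Cn x) ∧
      (Cn x).relIndex (Subgroup.normalizer ((Subgroup.zpowers x : Subgroup G) : Set G)) ∣ 6 := by
  classical
  obtain ⟨r, hr⟩ := CharP.exists F
  haveI : Fact r.Prime := ⟨CharP.char_is_prime F r⟩
  let L := FiniteField.Extension F r 6
  let b : Module.Basis (Fin 6) F L :=
    Module.finBasisOfFinrankEq F L (FiniteField.finrank_extension F r 6)
  have hL : Nat.card L = Nat.card F ^ 6 := FiniteField.natCard_extension F r 6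
  haveI : Finite L := Nat.finite_of_card_ne_zero (by rw [hL]; exact pow_ne_zero _ Nat.card_pos.ne')
  let R : (Matrix (Fin 6 ⊕ Fin 1) (Fin 6 ⊕ Fin 1) F)ˣ ≃* GL (Fin 7) F :=
    Units.mapEquiv (Matrix.reindexAlgEquiv F F finSumFinEquiv).toMulEquiv
  have hp : p.Prime := Fact.out
  have hdvd : p ∣ Nat.card Lˣ := by
    rw [Nat.card_units, hL, ← ZMod.natCast_eq_zero_iff, Nat.cast_sub (Nat.one_le_pow _ _ Nat.card_pos),
      Nat.cast_pow, Nat.cast_one]
    set q := (Nat.card F : ZMod p)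
    linear_combination (q + 1) * (q ^ 3 - 1) * hq
  obtain ⟨ξu, hξu⟩ := exists_prime_orderOf_dvd_card' p hdvd
  set Au : (Matrix (Fin 6 ⊕ Fin 1) (Fin 6 ⊕ Fin 1) F)ˣ := Units.map (blockA b) ξu with hAu
  have hAuo : orderOf Au = p := by
    rw [hAu, orderOf_injective _ (Units.map_injective (blockA_inj b)), hξu]
  obtain ⟨g, hg⟩ := conj_of_cyclic_sylow (isCyclic_sylow_GL_seven F h2 h3 hq)
    (show orderOf (f x) = p by rw [orderOf_injective f hf, ho])
    (show orderOf (R Au) = p by rw [MulEquiv.orderOf_eq, hAuo])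
  set φ : G →* (Matrix (Fin 6 ⊕ Fin 1) (Fin 6 ⊕ Fin 1) F)ˣ :=
    R.symm.toMonoidHom.comp ((MulAut.conj g).toMonoidHom.comp f) with hφ
  have hφi : Function.Injective φ :=
    R.symm.injective.comp ((MulAut.conj g).injective.comp hf)
  have hR : R (φ x) = g * f x * g⁻¹ := R.apply_symm_apply _
  obtain ⟨i, hi⟩ : ∃ i : ℤ, φ x ^ i = Au := by
    obtain ⟨i, hi⟩ := Subgroup.mem_zpowers_iff.1 (hg.symm ▸ Subgroup.mem_zpowers (R Au) :
      R Au ∈ Subgroup.zpowers (g * f x * g⁻¹))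
    exact ⟨i, R.injective (by rw [map_zpow, hR, hi])⟩
  obtain ⟨i', hi'⟩ : ∃ i' : ℤ, Au ^ i' = φ x := by
    obtain ⟨i', hi'⟩ := Subgroup.mem_zpowers_iff.1 (hg ▸ Subgroup.mem_zpowers (g * f x * g⁻¹) :
      g * f x * g⁻¹ ∈ Subgroup.zpowers (R Au))
    exact ⟨i', R.injective (by rw [map_zpow, hR, hi'])⟩
  obtain ⟨hcomm, hexp⟩ := block_facts b hL h2 h3 hq (ξ := (ξu : L))
    (by rw [orderOf_units, hξu])
  have hcA : ∀ u ∈ Cn x, ((φ u : (Matrix (Fin 6 ⊕ Fin 1) (Fin 6 ⊕ Fin 1) F)ˣ) :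
      Matrix (Fin 6 ⊕ Fin 1) (Fin 6 ⊕ Fin 1) F) * blockA b ξu = blockA b ξu * φ u := by
    intro u hu
    have h : Commute (φ u) Au := by
      rw [← hi]
      exact ((show Commute u x from mem_Cn.1 hu).map φ).zpow_right i
    exact congrArg Units.val h.eq
  refine ⟨⟨⟨fun u v => Subtype.ext (hφi ?_)⟩⟩, relIndex_six ho fun n hn => ?_⟩
  · show φ ((u : G) * v) = φ ((v : G) * u)
    rw [map_mul, map_mul]
    exact Units.ext (hcomm _ _ (hcA u u.2) (hcA v v.2))
  · obtain ⟨j, hj⟩ : ∃ j : ℕ, x ^ j = n * x * n⁻¹ := by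
      have := (Subgroup.mem_normalizer_iff.1 hn x).1 (Subgroup.mem_zpowers x)
      exact mem_powers_iff_mem_zpowers.2 this
    have hjA : φ n * Au * (φ n)⁻¹ = Au ^ j := by
      rw [← hi, ← conj_zpow, ← map_inv, ← map_mul, ← map_mul, ← hj, map_pow, ← zpow_natCast,
        ← zpow_natCast, ← _root_.zpow_mul, ← _root_.zpow_mul, mul_comm]
    have h6 : ξu ^ j ^ 6 = ξu := by
      refine Units.ext ?_
      rw [Units.val_pow_eq_pow_val]
      refine hexp j ⟨φ n, Units.isUnit _, ?_⟩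
      rw [mul_inv_eq_iff_eq_mul] at hjA
      have := congrArg Units.val hjA
      simpa [hAu] using this
    have hiter : ∀ k : ℕ, n ^ k * x * (n ^ k)⁻¹ = x ^ j ^ k := by
      intro k
      induction k with
      | zero => simp
      | succ k ih =>
        rw [pow_succ n, show n ^ k * n * x * (n ^ k * n)⁻¹ = n ^ k * (n * x * n⁻¹) * (n ^ k)⁻¹ by group,
          ← hj, ← conj_pow, ih, ← pow_mul, pow_succ]
    refine mem_Cn_conj.2 ((hiter 6).trans (hφi ?_))
    rw [map_pow, ← hi', ← zpow_natCast, ← _root_.zpow_mul, mul_comm, _root_.zpow_mul, zpow_natCast, hAu, ← map_pow,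
      h6]

end Ree

namespace G22

variable {K : Type*} [Field K] [Fintype K] [CharP K 3] {σ : K →+* K}

/-- the unipotent subgroup of the group -/
noncomputable def UF : Subgroup ↥(tw σ).fix :=
  (chevG2.posUnipotent K ⊓ (tw σ).fix).subgroupOf (tw σ).fix

/-- the torus of the group -/
noncomputable def HF : Subgroup ↥(tw σ).fix :=
  (chevG2.diagonalSubgroup K ⊓ (tw σ).fix).subgroupOf (tw σ).fix

lemma mem_UF {u : ↥(tw σ).fix} :
    u ∈ (UF (σ := σ)) ↔ (u : GL chevG2.Idx K) ∈ chevG2.posUnipotent K ⊓ (tw σ).fix :=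
  Subgroup.mem_subgroupOf

lemma mem_HF {u : ↥(tw σ).fix} :
    u ∈ (HF (σ := σ)) ↔ (u : GL chevG2.Idx K) ∈ chevG2.diagonalSubgroup K ⊓ (tw σ).fix :=
  Subgroup.mem_subgroupOf

lemma U_inf_H {u : GL chevG2.Idx K} (hu : u ∈ chevG2.posUnipotent K ⊓ (tw σ).fix)
    (hh : u ∈ chevG2.diagonalSubgroup K ⊓ (tw σ).fix) (hi : Inv3 σ) : u = 1 := by
  have h1 := orderOf_dvd_natCard (⟨u, hu⟩ : ↥(chevG2.posUnipotent K ⊓ (tw σ).fix))
  have h2 := orderOf_dvd_natCard (⟨u, hh⟩ : ↥(chevG2.diagonalSubgroup K ⊓ (tw σ).fix))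
  rw [Subgroup.orderOf_mk, (orders hi (q := Fintype.card K) rfl).1] at h1
  rw [Subgroup.orderOf_mk, card_diag hi] at h2
  have hq := Fintype.one_lt_card (α := K)
  have hc : Nat.Coprime (Fintype.card K ^ 3) (Fintype.card K - 1) := by
    refine Nat.Coprime.pow_left 3 ?_
    rw [Nat.coprime_comm, Nat.coprime_self_sub_left (by omega)]
    exact Nat.coprime_one_left _
  exact orderOf_eq_one_iff.1 (Nat.dvd_one.1 (hc.gcd_eq_one ▸ Nat.dvd_gcd h1 h2))

lemma cube_exists (t u v : K) : ∃ q : Co K, W (quad σ t u v) ^ 3 = W q ∧ q.b = 0 := by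
  rw [pow_succ, pow_succ, pow_one, quad, W_mul, W_mul]
  exact ⟨_, rfl, by linear_combination t * three (K := K)⟩

/-- the elements of order prime to six in a product with a group of order two -/
lemma prod_two {C P : Type*} [Group C] [Group P] (e : C ≃* Multiplicative (ZMod 2) × P) {y : C}
    (hy : Odd (orderOf y)) : (e y).1 = 1 ∧ orderOf (e y).2 = orderOf y := by
  have h1 : orderOf (e y).1 ∣ orderOf y := by
    have := orderOf_map_dvd ((MonoidHom.fst _ _).comp e.toMonoidHom) y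
    simpa using this
  have h2 : orderOf (e y).1 ∣ 2 := by
    simpa using orderOf_dvd_natCard (e y).1
  have e1 : (e y).1 = 1 := orderOf_eq_one_iff.1
    (Nat.dvd_one.1 ((Nat.coprime_two_right.2 hy).gcd_eq_one ▸ Nat.dvd_gcd h1 h2))
  refine ⟨e1, ?_⟩
  rw [← MulEquiv.orderOf_eq e y, show e y = ((1 : Multiplicative (ZMod 2)), (e y).2) from Prod.ext e1 rfl]
  simp [Prod.orderOf]

lemma cent_prod {G P : Type*} [Group G] [Group P] {a y : G} (e : ↥(Ree.Cn a) ≃* Multiplicative (ZMod 2) × P)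
    (hy : y ∈ Ree.Cn a) :
    Nonempty (↥(Ree.Cn a ⊓ Ree.Cn y) ≃* Multiplicative (ZMod 2) × ↥(Subgroup.centralizer {(e ⟨y, hy⟩).2})) := by
  have key : ∀ u : ↥(Ree.Cn a), (u : G) ∈ Ree.Cn y ↔ (e u).2 ∈ Subgroup.centralizer {(e ⟨y, hy⟩).2} := by
    intro u
    rw [Ree.mem_Cn, Subgroup.mem_centralizer_singleton_iff]
    constructor
    · intro h
      have := congrArg (fun w => (e w).2) (show u * ⟨y, hy⟩ = ⟨y, hy⟩ * u from Subtype.ext h)
      simpa using this
    · intro h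
      have : u * ⟨y, hy⟩ = ⟨y, hy⟩ * u := e.injective (by
        rw [map_mul, map_mul]
        exact Prod.ext (mul_comm _ _) h)
      exact congrArg Subtype.val this
  refine ⟨{ toFun := fun u => ((e ⟨u.1, u.2.1⟩).1, ⟨(e ⟨u.1, u.2.1⟩).2, (key _).1 u.2.2⟩)
            invFun := fun p => ⟨(e.symm (p.1, p.2.1) : ↥(Ree.Cn a)), (e.symm _).2, (key _).2 (by
              rw [e.apply_symm_apply]; exact p.2.2)⟩
            left_inv := fun u => Subtype.ext (by simp)
            right_inv := fun p => by simp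
            map_mul' := fun u v => ?_ }⟩
  simp only [show (⟨((u * v : ↥(Ree.Cn a ⊓ Ree.Cn y)) : G), (u * v).2.1⟩ : ↥(Ree.Cn a)) =
    ⟨u.1, u.2.1⟩ * ⟨v.1, v.2.1⟩ from rfl, map_mul]
  rfl

/-- the data of a small Ree group -/
noncomputable def reeSys {m : ℕ} (hm : 1 ≤ m) (hK : Fintype.card K = 3 ^ (2 * m + 1)) (hi : Inv3 σ)
    (h4 : Fintype.card K % 4 = 3) : Ree.Sys ↥(tw σ).fix m :=
  have : Finite (GL chevG2.Idx K) := finite_GL
  have hfin : Finite ↥(tw σ).fix := inferInstance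
  have hq27 : 27 ≤ Fintype.card K := hK ▸ Ree.q_ge hm
  have hNK : Nat.card K = Fintype.card K := Nat.card_eq_fintype_card
  have hodd : Odd (Nat.card K) := Nat.odd_iff.2 (by omega)
  have haH : aF hi ∈ (HF (σ := σ)) := mem_HF.2 (by rw [← hR_range hi]; exact ⟨_, rfl⟩)
  have hcardU : Nat.card (UF (σ := σ)) = Fintype.card K ^ 3 := by
    rw [UF, Nat.card_congr (Subgroup.subgroupOfEquivOfLe inf_le_right).toEquiv, (orders hi rfl).1]
  have hcardH : Nat.card (HF (σ := σ)) = Fintype.card K - 1 := by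
    rw [HF, Nat.card_congr (Subgroup.subgroupOfEquivOfLe inf_le_right).toEquiv, card_diag hi]
  have hUH : ∀ {t}, t ∈ (HF (σ := σ)) → ∀ {u}, u ∈ (UF (σ := σ)) → t * u * t⁻¹ ∈ (UF (σ := σ)) :=
    fun ht _ hu => mem_UF.2 (tor_conj_U hi (mem_HF.1 ht) (mem_UF.1 hu))
  have hfixconj : ∀ {y : Kˣ} {u : GL chevG2.Idx K}, u ∈ chevG2.posUnipotent K ⊓ (tw σ).fix →
      hR σ y * u * (hR σ y)⁻¹ = u → u = 1 ∨ y = 1 ∨ y = -1 := by
    intro y u hu h
    obtain ⟨t, u, v, rfl⟩ := (pos_eq hi u).1 hu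
    by_cases h0 : (t, u, v) = 0
    · simp only [Prod.mk_eq_zero] at h0
      exact Or.inl (by rw [h0.1, h0.2.1, h0.2.2, W_zero])
    · rw [hR_conj_W] at h
      exact Or.inr (cent_le hi h0 (W_inj h))
  have hswap : ∀ {t : GL chevG2.Idx K}, t ∈ chevG2.diagonalSubgroup K ⊓ (tw σ).fix →
      (tw σ).nJ 0 * t * ((tw σ).nJ 0)⁻¹ = t⁻¹ := by
    intro t ht
    rw [← hR_range hi] at ht
    obtain ⟨y, rfl⟩ := ht
    rw [nJ_hR, map_inv]
  have hsq : ∀ {h : ↥(tw σ).fix}, h ∈ (HF (σ := σ)) → h * h ≠ 1 →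
      ∃ y : Kˣ, (h : GL chevG2.Idx K) = hR σ y ∧ y ≠ 1 ∧ y ≠ -1 := by
    intro h hh h2
    have := mem_HF.1 hh
    rw [← hR_range hi] at this
    obtain ⟨y, hy⟩ := this
    refine ⟨y, hy.symm, ?_, ?_⟩ <;> rintro rfl <;>
      exact h2 (Subtype.ext (by rw [Subgroup.coe_mul, ← hy, ← map_mul]; simp))
  have hcommH : ∀ {s t : GL chevG2.Idx K}, s ∈ chevG2.diagonalSubgroup K ⊓ (tw σ).fix →
      t ∈ chevG2.diagonalSubgroup K ⊓ (tw σ).fix → s * t = t * s := by
    intro s t hs ht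
    rw [← hR_range hi] at hs ht
    obtain ⟨y, rfl⟩ := hs
    obtain ⟨z, rfl⟩ := ht
    rw [← map_mul, ← map_mul, mul_comm]
  -- an element moving a regular element of the torus into the torus
  have move : ∀ {h h' g : ↥(tw σ).fix}, h ∈ (HF (σ := σ)) → h' ∈ (HF (σ := σ)) → h' * h' ≠ 1 →
      h * h ≠ 1 → g * h * g⁻¹ = h' →
      (g ∈ (HF (σ := σ)) ∧ h' = h) ∨
      ((g : GL chevG2.Idx K) ∈ {z | ∃ t ∈ chevG2.diagonalSubgroup K ⊓ (tw σ).fix, z = (tw σ).nJ 0 * t} ∧
        h' = h⁻¹) := by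
    intro h h' g hh hh' hh'2 hh2 hg
    obtain ⟨y', hy', hy'1, hy'2⟩ := hsq hh' hh'2
    obtain ⟨y, hy, hy1, hy2⟩ := hsq hh hh2
    have hh0 := mem_HF.1 hh
    have hh0' := mem_HF.1 hh'
    have hgG : (g : GL chevG2.Idx K) * h = h' * g := by
      rw [← hg, Subgroup.coe_mul, Subgroup.coe_mul, Subgroup.coe_inv, inv_mul_cancel_right]
    set a := (h : GL chevG2.Idx K)
    set a' := (h' : GL chevG2.Idx K)
    set n := (tw σ).nJ 0 with hn
    rcases cells hi g.2 with ⟨u, hu, t, ht, e⟩ | ⟨u, hu, t, ht, v, hv, e⟩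
    · left
      rw [e] at hgG
      have hu' := tor_conj_U hi hh0' hu
      have key : (a' * u * a'⁻¹)⁻¹ * u = a' * a⁻¹ := by
        calc (a' * u * a'⁻¹)⁻¹ * u = a' * u⁻¹ * a'⁻¹ * (u * (t * a) * a⁻¹ * t⁻¹) := by group
          _ = a' * u⁻¹ * a'⁻¹ * ((u * t * a) * a⁻¹ * t⁻¹) := by group
          _ = a' * u⁻¹ * a'⁻¹ * (a' * (u * t) * a⁻¹ * t⁻¹) := by rw [hgG]
          _ = a' * (t * a⁻¹) * t⁻¹ := by group
          _ = a' * (a⁻¹ * t) * t⁻¹ := by rw [hcommH ht (inv_mem hh0)]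
          _ = a' * a⁻¹ := by group
      have h1 := U_inf_H (mul_mem (inv_mem hu') hu) (key ▸ mul_mem hh0' (inv_mem hh0)) hi
      have haa : h' = h := Subtype.ext (mul_inv_eq_one.1 (key.symm.trans h1))
      rw [inv_mul_eq_one] at h1
      rw [hy'] at h1
      rcases hfixconj hu (by rw [← hy']; exact (inv_mul_eq_one.1 (by rw [← hy'] at h1; rw [h1, inv_mul_cancel]))) with rfl | h0 | h0
      · exact ⟨mem_HF.2 (by rw [e, one_mul]; exact ht), haa⟩
      · exact absurd h0 hy'1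
      · exact absurd h0 hy'2
    · right
      rw [e] at hgG
      have hu' := tor_conj_U hi hh0' hu
      have hv' := tor_conj_U hi (inv_mem hh0) hv
      have hinv : a' * n = n * a'⁻¹ := by
        have hn2 : n * n = 1 := nJ_sq
        rw [← hswap hh0', ← mul_assoc, ← mul_assoc, hn2, one_mul, hn, nJ_inv]
      have e2 : u * n * (t * a) * (a⁻¹ * v * a⁻¹⁻¹) = a' * u * a'⁻¹ * n * (a'⁻¹ * t) * v := by
        calc u * n * (t * a) * (a⁻¹ * v * a⁻¹⁻¹) = u * n * t * v * a := by group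
          _ = a' * (u * n * t * v) := hgG
          _ = a' * u * a'⁻¹ * (a' * n) * t * v := by group
          _ = _ := by rw [hinv]; group
      have hmem : n * ((a' * u * a'⁻¹)⁻¹ * u) * n⁻¹ ∈ chevG2.borelSubgroup K := by
        have e3 : n⁻¹ * ((a' * u * a'⁻¹)⁻¹ * u) * n =
            a'⁻¹ * t * v * (a⁻¹ * v * a⁻¹⁻¹)⁻¹ * (t * a)⁻¹ := by
          have := congrArg (fun z => n⁻¹ * (a' * u * a'⁻¹)⁻¹ * z * (a⁻¹ * v * a⁻¹⁻¹)⁻¹ * (t * a)⁻¹) e2
          rw [show n⁻¹ * (a' * u * a'⁻¹)⁻¹ * (u * n * (t * a) * (a⁻¹ * v * a⁻¹⁻¹)) *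
              (a⁻¹ * v * a⁻¹⁻¹)⁻¹ * (t * a)⁻¹ = n⁻¹ * ((a' * u * a'⁻¹)⁻¹ * u) * n by group,
            show n⁻¹ * (a' * u * a'⁻¹)⁻¹ * (a' * u * a'⁻¹ * n * (a'⁻¹ * t) * v) *
              (a⁻¹ * v * a⁻¹⁻¹)⁻¹ * (t * a)⁻¹ =
              a'⁻¹ * t * v * (a⁻¹ * v * a⁻¹⁻¹)⁻¹ * (t * a)⁻¹ by group] at this
          exact this
        rw [hn, nJ_inv, ← hn] at e3
        rw [hn, nJ_inv, ← hn, e3]
        exact mul_mem (mul_mem (mul_mem (mul_mem (inv_mem (diag_le_borel hh0'.1)) (diag_le_borel ht.1))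
          (pos_le_borel hv.1)) (inv_mem (pos_le_borel hv'.1)))
          (inv_mem (mul_mem (diag_le_borel ht.1) (diag_le_borel hh0.1)))
      have hu1 := eq_one_of_opposite hi (mul_mem (inv_mem hu') hu) hmem
      rw [inv_mul_eq_one] at hu1
      obtain rfl : u = 1 := by
        rcases hfixconj hu (by rw [← hy']; exact hu1) with h0 | h0 | h0
        exacts [h0, absurd h0 hy'1, absurd h0 hy'2]
      rw [show a' * 1 * a'⁻¹ = 1 by group, one_mul] at e2
      have key : v * (a⁻¹ * v * a⁻¹⁻¹)⁻¹ = a' * a := by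
        have e4 : t * a * (a⁻¹ * v * a⁻¹⁻¹) = a'⁻¹ * t * v := by
          simp only [mul_assoc] at e2
          have := mul_left_cancel e2
          simpa [mul_assoc] using this
        calc v * (a⁻¹ * v * a⁻¹⁻¹)⁻¹ =
              t⁻¹ * a' * (a'⁻¹ * t * v) * (a⁻¹ * v * a⁻¹⁻¹)⁻¹ := by group
          _ = t⁻¹ * a' * (t * a * (a⁻¹ * v * a⁻¹⁻¹)) * (a⁻¹ * v * a⁻¹⁻¹)⁻¹ := by rw [e4]
          _ = t⁻¹ * (a' * t) * a := by group
          _ = t⁻¹ * (t * a') * a := by rw [hcommH hh0' ht]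
          _ = a' * a := by group
      have h1 := U_inf_H (mul_mem hv (inv_mem hv')) (key ▸ mul_mem hh0' hh0) hi
      have haa : h' = h⁻¹ := Subtype.ext (eq_inv_of_mul_eq_one_left (key.symm.trans h1))
      rw [mul_inv_eq_one] at h1
      obtain rfl : v = 1 := by
        rcases hfixconj (y := y⁻¹) hv (by rw [map_inv, ← hy]; exact h1.symm) with h0 | h0 | h0
        · exact h0
        · exact absurd (inv_eq_one.1 h0) hy1
        · exact absurd (by rw [← inv_inv y, h0, inv_neg_one]) hy2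
      exact ⟨⟨t, ht, by rw [e, one_mul, mul_one]⟩, haa⟩
  { a := aF hi
    U := UF (σ := σ)
    H := HF (σ := σ)
    hm := hm
    card := by
      rw [(orders hi (q := Fintype.card K) rfl).2, Ree.gOrd, Ree.qq, hK]
    syl2 := fun P => ⟨(sylow_two hK hi P).1, (sylow_two hK hi P).2, sylow_two_norm hK h4 hi P⟩
    cyc := fun p _ hp P => sylow_cyclic hK hi hp P
    ha1 := fun e => aR_ne_one (congrArg Subtype.val e)
    ha2 := aF_sq hi
    inv_conj := fun x hx hx1 => by
      have : Fact (Nat.Prime 2) := ⟨Nat.prime_two⟩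
      obtain ⟨E, hE⟩ := exists_syl hK hi
      obtain ⟨Q, hQ⟩ := (IsPGroup.of_card (p := 2) (n := 1) (G := Subgroup.zpowers x)
        (by rw [Nat.card_zpowers, orderOf_eq_prime (by rw [sq, hx]) hx1, pow_one])).exists_le_sylow
      obtain ⟨g, rfl⟩ := MulAction.exists_smul_eq ↥(tw σ).fix E Q
      have hm' := hQ (Subgroup.mem_zpowers x)
      rw [Sylow.coe_subgroup_smul, hE] at hm'
      obtain ⟨u, hu, hux⟩ := hm'
      have hux' : g * u * g⁻¹ = x := hux
      obtain ⟨P, rfl⟩ := conj_a hi hu (fun e => hx1 (by rw [← hux', e]; group))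
      exact ⟨g * P⁻¹, by rw [← hux']; group⟩
    card_Ca := by
      obtain ⟨e⟩ := cent_iso hi h4
      rw [Ree.Cn, Nat.card_congr e.toEquiv, Nat.card_prod, Ree.qq, ← hK]
      simpa using card_PSL h4
    cTorus := fun p hp hp2 hd y hy ho => by
      obtain ⟨e⟩ := cent_iso hi h4
      obtain ⟨f⟩ := cent_prod e hy
      obtain ⟨-, hyo⟩ := prod_two e (y := (⟨y, hy⟩ : ↥(Ree.Cn (aF hi))))
        (by rw [Subgroup.orderOf_mk, ho]; exact hp.odd_of_ne_two hp2)
      rw [Subgroup.orderOf_mk, ho] at hyo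
      rw [Ree.qq, ← hK, ← hNK] at hd ⊢
      obtain ⟨hc, hcard⟩ := Ree.psl_cent_odd hodd hp hp2 hyo hd
      refine ⟨⟨⟨fun u v => f.injective ?_⟩⟩, ?_⟩
      · rw [map_mul, map_mul]
        exact Prod.ext (mul_comm _ _) (hc.is_comm.comm _ _)
      · rw [Nat.card_congr f.toEquiv, Nat.card_prod, ← hcard]
        simp
    cFour := fun b hb hb2 hb1 hba => by
      obtain ⟨e⟩ := cent_iso hi h4
      obtain ⟨f⟩ := cent_prod e hb
      set x := (e ⟨b, hb⟩).2 with hx
      have hb' : (⟨b, hb⟩ : ↥(Ree.Cn (aF hi))) * ⟨b, hb⟩ = 1 := Subtype.ext hb2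
      have hx2 : x * x = 1 := by
        rw [hx, ← Prod.snd_mul, ← map_mul, hb', map_one]; rfl
      have hx1 : x ≠ 1 := by
        intro hx1
        let A : ↥(Ree.Cn (aF hi)) := ⟨aF hi, Ree.mem_Cn.2 rfl⟩
        have hAc : ∀ u, A * u = u * A := fun u => Subtype.ext (Ree.mem_Cn.1 u.2).symm
        have hA2 : A * A = 1 := Subtype.ext (aF_sq hi)
        have hA1 : A ≠ 1 := fun e' => aR_ne_one (congrArg Subtype.val (congrArg Subtype.val e'))
        have hAx : (e A).2 = 1 := by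
          by_contra hne
          have hcen := Ree.psl_cent_two (by rw [hNK]; exact h4) hne
            (by rw [← Prod.snd_mul, ← map_mul, hA2, map_one]; rfl)
          have htop : Subgroup.centralizer {(e A).2} = ⊤ := by
            refine eq_top_iff.2 fun z _ => Subgroup.mem_centralizer_singleton_iff.2 ?_
            have := congrArg (fun w => (e w).2) (hAc (e.symm (1, z)))
            simpa using this.symm
          rw [htop, Subgroup.card_top, hNK] at hcen
          have h := card_PSL (K := K) h4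
          rw [hcen] at h
          have h26 : 26 ≤ Fintype.card K - 1 := by omega
          have : 2 * (Fintype.card K + 1) < Fintype.card K * (Fintype.card K - 1) * (Fintype.card K + 1) :=
            Nat.mul_lt_mul_of_pos_right (by nlinarith) (by omega)
          omega
        have hz : ∀ {w : ↥(Ree.Cn (aF hi))}, (e w).2 = 1 → w ≠ 1 →
            e w = ((Multiplicative.ofAdd 1 : Multiplicative (ZMod 2)), 1) := fun {w} h h1 =>
          Prod.ext ((zmod2_cases _).resolve_left fun h' => h1 (e.injective (by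
            rw [map_one]; exact Prod.ext h' h))) h
        exact hba (congrArg Subtype.val (e.injective
          ((hz (w := ⟨b, hb⟩) (hx ▸ hx1) (fun h => hb1 (congrArg Subtype.val h))).trans (hz hAx hA1).symm)))
      rw [Nat.card_congr f.toEquiv, Nat.card_prod, Ree.qq, ← hK, ← hNK,
        Ree.psl_cent_two (by rw [hNK]; exact h4) hx1 hx2]
      simp
    cardU := by rw [hcardU, Ree.qq, hK]
    ti := fun g w z hw hw1 hgw hz => mem_UF.2 (U_ti hi g.2 (mem_UF.1 hw)
      (fun e => hw1 (Subtype.ext e)) (mem_UF.1 hgw) (mem_UF.1 hz))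
    normU := fun g => by
      constructor
      · intro hg
        rcases cells hi g.2 with ⟨u, hu, t, ht, e⟩ | ⟨u, hu, t, ht, v, hv, e⟩
        · exact ⟨⟨u, hu.2⟩, mem_UF.2 hu, ⟨t, ht.2⟩, mem_HF.2 ht, Subtype.ext e⟩
        · exfalso
          haveI : Nontrivial (UF (σ := σ)) := by
            rw [← Finite.one_lt_card_iff_nontrivial, hcardU]
            exact Nat.one_lt_pow (by norm_num) (by omega)
          obtain ⟨⟨w, hw⟩, hw1⟩ := exists_ne (1 : UF (σ := σ))
          have hw' := mem_UF.1 ((Subgroup.mem_normalizer_iff.1 hg w).1 hw)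
          rw [Subgroup.coe_mul, Subgroup.coe_mul, Subgroup.coe_inv, e] at hw'
          have hx := tor_conj_U hi ht (mul_mem (mul_mem hv (mem_UF.1 hw)) (inv_mem hv))
          have h1 : (tw σ).nJ 0 * (t * (v * w * v⁻¹) * t⁻¹) * ((tw σ).nJ 0)⁻¹ ∈
              chevG2.borelSubgroup K := by
            have := mul_mem (mul_mem (inv_mem hu) hw') hu
            rw [show u⁻¹ * (u * (tw σ).nJ 0 * t * v * w * (u * (tw σ).nJ 0 * t * v)⁻¹) * u =
              (tw σ).nJ 0 * (t * (v * w * v⁻¹) * t⁻¹) * ((tw σ).nJ 0)⁻¹ by group] at this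
            exact pos_le_borel this.1
          have h2 := eq_one_of_opposite hi hx h1
          rw [mul_inv_eq_one, mul_eq_left, mul_inv_eq_one, mul_eq_left] at h2
          exact hw1 (Subtype.ext (Subtype.ext h2))
      · rintro ⟨u, hu, h, hh, rfl⟩
        refine mul_mem (Subgroup.le_normalizer hu) (Subgroup.mem_normalizer_iff.2 fun z => ?_)
        exact ⟨fun hz => hUH hh hz, fun hz => by
          have := hUH (inv_mem hh) hz
          simpa [mul_assoc] using this⟩
    exp9 := fun u hu => by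
      obtain ⟨t, a, b, e⟩ := (pos_eq hi _).1 (mem_UF.1 hu)
      refine Subtype.ext ?_
      rw [SubmonoidClass.coe_pow, show (9 : ℕ) = 3 * 3 by norm_num, pow_mul, ← e]
      obtain ⟨c, h3, hb⟩ := cube_exists (σ := σ) t a b
      have hmem : W (quad σ t a b) ^ 3 ∈ chevG2.posUnipotent K ⊓ (tw σ).fix :=
        pow_mem ((pos_eq hi _).2 ⟨t, a, b, rfl⟩) 3
      obtain ⟨t', a', b', e'⟩ := (pos_eq hi _).1 hmem
      rw [h3] at e'
      obtain rfl : t' = 0 := (congrArg Co.b (W_inj e')).trans hb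
      rw [h3, ← e', W_cube_zero]
      rfl
    count3 := by
      rw [Ree.qq, ← hK, ← count_three (σ := σ) hi]
      exact Nat.card_congr ((Subgroup.subgroupOfEquivOfLe inf_le_right).toEquiv.subtypeEquiv fun u => by
        show orderOf u = 3 ↔ orderOf (Subgroup.subgroupOfEquivOfLe
          (inf_le_right : chevG2.posUnipotent K ⊓ (tw σ).fix ≤ _) u) = 3
        exact Iff.of_eq (congrArg (· = 3) (MulEquiv.orderOf_eq _ u).symm))
    cardUa := by
      rw [Ree.qq, ← hK, ← hNK]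
      let F : K → ↥(UF (σ := σ) ⊓ Ree.Cn (aF hi)) := fun s =>
        ⟨⟨_, W_quad_fix hi 0 s 0⟩, mem_UF.2 ((pos_eq hi _).2 ⟨0, s, 0, rfl⟩),
          Ree.mem_Cn.2 (Subtype.ext (aR_W s).symm)⟩
      refine (Nat.card_congr (Equiv.ofBijective F ⟨fun s s' h => ?_, ?_⟩)).symm
      · exact congrArg Co.f (W_inj (congrArg (fun z : ↥(UF (σ := σ) ⊓ Ree.Cn (aF hi)) =>
          ((z : ↥(tw σ).fix) : GL chevG2.Idx K)) h))
      · rintro ⟨u, hu, hua⟩
        obtain ⟨s, hs⟩ := fixed_U hi (mem_UF.1 hu) (by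
          rw [mul_inv_eq_iff_eq_mul]
          exact congrArg Subtype.val (Ree.mem_Cn.1 hua).symm)
        exact ⟨s, Subtype.ext (Subtype.ext hs.symm)⟩
    cubeUa := fun u hu => by
      obtain ⟨s, hs⟩ := fixed_U hi (mem_UF.1 hu.1) (by
        rw [mul_inv_eq_iff_eq_mul]
        exact congrArg Subtype.val (Ree.mem_Cn.1 hu.2).symm)
      exact Subtype.ext (by rw [SubmonoidClass.coe_pow, hs, W_cube_zero]; rfl)
    hcyc := by
      haveI : IsCyclic ↥(chevG2.diagonalSubgroup K ⊓ (tw σ).fix) := by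
        rw [← hR_range hi]
        exact isCyclic_of_surjective _ (MonoidHom.rangeRestrict_surjective _)
      exact isCyclic_of_surjective _
        (Subgroup.subgroupOfEquivOfLe (inf_le_right : chevG2.diagonalSubgroup K ⊓ (tw σ).fix ≤ _)).symm.surjective
    cardH := by rw [hcardH, Ree.qq, hK]
    haH := haH
    hCent := fun h hh h2 => by
      refine le_antisymm (fun g hg => ?_) (fun g hg => Ree.mem_Cn.2 (Subtype.ext
        (hcommH (mem_HF.1 hg) (mem_HF.1 hh))))
      rcases move hh hh h2 h2 (Ree.mem_Cn_conj.1 hg) with h' | h'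
      · exact h'.1
      · exact absurd (by rw [eq_inv_iff_mul_eq_one] at h'; exact h'.2) h2
    hNorm := by
      rw [Ree.qq, ← hK, ← hcardH]
      set N := Subgroup.normalizer ((HF (σ := σ)) : Set ↥(tw σ).fix)
      set n : ↥(tw σ).fix := ⟨(tw σ).nJ 0, (tw σ).nJ_fix (by decide)⟩
      obtain ⟨⟨h, hh⟩, hh2⟩ : ∃ h : HF (σ := σ), (h : ↥(tw σ).fix) * h ≠ 1 := by
        by_contra hno
        push Not at hno
        haveI : IsCyclic ↥(chevG2.diagonalSubgroup K ⊓ (tw σ).fix) := by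
          rw [← hR_range hi]
          exact isCyclic_of_surjective _ (MonoidHom.rangeRestrict_surjective _)
        haveI : IsCyclic (HF (σ := σ)) := isCyclic_of_surjective _
          (Subgroup.subgroupOfEquivOfLe (inf_le_right : chevG2.diagonalSubgroup K ⊓ (tw σ).fix ≤ _)).symm.surjective
        obtain ⟨g, hg⟩ := IsCyclic.exists_ofOrder_eq_natCard (α := HF (σ := σ))
        rw [hcardH] at hg
        have := Nat.le_of_dvd two_pos (orderOf_dvd_of_pow_eq_one (show g ^ 2 = 1 from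
          Subtype.ext (by rw [SubmonoidClass.coe_pow, sq, hno g]; rfl)))
        omega
      have hnN : n ∈ N := by
        refine Subgroup.mem_normalizer_iff.2 fun z => ?_
        constructor
        · intro hz
          exact mem_HF.2 (n_tor_swap hi (mem_HF.1 hz))
        · intro hz
          have := n_tor_swap hi (mem_HF.1 hz)
          rw [Subgroup.coe_mul, Subgroup.coe_mul, Subgroup.coe_inv] at this
          change (tw σ).nJ 0 * ((tw σ).nJ 0 * z * ((tw σ).nJ 0)⁻¹) * ((tw σ).nJ 0)⁻¹ ∈ _ at this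
          rw [nJ_inv, ← mul_assoc, ← mul_assoc, nJ_sq, one_mul, mul_assoc, nJ_sq, mul_one] at this
          exact mem_HF.2 this
      have hnh : n * h * n⁻¹ = h⁻¹ := Subtype.ext (hswap (mem_HF.1 hh))
      have hnH : n ∉ (HF (σ := σ)) := fun hn => hh2 (by
        have : n * h = h * n := Subtype.ext (hcommH (mem_HF.1 hn) (mem_HF.1 hh))
        rw [this, mul_inv_cancel_right, eq_inv_iff_mul_eq_one] at hnh
        exact hnh)
      have hHN : (HF (σ := σ)) ≤ N := Subgroup.le_normalizer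
      have hidx : ((HF (σ := σ)).subgroupOf N).index = 2 := by
        rw [Subgroup.index_eq_two_iff]
        refine ⟨⟨n, hnN⟩, fun z => ?_⟩
        have hzh := (Subgroup.mem_normalizer_iff.1 z.2 h).1 hh
        rcases move hh hzh (fun e => hh2 (conj_eq_one_iff.1 (show (z : ↥(tw σ).fix) * (h * h) * (z : ↥(tw σ).fix)⁻¹ = 1 by
          rw [← e]; group))) hh2 rfl with h' | h'
        · refine Or.inr ⟨Subgroup.mem_subgroupOf.2 h'.1, fun hm' => hnH ?_⟩
          have := mul_mem (inv_mem h'.1) (Subgroup.mem_subgroupOf.1 hm')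
          simpa using this
        · obtain ⟨⟨t, ht, hzt⟩, -⟩ := h'
          refine Or.inl ⟨Subgroup.mem_subgroupOf.2 (mem_HF.2 ?_), fun hm' => hnH ?_⟩
          · show ((z : ↥(tw σ).fix) : GL chevG2.Idx K) * (tw σ).nJ 0 ∈ _
            rw [hzt]
            nth_rw 2 [← nJ_inv]
            exact n_tor_swap hi ht
          · have hzn : (z : ↥(tw σ).fix) = n * ⟨t, ht.2⟩ := Subtype.ext hzt
            have := mul_mem (Subgroup.mem_subgroupOf.1 hm')
              (inv_mem (mem_HF.2 ht : (⟨t, ht.2⟩ : ↥(tw σ).fix) ∈ (HF (σ := σ))))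
            rwa [hzn, mul_inv_cancel_right] at this
      have := ((HF (σ := σ)).subgroupOf N).card_mul_index
      rw [hidx, Nat.card_congr (Subgroup.subgroupOfEquivOfLe hHN).toEquiv, mul_comm] at this
      exact this.symm
    six := fun p hp hpd x ho => by
      haveI : Fact p.Prime := ⟨hp⟩
      haveI : CharP K isoG2.p := ‹CharP K 3›
      let f : ↥(tw σ).fix →* GL (Fin 7) K :=
        (Iso.phi1 (F := K) stdG2.good isoG2_valid).comp (Subgroup.inclusion (tw σ).fix_le_group)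
      have hf : Function.Injective f :=
        (Iso.phi1_inj stdG2 conn_G2 isoG2_valid).comp (Subgroup.inclusion_injective _)
      refine Ree.six_of_hom f hf (fun e => Nat.not_even_iff_odd.2 Ree.odd_pp (even_iff_two_dvd.2 (e ▸ hpd)))
        (fun e => Ree.not_three_pp (e ▸ hpd)) ?_ ho
      rw [hNK, hK, ← Ree.qq]
      have e1 := (ZMod.natCast_eq_zero_iff _ _).2 hpd
      have e2 := congrArg (Nat.cast : ℕ → ZMod p) (Ree.pp_eq (m := m))
      push_cast at e1 e2
      linear_combination e1 - e2 }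

end G22

end CfsgLib.Chev
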