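/-
Invariant biadditive forms on a finite field vanish.
-/
import Mathlib

set_option autoImplicit false

namespace CfsgLib.Chev.InvForm

open scoped TensorProduct

/-- two embeddings of a finite field differ by an automorphism -/
lemma exists_aut {K L : Type*} [Field K] [Fintype K] [Field L] (f g : K →+* L) :
    ∃ φ : K ≃+* K, ∀ x, g x = f (φ x) := by
  classical
  set q := Fintype.card K
  have hq : 1 < q := Fintype.one_lt_card
  have hne : (Polynomial.X ^ q - Polynomial.X : Polynomial L) ≠ 0 :=
    FiniteField.X_pow_card_sub_X_ne_zero L hq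
  have hroot : ∀ h : K →+* L, ∀ x, h x ∈ (Polynomial.X ^ q - Polynomial.X : Polynomial L).roots.toFinset := by
    intro h x
    rw [Multiset.mem_toFinset, Polynomial.mem_roots hne]
    simp [q, ← map_pow, FiniteField.pow_card]
  have himg : Finset.univ.image f = (Polynomial.X ^ q - Polynomial.X : Polynomial L).roots.toFinset := by
    refine Finset.eq_of_subset_of_card_le (fun y hy => ?_) ?_
    · obtain ⟨x, -, rfl⟩ := Finset.mem_image.1 hy
      exact hroot f x
    · rw [Finset.card_image_of_injective _ f.injective, Finset.card_univ]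
      calc _ ≤ Multiset.card (Polynomial.X ^ q - Polynomial.X : Polynomial L).roots := Multiset.toFinset_card_le _
        _ ≤ _ := Polynomial.card_roots' _
        _ = q := FiniteField.X_pow_card_sub_X_natDegree_eq L hq
  have hex : ∀ x, ∃ y, f y = g x := fun x => by
    have := hroot g x
    rw [← himg] at this
    obtain ⟨y, -, hy⟩ := Finset.mem_image.1 this
    exact ⟨y, hy⟩
  choose ψ hψ using hex
  let φ : K →+* K :=
    { toFun := ψ
      map_one' := f.injective (by rw [hψ, map_one, map_one])
      map_mul' := fun a b => f.injective (by rw [hψ, map_mul, map_mul, hψ, hψ])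
      map_zero' := f.injective (by rw [hψ, map_zero, map_zero])
      map_add' := fun a b => f.injective (by rw [hψ, map_add, map_add, hψ, hψ]) }
  exact ⟨RingEquiv.ofBijective φ (Finite.injective_iff_bijective.1 φ.injective), fun x => (hψ x).symm⟩

/-- An invariant biadditive form vanishes when no automorphism pairs the weights to one. -/
theorem eq_zero_of_form {K A : Type*} [Field K] [Fintype K] [AddCommGroup A] (β : K → K → A)
    (h1 : ∀ a a' b, β (a + a') b = β a b + β a' b) (h2 : ∀ a b b', β a (b + b') = β a b + β a b')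
    {ι : Type*} (w₁ w₂ : ι → K) (hinv : ∀ i a b, β (w₁ i * a) (w₂ i * b) = β a b)
    (hne : ∀ φ : K ≃+* K, ∃ i, w₁ i * φ (w₂ i) ≠ 1) (a b : K) : β a b = 0 := by
  classical
  let B : K →+ K →+ A := AddMonoidHom.mk' (fun a => AddMonoidHom.mk' (β a) (h2 a))
    fun a a' => AddMonoidHom.ext fun b => h1 a a' b
  let Φ : K ⊗[ℤ] K →+ A := TensorProduct.liftAddHom B fun r m n => by
    rw [map_zsmul, map_zsmul, AddMonoidHom.zsmul_apply]
  have hΦ : ∀ a b, Φ (a ⊗ₜ b) = β a b := fun a b => rfl
  let J : Ideal (K ⊗[ℤ] K) :=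
    { carrier := {x | ∀ z, Φ (x * z) = 0}
      zero_mem' := fun z => by rw [zero_mul, map_zero]
      add_mem' := fun {x y} hx hy z => by rw [add_mul, map_add, hx z, hy z, add_zero]
      smul_mem' := fun c x hx z => by rw [smul_eq_mul, mul_comm c x, mul_assoc]; exact hx _ }
  set I : Ideal (K ⊗[ℤ] K) := Ideal.span (Set.range fun i => w₁ i ⊗ₜ[ℤ] w₂ i - 1)
  have hIJ : I ≤ J := by
    refine Ideal.span_le.2 ?_
    rintro _ ⟨i, rfl⟩ z
    rw [sub_mul, one_mul, map_sub, sub_eq_zero]
    induction z using TensorProduct.induction_on with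
    | zero => rw [mul_zero]
    | tmul x y => rw [Algebra.TensorProduct.tmul_mul_tmul, hΦ, hΦ, hinv]
    | add x y hx hy => rw [mul_add, map_add, map_add, hx, hy]
  have hI : I = ⊤ := by
    by_contra hI
    obtain ⟨M, hM, hIM⟩ := Ideal.exists_le_maximal I hI
    letI := Ideal.Quotient.field M
    let f : K →+* (K ⊗[ℤ] K) ⧸ M :=
      (Ideal.Quotient.mk M).comp Algebra.TensorProduct.includeLeftRingHom
    let g : K →+* (K ⊗[ℤ] K) ⧸ M :=
      (Ideal.Quotient.mk M).comp (Algebra.TensorProduct.includeRight (R := ℤ) (A := K) (B := K)).toRingHom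
    obtain ⟨φ, hφ⟩ := exists_aut f g
    obtain ⟨i, hi⟩ := hne φ
    refine hi (f.injective ?_)
    rw [map_mul, ← hφ, map_one]
    have := hIM (Ideal.subset_span ⟨i, rfl⟩)
    rw [← Ideal.Quotient.eq_zero_iff_mem, map_sub, map_one, sub_eq_zero] at this
    rw [← this]
    show Ideal.Quotient.mk M (w₁ i ⊗ₜ 1) * Ideal.Quotient.mk M (1 ⊗ₜ w₂ i) = _
    rw [← map_mul, Algebra.TensorProduct.tmul_mul_tmul, mul_one, one_mul]
  have h := hIJ (show (1 : K ⊗[ℤ] K) ∈ I by rw [hI]; trivial) (a ⊗ₜ b)
  rwa [one_mul, hΦ] at h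

end CfsgLib.Chev.InvForm
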