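/-
Smallest representation degree of the small Ree groups.
-/
import Cfsg.Agent.Lib.Chev.Twist.Fam.G2Facts

set_option autoImplicit false
set_option linter.unusedSectionVars false

namespace CfsgLib.Chev.G22

open Cfsg.Lie Matrix CfsgLib.Chev

section Weights

variable {K : Type*} [Field K] [Fintype K] {V : Type*} [AddCommGroup V] [Module ℂ V]

/-- the projection to the weight `μ` of an action of `K × K` -/
noncomputable def wproj (ψ : AddChar K ℂ) (ρ : AddChar (K × K) (Module.End ℂ V)) (μ : K × K) :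
    Module.End ℂ V :=
  ((Fintype.card K : ℂ) ^ 2)⁻¹ • ∑ p : K × K, ψ (-(μ.1 * p.1 + μ.2 * p.2)) • ρ p

variable {ψ : AddChar K ℂ} (ρ : AddChar (K × K) (Module.End ℂ V))

lemma card_ne : ((Fintype.card K : ℂ) ^ 2) ≠ 0 :=
  pow_ne_zero 2 (Nat.cast_ne_zero.2 Fintype.card_ne_zero)

lemma mul_wproj (μ p : K × K) :
    ρ p * wproj ψ ρ μ = ψ (μ.1 * p.1 + μ.2 * p.2) • wproj ψ ρ μ := by
  simp only [wproj, mul_smul_comm, Finset.mul_sum, smul_comm (ψ (μ.1 * p.1 + μ.2 * p.2)),
    Finset.smul_sum]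
  refine Fintype.sum_equiv (Equiv.addLeft p) _ _ fun x => ?_
  simp only [Equiv.coe_addLeft, smul_smul]
  rw [AddChar.map_add_eq_mul ρ, ← AddChar.map_add_eq_mul ψ]
  congr 3
  simp only [Prod.fst_add, Prod.snd_add]
  ring

open scoped Classical in
lemma wproj_mul (hψ : ψ.IsPrimitive) (μ ν : K × K) :
    wproj ψ ρ μ * wproj ψ ρ ν = if μ = ν then wproj ψ ρ μ else 0 := by
  classical
  have e : wproj ψ ρ μ * wproj ψ ρ ν = (((Fintype.card K : ℂ) ^ 2)⁻¹ *
      ∑ p : K × K, ψ ((ν.1 - μ.1) * p.1 + (ν.2 - μ.2) * p.2)) • wproj ψ ρ ν := by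
    conv_lhs => arg 1; rw [wproj]
    rw [smul_mul_assoc, Finset.sum_mul, mul_smul, Finset.sum_smul]
    congr 1
    refine Finset.sum_congr rfl fun p _ => ?_
    rw [smul_mul_assoc, mul_wproj, smul_smul, ← AddChar.map_add_eq_mul]
    congr 2
    ring
  have hs : ∑ p : K × K, ψ ((ν.1 - μ.1) * p.1 + (ν.2 - μ.2) * p.2) =
      if μ = ν then (Fintype.card K : ℂ) ^ 2 else 0 := by
    simp only [AddChar.map_add_eq_mul, Fintype.sum_prod_type, ← Finset.mul_sum, ← Finset.sum_mul]
    simp only [mul_comm (ν.1 - μ.1), mul_comm (ν.2 - μ.2), AddChar.sum_mulShift _ hψ, sub_eq_zero]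
    by_cases h : μ = ν
    · subst h; simp [sq]
    · rw [if_neg h]
      rcases eq_or_ne ν.1 μ.1 with h1 | h1
      · rw [if_neg (show ν.2 ≠ μ.2 from fun h2 => h (Prod.ext h1.symm h2.symm))]; simp
      · rw [if_neg h1]; simp
  rw [e, hs]
  by_cases h : μ = ν
  · subst h; rw [if_pos rfl, if_pos rfl, inv_mul_cancel₀ card_ne, one_smul]
  · rw [if_neg h, if_neg h, mul_zero, zero_smul]

lemma sum_wproj (hψ : ψ.IsPrimitive) : ∑ μ : K × K, wproj ψ ρ μ = 1 := by
  classical
  simp only [wproj, ← Finset.smul_sum]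
  rw [Finset.sum_comm]
  have : ∀ p : K × K, ∑ μ : K × K, ψ (-(μ.1 * p.1 + μ.2 * p.2)) • ρ p =
      (if p = 0 then (Fintype.card K : ℂ) ^ 2 else 0) • ρ p := by
    intro p
    rw [← Finset.sum_smul]
    congr 1
    simp only [neg_add, ← mul_neg, AddChar.map_add_eq_mul, Fintype.sum_prod_type, ← Finset.mul_sum,
      ← Finset.sum_mul, AddChar.sum_mulShift _ hψ, neg_eq_zero]
    rcases eq_or_ne p.1 0 with h1 | h1 <;> rcases eq_or_ne p.2 0 with h2 | h2
    · rw [if_pos h1, if_pos h2, if_pos (Prod.ext h1 h2)]; simp [sq]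
    all_goals simp_all [Prod.ext_iff]
  rw [Finset.sum_congr rfl fun p _ => this p, Finset.sum_eq_single (0 : K × K)
    (fun p _ hp => by rw [if_neg hp, zero_smul]) (by simp), if_pos rfl, smul_smul,
    inv_mul_cancel₀ card_ne, one_smul, AddChar.map_zero_eq_one]

lemma conj_wproj {g g' : Module.End ℂ V} (hg : g * g' = 1) {f : K × K ≃ K × K}
    (hf : ∀ p, g * ρ p * g' = ρ (f p)) {μ ν : K × K}
    (hμν : ∀ p : K × K, ν.1 * (f p).1 + ν.2 * (f p).2 = μ.1 * p.1 + μ.2 * p.2) :
    g * wproj ψ ρ μ * g' = wproj ψ ρ ν := by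
  simp only [wproj, mul_smul_comm, smul_mul_assoc, Finset.mul_sum, Finset.sum_mul, hf]
  congr 1
  exact Fintype.sum_equiv f _ _ fun p => by rw [hμν]

variable [FiniteDimensional ℂ V]

lemma trace_conj_wproj {g g' : Module.End ℂ V} (hg : g' * g = 1) (μ : K × K) :
    LinearMap.trace ℂ V (g * wproj ψ ρ μ * g') = LinearMap.trace ℂ V (wproj ψ ρ μ) := by
  rw [LinearMap.trace_mul_comm, ← mul_assoc, hg, one_mul]

/-- dimension of the weight space -/
noncomputable def wdim (ψ : AddChar K ℂ) (ρ : AddChar (K × K) (Module.End ℂ V)) (μ : K × K) : ℕ :=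
  Module.finrank ℂ (LinearMap.range (wproj ψ ρ μ))

lemma trace_wproj (hψ : ψ.IsPrimitive) (μ : K × K) :
    LinearMap.trace ℂ V (wproj ψ ρ μ) = wdim ψ ρ μ := by
  have he : IsIdempotentElem (wproj ψ ρ μ) := by
    rw [IsIdempotentElem, wproj_mul ρ hψ, if_pos rfl]
  exact (LinearMap.IsProj.trace (LinearMap.IsIdempotentElem.isProj_range _ he))

lemma sum_wdim (hψ : ψ.IsPrimitive) : ∑ μ : K × K, wdim ψ ρ μ = Module.finrank ℂ V := by
  have h := congrArg (LinearMap.trace ℂ V) (sum_wproj ρ hψ)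
  rw [map_sum, Module.End.one_eq_id, LinearMap.trace_id] at h
  simp only [trace_wproj ρ hψ] at h
  exact_mod_cast h

lemma wproj_eq_zero (μ : K × K) (h : wdim ψ ρ μ = 0) : wproj ψ ρ μ = 0 :=
  LinearMap.range_eq_bot.1 (Submodule.finrank_eq_zero.1 h)

end Weights

lemma det_of_involution {V : Type*} [AddCommGroup V] [Module ℂ V] [FiniteDimensional ℂ V]
    {s : Module.End ℂ V} (hs : s * s = 1) {r : ℕ} (hr : Module.finrank ℂ V = 2 * r)
    (ht : LinearMap.trace ℂ V s = 0) : LinearMap.det s = (-1) ^ r := by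
  set P : Module.End ℂ V := (2 : ℂ)⁻¹ • (1 - s)
  have hP : IsIdempotentElem P := by
    simp only [IsIdempotentElem, P, smul_mul_smul_comm, sub_mul, mul_sub, one_mul, mul_one, hs]
    module
  have hproj := LinearMap.IsIdempotentElem.isProj_range P hP
  have htr : LinearMap.trace ℂ V P = r := by
    simp only [P, map_smul, map_sub, ht, Module.End.one_eq_id, LinearMap.trace_id, hr, sub_zero]
    push_cast; simp
  rw [hproj.trace] at htr
  have hrk : Module.finrank ℂ (LinearMap.range P) = r := Nat.cast_injective htr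
  have hsP : s = 1 - (2 : ℂ) • P := by simp only [P]; module
  set e := Submodule.prodEquivOfIsCompl _ _ hproj.isCompl with he
  have hconj : s = e.conj (LinearMap.prodMap (-LinearMap.id) LinearMap.id) := by
    rw [← e.conj.apply_symm_apply s]
    congr 1
    refine LinearMap.ext fun x => ?_
    obtain ⟨a, b⟩ := x
    have ha : P (a : V) = a := hproj.map_id _ a.2
    have hb : P (b : V) = 0 := b.2
    apply e.injective
    show e (e.symm (s (e (a, b)))) = _
    rw [e.apply_symm_apply]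
    simp only [he, Submodule.coe_prodEquivOfIsCompl', LinearMap.prodMap_apply, LinearMap.neg_apply,
      LinearMap.id_apply, map_add, Submodule.coe_neg]
    rw [hsP]
    simp only [LinearMap.sub_apply, LinearMap.smul_apply, Module.End.one_apply, map_add, ha, hb]
    module
  rw [hconj]
  rw [LinearEquiv.conj_apply, LinearMap.comp_assoc, LinearMap.det_conj, LinearMap.det_prodMap, LinearMap.det_id, mul_one,
    show (-LinearMap.id : LinearMap.range P →ₗ[ℂ] LinearMap.range P) = (-1 : ℂ) • LinearMap.id from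
      (neg_one_smul ℂ _).symm,
    LinearMap.det_smul, LinearMap.det_id, mul_one, hrk]

variable {K : Type*} [Field K] [Fintype K] [CharP K 3] {σ : K →+* K}

lemma quad_add (u v u' v' : K) :
    W (quad σ 0 u v) * W (quad σ 0 u' v') = W (quad σ 0 (u + u') (v + v')) := by
  simp only [quad, W_mul]
  simp

lemma quad_conj (t u v : K) :
    W (quad σ t 0 0) * W (quad σ 0 u v) * (W (quad σ t 0 0))⁻¹ = W (quad σ 0 u (v + t * u)) := by
  rw [mul_inv_eq_iff_eq_mul]
  simp only [quad, W_mul]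
  simp
  ring_nf

set_option maxHeartbeats 1000000 in
/-- the degree bound -/
theorem min_degree {m : ℕ} (hK : Fintype.card K = 3 ^ (2 * m + 1)) (hi : Inv3 σ)
    {G : Subgroup (GL chevG2.Idx K)} (hG : G = (tw σ).fix) (hperf : commutator ↥G = ⊤)
    (hsimp : IsSimpleGroup ↥G) {k : ℕ} (ρ : Representation ℂ ↥G (Fin k → ℂ)) (hρ : ρ.IsIrreducible)
    (hk : 2 ≤ k) : Fintype.card K ^ 2 - Fintype.card K + 1 ≤ k := by
  classical
  by_contra hlt
  set q := Fintype.card K with hq
  have hq1 : 1 < q := Fintype.one_lt_card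
  have hqq : q ≤ q ^ 2 := Nat.le_self_pow two_ne_zero q
  have hmem : ∀ t u v, W (quad σ t u v) ∈ G := fun t u v => hG ▸ W_quad_fix hi t u v
  have hhmem : ∀ y, hR σ y ∈ G := fun y => hG ▸ hR_fix hi y
  let A : AddChar (K × K) (Module.End ℂ (Fin k → ℂ)) :=
    { toFun := fun p => ρ ⟨W (quad σ 0 p.1 p.2), hmem _ _ _⟩
      map_zero_eq_one' := by
        rw [show (⟨W (quad σ 0 (0 : K × K).1 (0 : K × K).2), hmem _ _ _⟩ : ↥G) = 1 from
          Subtype.ext (by simpa using W_zero), map_one]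
      map_add_eq_mul' := fun p p' => by
        rw [← map_mul]
        congr 1
        exact Subtype.ext (by simp [quad_add]) }
  set ψ := AddChar.FiniteField.primitiveChar_to_Complex K
  have hψ : ψ.IsPrimitive := AddChar.FiniteField.primitiveChar_to_Complex_isPrimitive K
  have hconj : ∀ (g : ↥G) (f : K × K ≃ K × K),
      (∀ p, (g : GL chevG2.Idx K) * W (quad σ 0 p.1 p.2) * (g : GL chevG2.Idx K)⁻¹ =
        W (quad σ 0 (f p).1 (f p).2)) → ∀ p, ρ g * A p * ρ g⁻¹ = A (f p) := by
    intro g f h p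
    show ρ g * ρ _ * ρ g⁻¹ = ρ _
    rw [← map_mul, ← map_mul]
    congr 1
    exact Subtype.ext (h p)
  have inv1 : ∀ g : ↥G, ρ g * ρ g⁻¹ = 1 ∧ ρ g⁻¹ * ρ g = 1 := fun g => by
    rw [← map_mul, ← map_mul, mul_inv_cancel, inv_mul_cancel, map_one]
    exact ⟨rfl, rfl⟩
  have step : ∀ (g : ↥G) (f : K × K ≃ K × K) (μ ν : K × K),
      (∀ p, (g : GL chevG2.Idx K) * W (quad σ 0 p.1 p.2) * (g : GL chevG2.Idx K)⁻¹ =
        W (quad σ 0 (f p).1 (f p).2)) →
      (∀ p : K × K, ν.1 * (f p).1 + ν.2 * (f p).2 = μ.1 * p.1 + μ.2 * p.2) →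
      ρ g * wproj ψ A μ * ρ g⁻¹ = wproj ψ A ν ∧ wdim ψ A μ = wdim ψ A ν := by
    intro g f μ ν h hμν
    have h1 := conj_wproj (ψ := ψ) A (inv1 g).1 (hconj g f h) hμν
    refine ⟨h1, ?_⟩
    have h2 := trace_conj_wproj (ψ := ψ) A (inv1 g).2 μ
    rw [h1, trace_wproj A hψ, trace_wproj A hψ] at h2
    exact (Nat.cast_injective h2).symm
  -- the scaling by the torus
  have hscale : ∀ y : Kˣ, ∃ c : Kˣ, (c : K) = σ (y : K) ^ 3 * (y : K)⁻¹ ∧ ∀ p : K × K,
      hR σ y * W (quad σ 0 p.1 p.2) * (hR σ y)⁻¹ = W (quad σ 0 ((c : K) * p.1) ((y : K) * p.2)) := by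
    intro y
    refine ⟨Units.map σ.toMonoidHom y ^ 3 * y⁻¹, by simp, fun p => ?_⟩
    have hx : hR σ y * W (quad σ 0 p.1 p.2) * (hR σ y)⁻¹ ∈ (tw σ).fix :=
      mul_mem (mul_mem (hR_fix hi y) (W_quad_fix hi _ _ _)) (inv_mem (hR_fix hi y))
    rw [hR_conj_W] at hx ⊢
    rw [exists_quad hx]
    simp [scale, quad]
  -- all weights non-trivial on the centre have one dimension
  set D := wdim ψ A (0, 1)
  have hD : ∀ a b : K, b ≠ 0 → wdim ψ A (a, b) = D := by
    intro a b hb
    obtain ⟨c, -, hc⟩ := hscale (Units.mk0 b hb)⁻¹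
    let f : K × K ≃ K × K := Equiv.prodCongr (Equiv.mulLeft₀ (c : K) c.ne_zero)
      (Equiv.mulLeft₀ b⁻¹ (inv_ne_zero hb))
    have hf : ∀ p : K × K, hR σ (Units.mk0 b hb)⁻¹ * W (quad σ 0 p.1 p.2) *
        (hR σ (Units.mk0 b hb)⁻¹)⁻¹ = W (quad σ 0 (f p).1 (f p).2) := fun p => by
      rw [hc p, Units.val_inv_eq_inv_val, Units.val_mk0]
      rfl
    have hf2 : ∀ p : K × K, (0 : K) * (f p).1 + b * (f p).2 = 0 * p.1 + 1 * p.2 := fun p => by
      show (0 : K) * ((c : K) * p.1) + b * (b⁻¹ * p.2) = _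
      rw [← mul_assoc b, mul_inv_cancel₀ hb]
      ring
    have h1 := (step ⟨hR σ (Units.mk0 b hb)⁻¹, hhmem _⟩ f (0, 1) (0, b) hf hf2).2
    let f' : K × K ≃ K × K :=
      { toFun := fun p => (p.1, p.2 + (-a / b) * p.1)
        invFun := fun p => (p.1, p.2 - (-a / b) * p.1)
        left_inv := fun p => by simp
        right_inv := fun p => by simp }
    have h2 := (step ⟨_, hmem (-a / b) 0 0⟩ f' (0, b) (a, b) (fun p => quad_conj (-a / b) p.1 p.2)
      (fun p => by simp only [f', Equiv.coe_fn_mk]; field_simp; ring)).2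
    exact h2.symm.trans h1.symm
  have hsum : ∑ a : K, wdim ψ A (a, 0) + (q * (q - 1)) * D = k := by
    have := sum_wdim A hψ
    rw [Module.finrank_fin_fun, Fintype.sum_prod_type] at this
    refine Eq.trans ?_ this
    rw [Finset.sum_congr rfl fun a _ => (Finset.add_sum_erase Finset.univ (fun b => wdim ψ A (a, b))
      (Finset.mem_univ (0 : K))).symm, Finset.sum_add_distrib]
    congr 1
    rw [Finset.sum_congr rfl fun a _ => Finset.sum_congr rfl fun b hb =>
      hD a b (Finset.ne_of_mem_erase hb)]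
    simp [Finset.card_erase_of_mem, hq, mul_assoc]
  have hD1 : D ≠ 0 := by
    intro h0
    -- the centre would act trivially
    have hz : A (0, 1) = 1 := by
      rw [← mul_one (A (0, 1)), ← sum_wproj A hψ, Finset.mul_sum]
      refine Finset.sum_congr rfl fun μ _ => ?_
      rw [mul_wproj]
      obtain ⟨a, b⟩ := μ
      rcases eq_or_ne b 0 with rfl | hb
      · simp
      · rw [wproj_eq_zero A (a, b) ((hD a b hb).trans h0), smul_zero]
    have hker : (ρ.ker : Subgroup ↥G) = ⊤ := by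
      haveI := hsimp
      refine (Subgroup.Normal.eq_bot_or_eq_top (MonoidHom.normal_ker _)).resolve_left fun hb => ?_
      have hm : (⟨W (quad σ 0 0 1), hmem 0 0 1⟩ : ↥G) ∈ ρ.ker := hz
      rw [hb, Subgroup.mem_bot] at hm
      have he : W (quad σ (0 : K) 0 1) = W (quad σ (0 : K) 0 0) := by
        rw [W_zero]; exact congrArg Subtype.val hm
      exact one_ne_zero (congrArg Co.g (W_inj he))
    haveI := hρ
    have hone : ∀ (g : ↥G) (x : Fin k → ℂ), ρ g x = x := fun g x => by
      rw [show ρ g = 1 from MonoidHom.mem_ker.1 (hker ▸ Subgroup.mem_top g)]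
      rfl
    have hcard : Module.finrank ℂ (Fin k → ℂ) ≤ 1 := by
      by_contra hgt
      let i : Fin k := ⟨0, by omega⟩
      set L : Submodule ℂ (Fin k → ℂ) := Submodule.span ℂ {Pi.single i 1}
      have h2 : Module.finrank ℂ L ≤ 1 := by
        simpa using finrank_span_le_card ({Pi.single i 1} : Set (Fin k → ℂ))
      let L' : Subrepresentation ρ := ⟨L, fun g x hx => by rwa [hone g x]⟩
      rcases IsSimpleOrder.eq_bot_or_eq_top L' with h | h
      · have : L = ⊥ := congrArg Subrepresentation.toSubmodule h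
        rw [Submodule.span_singleton_eq_bot] at this
        simpa using congrFun this i
      · have : L = ⊤ := congrArg Subrepresentation.toSubmodule h
        rw [this, finrank_top] at h2
        omega
    rw [Module.finrank_fin_fun] at hcard
    omega
  have hD2 : D = 1 := by
    by_contra hne
    have : q * (q - 1) * 2 ≤ q * (q - 1) * D := Nat.mul_le_mul_left _ (by omega)
    have hpos : 1 ≤ q * (q - 1) := Nat.one_le_iff_ne_zero.2 (Nat.mul_ne_zero (by omega) (by omega))
    have hqq' : q * (q - 1) = q ^ 2 - q := by rw [Nat.mul_sub, mul_one, sq]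
    omega
  rw [hD2, mul_one] at hsum
  have hqq' : q * (q - 1) = q ^ 2 - q := by rw [Nat.mul_sub, mul_one, sq]
  have hzero : ∀ a : K, wdim ψ A (a, 0) = 0 := by
    have : ∑ a : K, wdim ψ A (a, 0) = 0 := by omega
    simpa using this
  -- the central involution of the torus
  obtain ⟨c, hc0, hc⟩ := hscale (-1)
  have hc1 : (c : K) = 1 := by rw [hc0]; simp [Odd.neg_one_pow (show Odd 3 by decide)]
  set g : ↥G := ⟨hR σ (-1), hhmem _⟩
  have hg : g * g = 1 := Subtype.ext (by
    show hR σ (-1) * hR σ (-1) = 1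
    rw [← map_mul, neg_one_mul, neg_neg, map_one])
  have hgg : ρ g * ρ g = 1 := by rw [← map_mul, hg, map_one]
  have htr : LinearMap.trace ℂ (Fin k → ℂ) (ρ g) = 0 := by
    rw [← mul_one (ρ g), ← sum_wproj A hψ, Finset.mul_sum, map_sum]
    refine Finset.sum_eq_zero fun μ _ => ?_
    obtain ⟨a, b⟩ := μ
    rcases eq_or_ne b 0 with rfl | hb
    · rw [wproj_eq_zero A (a, 0) (hzero a), mul_zero, map_zero]
    let f : K × K ≃ K × K := Equiv.prodCongr (Equiv.refl K) (Equiv.neg K)
    have h1 := (step g f (a, b) (a, -b) (fun p => by simpa [f, g, hc1] using hc p)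
      (fun p => by simp [f])).1
    have h2 : ρ g * wproj ψ A (a, b) = wproj ψ A (a, -b) * ρ g := by
      rw [← h1, mul_assoc, (inv1 g).2, mul_one]
    have h3 : wproj ψ A (a, b) * wproj ψ A (a, -b) = 0 := by
      rw [wproj_mul A hψ, if_neg]
      intro e
      have hb' : b = -b := congrArg Prod.snd e
      have : (2 : K) * b = 0 := by linear_combination hb'
      rcases mul_eq_zero.1 this with h | h
      · exact absurd h (by
          intro h'
          exact one_ne_zero (show (1 : K) = 0 by linear_combination three (K := K) - h'))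
      · exact hb h
    have h4 : wproj ψ A (a, b) = wproj ψ A (a, b) * wproj ψ A (a, b) := by
      rw [wproj_mul A hψ, if_pos rfl]
    rw [h4, ← mul_assoc, h2, LinearMap.trace_mul_comm, ← mul_assoc, h3, zero_mul, map_zero]
  have hk2 : Module.finrank ℂ (Fin k → ℂ) = 2 * (k / 2) := by
    rw [Module.finrank_fin_fun]
    have : Even (q * (q - 1)) := Nat.even_mul_pred_self q
    obtain ⟨r, hr⟩ := this
    omega
  have hdet := det_of_involution hgg hk2 htr
  have hodd : Odd (k / 2) := by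
    have h4 : q % 4 = 3 := by
      rw [hK, pow_succ, pow_mul, Nat.mul_mod, Nat.pow_mod]; norm_num
    have hr : (q - 1) / 2 * 2 = q - 1 := by omega
    have hk' : k = q * ((q - 1) / 2) * 2 := by rw [mul_assoc, hr]; omega
    rw [hk', Nat.mul_div_cancel _ two_pos, Nat.odd_mul]
    exact ⟨Nat.odd_iff.2 (by omega), Nat.odd_iff.2 (by omega)⟩
  rw [hodd.neg_one_pow] at hdet
  let δ : ↥G →* ℂˣ := ((LinearMap.det).comp ρ).toHomUnits
  have h1 : g ∈ δ.ker := Abelianization.commutator_subset_ker δ (hperf ▸ Subgroup.mem_top g)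
  have h2 : LinearMap.det (ρ g) = 1 := congrArg Units.val (MonoidHom.mem_ker.1 h1)
  rw [hdet] at h2
  norm_num at h2

end CfsgLib.Chev.G22
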