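/-
The automorphisms of the groups of type twisted G2.
-/
import Cfsg.Agent.Lib.Chev.Twist.Fam.G2Sys
import Cfsg.Agent.Lib.Chev.Ree.Tor
import Cfsg.Agent.Lib.Chev.Twist.Frob
import Cfsg.Agent.Lib.KnownB.PSLAut.Out

set_option autoImplicit false
set_option maxRecDepth 100000

namespace CfsgLib.Chev.G22

open Cfsg.Lie

variable {K : Type*} [Field K] [CharP K 3] {σ : K →+* K}

lemma quad_mul (hi : Inv3 σ) (t u v t' u' v' : K) :
    W (quad σ t u v) * W (quad σ t' u' v') = W (quad σ (t + t') (u + u' - σ t' ^ 3 * t)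
      (v + v' - σ t' ^ 3 * t ^ 2 - t' * (u - σ t' ^ 3 * t))) := by
  have h := mul_mem (W_quad_fix hi t u v) (W_quad_fix hi t' u' v')
  rw [quad, quad, W_mul] at h ⊢
  exact congrArg W (exists_quad h)

lemma quad_split (hi : Inv3 σ) (t u v : K) :
    W (quad σ t u v) = W (quad σ t 0 0) * W (quad σ 0 u v) := by
  rw [quad_mul hi]; simp

/-- the scalar on the first layer -/
def lam (σ : K →+* K) (y : Kˣ) : K := (σ y ^ 3)⁻¹ * (y : K) ^ 2

/-- the scalar on the second layer -/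
def mu (σ : K →+* K) (y : Kˣ) : K := σ y ^ 3 * (y : K)⁻¹

lemma hR_quad (hi : Inv3 σ) (y : Kˣ) (t u v : K) :
    hR σ y * W (quad σ t u v) * (hR σ y)⁻¹ = W (quad σ (lam σ y * t) (mu σ y * u) ((y : K) * v)) := by
  have h := mul_mem (mul_mem (hR_fix hi y) (W_quad_fix hi t u v)) (inv_mem (hR_fix hi y))
  rw [hR_conj_W] at h ⊢
  exact congrArg W (exists_quad h)

lemma quad_inj {t u v t' u' v' : K} (h : W (quad σ t u v) = W (quad σ t' u' v')) :
    t = t' ∧ u = u' ∧ v = v' := by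
  have := W_inj h
  exact ⟨congrArg Co.b this, congrArg Co.f this, congrArg Co.g this⟩

lemma lam_mul (y z : Kˣ) : lam σ (y * z) = lam σ y * lam σ z := by
  simp [lam, mul_pow, mul_inv]; ring

lemma mu_mul (y z : Kˣ) : mu σ (y * z) = mu σ y * mu σ z := by
  simp [mu, mul_pow, mul_inv]; ring

lemma lam_ne (y : Kˣ) : lam σ y ≠ 0 :=
  mul_ne_zero (inv_ne_zero (pow_ne_zero _ ((map_ne_zero σ).2 y.ne_zero))) (pow_ne_zero _ y.ne_zero)

lemma lam_inj (hi : Inv3 σ) {y z : Kˣ} (h : lam σ y = lam σ z) : y = z := by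
  have h1 : lam σ (y / z) * lam σ z = 1 * lam σ z := by
    rw [← lam_mul, div_mul_cancel, h, one_mul]
  have h2 := mul_right_cancel₀ (lam_ne z) h1
  rw [lam, inv_mul_eq_one₀ (pow_ne_zero _ ((map_ne_zero σ).2 (y / z).ne_zero))] at h2
  exact div_eq_one.1 (Units.ext (scale_ne hi (y / z).ne_zero h2))

lemma neg_cases (hi : Inv3 σ) {y : K} (h : σ y ^ 3 = -y) : (y ^ 2) ^ 3 = y ^ 2 :=
  scale_ne' hi (by
    rw [map_pow, ← pow_mul, mul_comm 2 3, pow_mul, h]
    ring)

variable [Fintype K]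

lemma lam_surj (hi : Inv3 σ) {x : K} (hx : x ≠ 0) : ∃ y : Kˣ, lam σ y = x := by
  obtain ⟨y, hy⟩ := Finite.surjective_of_injective
    (f := fun y : Kˣ => Units.mk0 (lam σ y) (lam_ne y))
    (fun y z h => lam_inj hi (congrArg Units.val h)) (Units.mk0 x hx)
  exact ⟨y, congrArg Units.val hy⟩

lemma neg_one_not_square (h4 : Fintype.card K % 4 = 3) : ¬ IsSquare (-1 : K) := fun h => by
  rw [FiniteField.isSquare_neg_one_iff] at h
  exact h h4

lemma good_element (hi : Inv3 σ) (h4 : Fintype.card K % 4 = 3) {y : K} (hy : y ^ 3 ≠ y) :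
    σ y ^ 3 ≠ y ∧ σ y ^ 3 ≠ -y := by
  refine ⟨fun h => hy (scale_ne' hi h), fun h => ?_⟩
  have hy0 : y ≠ 0 := by rintro rfl; simp at hy
  have h2 := neg_cases hi h
  have h3 : (y ^ 2) ^ 2 = 1 := mul_right_cancel₀ (pow_ne_zero 2 hy0) (by rw [one_mul, ← pow_succ, h2])
  rcases sq_eq_one_iff.1 h3 with e | e
  · exact hy (by rw [show y ^ 3 = y ^ 2 * y by ring, e, one_mul])
  · exact neg_one_not_square h4 ⟨y, by rw [← sq, e]⟩

/-- points of the unipotent group inside the fixed group -/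
noncomputable def uq (hi : Inv3 σ) (t u v : K) : ↥(tw σ).fix := ⟨_, W_quad_fix hi t u v⟩

/-- points of the torus inside the fixed group -/
noncomputable def hq (hi : Inv3 σ) : Kˣ →* ↥(tw σ).fix := (hR σ).codRestrict _ (hR_fix hi)

/-- the swap inside the fixed group -/
noncomputable def nq : ↥(tw σ).fix := ⟨(tw σ).nJ 0, (tw σ).nJ_fix (by decide)⟩

lemma mem_UF_iff (hi : Inv3 σ) {g : ↥(tw σ).fix} : g ∈ (UF (σ := σ)) ↔ ∃ t u v, uq hi t u v = g := by
  rw [mem_UF, pos_eq hi]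
  exact ⟨fun ⟨t, u, v, h⟩ => ⟨t, u, v, Subtype.ext h⟩,
    fun ⟨t, u, v, h⟩ => ⟨t, u, v, congrArg Subtype.val h⟩⟩

lemma mem_HF_iff (hi : Inv3 σ) {g : ↥(tw σ).fix} : g ∈ (HF (σ := σ)) ↔ ∃ y, hq hi y = g := by
  rw [mem_HF, ← hR_range hi]
  exact ⟨fun ⟨y, h⟩ => ⟨y, Subtype.ext h⟩, fun ⟨y, h⟩ => ⟨y, congrArg Subtype.val h⟩⟩

lemma hq_conj (hi : Inv3 σ) (y : Kˣ) (t u v : K) :
    hq hi y * uq hi t u v * (hq hi y)⁻¹ = uq hi (lam σ y * t) (mu σ y * u) ((y : K) * v) :=
  Subtype.ext (hR_quad hi y t u v)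

lemma hq_inj (hi : Inv3 σ) : Function.Injective (hq hi) :=
  fun _ _ h => hR_inj (congrArg Subtype.val h)

lemma nq_eq (hi : Inv3 σ) :
    nq (σ := σ) = uq hi 0 0 1 * (nq * uq hi (-1) (-1) (-1) * nq⁻¹) * uq hi (-1) 0 1 :=
  Subtype.ext nJ_eq

/-- an endomorphism that is trivial on the generators is trivial -/
lemma eq_id_of_gens (hi : Inv3 σ) {α : ↥(tw σ).fix →* ↥(tw σ).fix}
    (hU : ∀ t u v, α (uq hi t u v) = uq hi t u v) (hH : ∀ y, α (hq hi y) = hq hi y)
    (hn : α nq = nq) (g : ↥(tw σ).fix) : α g = g := by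
  have hU' : ∀ u ∈ (UF (σ := σ)), α u = u := fun u hu => by
    obtain ⟨t, a, b, rfl⟩ := (mem_UF_iff hi).1 hu
    exact hU t a b
  have hH' : ∀ u ∈ (HF (σ := σ)), α u = u := fun u hu => by
    obtain ⟨y, rfl⟩ := (mem_HF_iff hi).1 hu
    exact hH y
  rcases cells hi g.2 with ⟨u, hu, t, ht, e⟩ | ⟨u, hu, t, ht, v, hv, e⟩
  · rw [show g = (⟨u, hu.2⟩ : ↥(tw σ).fix) * ⟨t, ht.2⟩ from Subtype.ext e,
      map_mul, hU' ⟨u, hu.2⟩ (mem_UF.2 hu), hH' ⟨t, ht.2⟩ (mem_HF.2 ht)]
  · rw [show g = (⟨u, hu.2⟩ : ↥(tw σ).fix) * nq * ⟨t, ht.2⟩ * ⟨v, hv.2⟩ from Subtype.ext e,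
      map_mul, map_mul, map_mul, hU' ⟨u, hu.2⟩ (mem_UF.2 hu), hH' ⟨t, ht.2⟩ (mem_HF.2 ht), hU' ⟨v, hv.2⟩ (mem_UF.2 hv), hn]

/-- an automorphism trivial on the torus and on the top layer fixes the unipotent group -/
lemma fix_U (hi : Inv3 σ) (h4 : Fintype.card K % 4 = 3) {y₀ : Kˣ} (hy₀ : (y₀ : K) ^ 3 ≠ y₀)
    (α : MulAut ↥(tw σ).fix) (hH : ∀ y, α (hq hi y) = hq hi y)
    (hT : ∀ t u v, ∃ u' v', α (uq hi t u v) = uq hi t u' v') :
    ∀ t u v, α (uq hi t u v) = uq hi t u v := by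
  classical
  choose F G hFG using hT
  have equi : ∀ y t u v, F (lam σ y * t) (mu σ y * u) ((y : K) * v) = mu σ y * F t u v ∧
      G (lam σ y * t) (mu σ y * u) ((y : K) * v) = (y : K) * G t u v := by
    intro y t u v
    have := congrArg α (hq_conj hi y t u v)
    rw [map_mul, map_mul, map_inv, hH, hFG, hq_conj, hFG] at this
    obtain ⟨-, h1, h2⟩ := quad_inj (congrArg Subtype.val this)
    exact ⟨h1.symm, h2.symm⟩
  have add0 : ∀ t u v u' v', F t (u + u') (v + v' - 0) = F t u v + F 0 u' v' ∧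
      G t (u + u') (v + v' - 0) = G t u v + G 0 u' v' := by
    intro t u v u' v'
    have e : uq hi t (u + u') (v + v' - 0) = uq hi t u v * uq hi 0 u' v' := Subtype.ext (by
      show W _ = W _ * W _
      rw [quad_mul hi]; simp)
    have := congrArg α e
    rw [map_mul, hFG, hFG, hFG] at this
    have h := congrArg Subtype.val this
    change W _ = W _ * W _ at h
    rw [quad_mul hi] at h
    obtain ⟨-, h1, h2⟩ := quad_inj h
    exact ⟨by rw [h1]; simp, by rw [h2]; simp⟩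
  simp only [sub_zero] at add0
  -- the second layer
  set c := F 0 1 0
  set d := G 0 0 1
  have hm1 : mu σ (-1 : Kˣ) = 1 := by simp [mu]; ring
  have hl1 : lam σ (-1 : Kˣ) = -1 := by simp [lam]; ring
  have hodd : ∀ t u v, F (-t) u (-v) = F t u v ∧ G (-t) u (-v) = -G t u v := by
    intro t u v
    have := equi (-1) t u v
    rw [hm1, hl1] at this
    simpa using this
  have two : ∀ x : K, x = -x → x = 0 := fun x h => by
    linear_combination -h + x * three (K := K)
  have hGu : ∀ u, G 0 u 0 = 0 := fun u => two _ (by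
    have := (hodd 0 u 0).2; simpa using this)
  have hFv : ∀ v, F 0 0 v = 0 := fun v => by
    have h1 := (add0 0 0 v 0 (-v)).1
    have h0 := (add0 0 0 0 0 0).1
    have h2 := (hodd 0 0 v).1
    simp only [add_zero, add_neg_cancel, neg_zero] at h1 h0 h2
    rw [h2, left_eq_add.1 h0] at h1
    exact two _ (by linear_combination -h1)
  -- the multipliers span
  have span : ∀ (L : K → K), (∀ a b, L (a + b) = L a + L b) → ∀ (w : Kˣ → K),
      (∀ a b, w (a * b) = w a * w b) → w 1 = 1 → (∀ y x, L (w y * x) = w y * L x) →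
      (∀ z : K, z ∈ Subring.closure (Set.range w)) → ∀ x, L x = L 1 * x := by
    intro L hL w _ _ hw hgen x
    have key : ∀ z ∈ Subring.closure (Set.range w), ∀ x, L (z * x) = z * L x := by
      intro z hz
      induction hz using Subring.closure_induction with
      | mem z hz => obtain ⟨y, rfl⟩ := hz; exact hw y
      | zero =>
        intro x
        have h := hL 0 0
        rw [add_zero] at h
        rw [zero_mul, zero_mul]; exact left_eq_add.1 h
      | one => intro x; rw [one_mul, one_mul]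
      | add a b _ _ ha hb => intro x; rw [add_mul, hL, ha, hb, add_mul]
      | neg a _ ha =>
        intro x
        have h0 : L 0 = 0 := by have h := hL 0 0; rw [add_zero] at h; exact left_eq_add.1 h
        have h := hL (a * x) (-a * x)
        rw [← add_mul, add_neg_cancel, zero_mul, h0, ha] at h
        linear_combination -h
      | mul a b _ _ ha hb => intro x; rw [mul_assoc, ha, hb, mul_assoc]
    have := key x (hgen x) 1
    rw [mul_one] at this
    rw [this, mul_comm]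
  have hgenmu : ∀ z : K, z ∈ Subring.closure (Set.range (mu σ)) := by
    intro z
    -- the multipliers `lam` are all units, and `lam y = y / mu y`
    rcases eq_or_ne z 0 with rfl | hz
    · exact zero_mem _
    have key : ∀ y : Kˣ, (y : K) ^ 2 ∈ Subring.closure (Set.range (mu σ)) := by
      intro y
      obtain ⟨y', hy'⟩ : ∃ y' : Kˣ, mu σ y' = (y : K) ^ 2 := by
        have hinj : ∀ a b : Kˣ, mu σ a = mu σ b → a = b ∨ a = -b := by
          intro a b h
          have hm : mu σ (a / b) = 1 := by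
            have := mu_mul (σ := σ) (a / b) b
            rw [div_mul_cancel, h] at this
            exact (mul_eq_right₀ (by
              rw [mu]; exact mul_ne_zero (pow_ne_zero _ ((map_ne_zero σ).2 b.ne_zero))
                (inv_ne_zero b.ne_zero))).1 this.symm
          rw [mu, mul_inv_eq_one₀ (a / b).ne_zero] at hm
          have h3 := scale_ne' hi hm
          have h2 : ((a / b : Kˣ) : K) ^ 2 = 1 := mul_right_cancel₀ (a / b).ne_zero (by
            rw [one_mul, ← pow_succ, h3])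
          rcases sq_eq_one_iff.1 h2 with e | e
          · exact Or.inl (div_eq_one.1 (Units.ext e))
          · refine Or.inr ?_
            rw [← div_mul_cancel a b, show a / b = -1 from Units.ext (by simpa using e), neg_one_mul]
        obtain ⟨y', hy'⟩ := Finite.surjective_of_injective
          (f := fun q : {x : Kˣ // IsSquare x} => (⟨Units.mk0 (mu σ q.1) (by
            rw [mu]; exact mul_ne_zero (pow_ne_zero _ ((map_ne_zero σ).2 q.1.ne_zero))
              (inv_ne_zero q.1.ne_zero)), by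
            obtain ⟨r, hr⟩ := q.2
            exact ⟨Units.mk0 (mu σ r) (by
              rw [mu]; exact mul_ne_zero (pow_ne_zero _ ((map_ne_zero σ).2 r.ne_zero))
                (inv_ne_zero r.ne_zero)), Units.ext (by simp [hr, mu_mul])⟩⟩ : {x : Kˣ // IsSquare x}))
          (fun a b h => by
            rcases hinj a.1 b.1 (congrArg (fun x : {x : Kˣ // IsSquare x} => (x.1 : K)) h) with e | e
            · exact Subtype.ext e
            · exfalso
              obtain ⟨r, hr⟩ := a.2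
              obtain ⟨s, hs⟩ := b.2
              refine neg_one_not_square h4 ⟨(r : K) * (s : K)⁻¹, ?_⟩
              have e' : ((r * r : Kˣ) : K) = -((s * s : Kˣ) : K) := by
                rw [← hr, ← hs, e, Units.val_neg]
              push_cast at e'
              field_simp
              linear_combination -e')
          ⟨y ^ 2, ⟨y, sq y⟩⟩
        exact ⟨y'.1, by simpa using congrArg (fun x : {x : Kˣ // IsSquare x} => (x.1 : K)) hy'⟩
      exact hy' ▸ Subring.subset_closure ⟨y', rfl⟩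
    rcases sq_or_neg_sq h4 (Units.mk0 z hz) with ⟨r, hr | hr⟩
    · have : z = (r : K) ^ 2 := by
        have := congrArg Units.val hr; rw [sq]; simpa using this
      exact this ▸ key r
    · have : z = -(r : K) ^ 2 := by
        have := congrArg Units.val hr; rw [sq]; simpa using this
      exact this ▸ Subring.neg_mem _ (key r)
  have hFu : ∀ u, F 0 u 0 = c * u := span (fun u => F 0 u 0)
    (fun a b => by simpa using (add0 0 a 0 b 0).1) (mu σ) mu_mul (by simp [mu])
    (fun y x => by simpa using (equi y 0 x 0).1) hgenmu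
  have hGv : ∀ v, G 0 0 v = d * v := span (fun v => G 0 0 v)
    (fun a b => by simpa using (add0 0 0 a 0 b).2) (fun y : Kˣ => (y : K)) (fun _ _ => rfl) rfl
    (fun y x => by simpa using (equi y 0 0 x).2) (fun z => by
      rcases eq_or_ne z 0 with rfl | hz
      · exact zero_mem _
      · exact Subring.subset_closure ⟨Units.mk0 z hz, rfl⟩)
  have h0 : ∀ u v, F 0 u v = c * u ∧ G 0 u v = d * v := fun u v => by
    have h := add0 0 u 0 0 v
    simp only [add_zero, zero_add] at h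
    rw [h.1, h.2, hFu, hFv, hGu, hGv]
    exact ⟨add_zero _, zero_add _⟩
  set g := fun t => F t 0 0 with hg
  set k := fun t => G t 0 0 with hk
  have hgen : ∀ t u v, F t u v = g t + c * u ∧ G t u v = k t + d * v := fun t u v => by
    have h := add0 t 0 0 u v
    simp only [zero_add] at h
    rw [h.1, h.2, (h0 u v).1, (h0 u v).2]
    exact ⟨rfl, rfl⟩
  have hrel : ∀ t t', g (t + t') + c * (-(σ t' ^ 3 * t)) = g t + g t' - σ t' ^ 3 * t ∧
      k (t + t') + d * (-(σ t' ^ 3 * t ^ 2) + t' * (σ t' ^ 3 * t)) =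
        k t + k t' - σ t' ^ 3 * t ^ 2 - t' * (g t - σ t' ^ 3 * t) := by
    intro t t'
    have e : uq hi t 0 0 * uq hi t' 0 0 =
        uq hi (t + t') (-(σ t' ^ 3 * t)) (-(σ t' ^ 3 * t ^ 2) + t' * (σ t' ^ 3 * t)) := Subtype.ext (by
      show W _ * W _ = W _
      rw [quad_mul hi]; congr 2 <;> ring)
    have := congrArg α e
    rw [map_mul, hFG, hFG, hFG] at this
    have h := congrArg Subtype.val this
    change W _ * W _ = W _ at h
    rw [quad_mul hi] at h
    obtain ⟨-, h1, h2⟩ := quad_inj h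
    rw [(hgen _ _ _).1, (hgen _ _ _).1, (hgen _ _ _).1] at h1
    rw [(hgen _ _ _).1, (hgen _ _ _).2, (hgen _ _ _).2, (hgen _ _ _).2] at h2
    exact ⟨by linear_combination -h1, by linear_combination -h2⟩
  obtain ⟨ne1, ne2⟩ := good_element hi h4 hy₀
  have hc1 : c = 1 := by
    have a := (hrel 1 (y₀ : K)).1
    have b := (hrel (y₀ : K) 1).1
    rw [add_comm (y₀ : K) 1, map_one] at b
    have : (c - 1) * (σ (y₀ : K) ^ 3 - y₀) = 0 := by linear_combination b - a
    exact sub_eq_zero.1 ((mul_eq_zero.1 this).resolve_right (sub_ne_zero.2 ne1))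
  have hg0 : ∀ t, g t = 0 := by
    intro t
    have a := (hrel t (-t)).1
    have b := (hodd t 0 0).1
    rw [neg_zero] at b
    have e0 : g 0 = 0 := by simpa using (h0 0 0).1
    rw [add_neg_cancel, e0, hc1] at a
    change g (-t) = g t at b
    rw [b] at a
    exact two _ (by linear_combination -a)
  have hy1 : (y₀ : K) - 1 ≠ 0 := sub_ne_zero.2 (fun e => hy₀ (by rw [e, one_pow]))
  have hd1 : d = 1 := by
    have a := (hrel 1 (y₀ : K)).2
    have b := (hrel (y₀ : K) 1).2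
    rw [hg0] at a b
    rw [add_comm (y₀ : K) 1, map_one] at b
    have : (d - 1) * (((y₀ : K) - 1) * (σ (y₀ : K) ^ 3 + y₀)) = 0 := by linear_combination a - b
    refine sub_eq_zero.1 ((mul_eq_zero.1 this).resolve_right (mul_ne_zero hy1 ?_))
    intro e
    exact ne2 (by linear_combination e)
  have hkadd : ∀ t t', k (t + t') = k t + k t' := fun t t' => by
    have a := (hrel t t').2
    rw [hg0, hd1] at a
    linear_combination a
  have hk0 : ∀ t, k t = 0 := by
    have hke : ∀ y t, k (lam σ y * t) = (y : K) * k t := fun y t => by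
      simpa using (equi y t 0 0).2
    have hk1 : k 1 = 0 := by
      by_contra hne
      have hy0 := y₀.ne_zero
      obtain ⟨z, hz⟩ := lam_surj hi (show lam σ y₀ + 1 ≠ 0 from fun e => by
        have e' : lam σ y₀ = lam σ (-1) := by rw [hl1]; linear_combination e
        exact hy₀ (by rw [lam_inj hi e']; simp; ring))
      have h1 := hke z 1
      rw [mul_one, hz, hkadd] at h1
      have h2 := hke y₀ 1
      rw [mul_one] at h2
      rw [h2] at h1
      have hzv : (z : K) = y₀ + 1 := mul_right_cancel₀ hne (by linear_combination -h1)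
      rw [lam, lam, hzv, map_add, map_one, add_pow3, one_pow] at hz
      have hs : σ (y₀ : K) ^ 3 ≠ 0 := pow_ne_zero _ ((map_ne_zero σ).2 hy0)
      have hs1 : σ (y₀ : K) ^ 3 + 1 ≠ 0 := by
        intro e
        have : σ ((y₀ : K) + 1) ^ 3 = 0 := by rw [map_add, map_one, add_pow3, one_pow, e]
        have := (map_eq_zero σ).1 (pow_eq_zero_iff (by norm_num) |>.1 this)
        exact z.ne_zero (hzv.trans this)
      field_simp at hz
      have : (σ (y₀ : K) ^ 3 - y₀) ^ 2 = 0 := by linear_combination -hz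
      exact ne1 (sub_eq_zero.1 (pow_eq_zero_iff two_ne_zero |>.1 this))
    intro t
    rcases eq_or_ne t 0 with rfl | ht
    · simpa using (h0 0 0).2
    · obtain ⟨y, rfl⟩ := lam_surj hi ht
      rw [← mul_one (lam σ y), hke, hk1, mul_zero]
  intro t u v
  rw [hFG, (hgen t u v).1, (hgen t u v).2, hg0, hk0, hc1, hd1]
  simp

/-- the swap is then fixed -/
lemma fix_n (hi : Inv3 σ) {y : Kˣ} (hy : (y : K) ^ 3 ≠ y) (α : MulAut ↥(tw σ).fix)
    (hH : ∀ y, α (hq hi y) = hq hi y) (hU : ∀ t u v, α (uq hi t u v) = uq hi t u v) :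
    α nq = nq := by
  classical
  have hy2 : hq hi y * hq hi y ≠ 1 := by
    rw [← map_mul, ← map_one (hq hi)]
    intro e
    have e' := congrArg Units.val (hq_inj hi e)
    push_cast at e'
    exact hy (by rw [pow_succ, sq, e', one_mul])
  have hnh : ∀ z, nq * hq hi z * nq⁻¹ = hq hi z⁻¹ := fun z => Subtype.ext (nJ_hR z)
  set t := nq⁻¹ * α nq with ht
  have htH : ∀ z, t * hq hi z = hq hi z * t := by
    intro z
    have h1 := congrArg α (hnh z⁻¹)
    rw [inv_inv, map_mul, map_mul, map_inv α, hH, hH] at h1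
    have h2 := hnh z⁻¹
    rw [inv_inv] at h2
    rw [ht]
    calc nq⁻¹ * α nq * hq hi z
        = nq⁻¹ * (α nq * hq hi z⁻¹ * (α nq)⁻¹)⁻¹ * α nq := by rw [map_inv]; group
      _ = nq⁻¹ * (nq * hq hi z⁻¹ * nq⁻¹)⁻¹ * α nq := by rw [h1, h2]
      _ = _ := by rw [map_inv]; group
  obtain ⟨x, hx⟩ : ∃ x, hq hi x = t := by
    rw [← mem_HF_iff hi]
    rcases cells hi t.2 with ⟨u, hu, s, hs, e⟩ | ⟨u, hu, s, hs, v, hv, e⟩
    · have hsH : (⟨s, hs.2⟩ : ↥(tw σ).fix) ∈ (HF (σ := σ)) := mem_HF.2 hs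
      obtain ⟨z, hz⟩ := (mem_HF_iff hi).1 hsH
      obtain ⟨a, b, c, rfl⟩ := (pos_eq hi u).1 hu
      have et : t = uq hi a b c * hq hi z := by rw [hz]; exact Subtype.ext e
      have h1 := htH y
      rw [et, mul_assoc, ← map_mul, mul_comm z y, map_mul, ← mul_assoc, ← mul_assoc] at h1
      have h2 : hq hi y * uq hi a b c * (hq hi y)⁻¹ = uq hi a b c := by
        rw [← mul_right_cancel h1]; group
      rw [hq_conj] at h2
      obtain ⟨e1, e2, e3⟩ := quad_inj (congrArg Subtype.val h2)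
      have ha : a = 0 := by
        by_contra ha
        have := lam_inj hi (σ := σ) (y := y) (z := 1) (by
          rw [(mul_eq_right₀ ha).1 e1]; simp [lam])
        exact hy (by rw [this]; simp)
      have hb : b = 0 := by
        by_contra hb
        have := (mul_eq_right₀ hb).1 e2
        rw [mu, mul_inv_eq_one₀ y.ne_zero] at this
        exact hy (scale_ne' hi this)
      have hc : c = 0 := by
        by_contra hc
        exact hy (by rw [(mul_eq_right₀ hc).1 e3]; simp)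
      rw [et, ha, hb, hc, show uq hi (0 : K) 0 0 = 1 from Subtype.ext W_zero, one_mul, hz]
      exact hsH
    · exfalso
      have hsH : (⟨s, hs.2⟩ : ↥(tw σ).fix) ∈ (HF (σ := σ)) := mem_HF.2 hs
      obtain ⟨z, hz⟩ := (mem_HF_iff hi).1 hsH
      set A : ↥(tw σ).fix := ⟨u, hu.2⟩
      set B : ↥(tw σ).fix := ⟨v, hv.2⟩
      set h := hq hi y
      have et : t = A * nq * hq hi z * B := by rw [hz]; exact Subtype.ext e
      have h1 : h * t * h⁻¹ = t := by rw [← htH y, mul_inv_cancel_right]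
      have hn' : h * nq = nq * h⁻¹ := by
        have := hnh y⁻¹
        rw [inv_inv, map_inv] at this
        calc h * nq = nq * (hq hi y)⁻¹ * nq⁻¹ * nq := by rw [this]
          _ = nq * h⁻¹ := by rw [inv_mul_cancel_right]
      have hA : h * A * h⁻¹ ∈ (UF (σ := σ)) :=
        mem_UF.2 (tor_conj_U hi (mem_HF.1 ((mem_HF_iff hi).2 ⟨y, rfl⟩)) hu)
      have hB : h * B * h⁻¹ ∈ (UF (σ := σ)) :=
        mem_UF.2 (tor_conj_U hi (mem_HF.1 ((mem_HF_iff hi).2 ⟨y, rfl⟩)) hv)
      have h3 : nq⁻¹ * ((h * A * h⁻¹)⁻¹ * A) * nq =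
          (h⁻¹ * h⁻¹ * hq hi z) * (h * B * h⁻¹) * B⁻¹ * (hq hi z)⁻¹ := by
        have hc' : h⁻¹ * hq hi z = hq hi z * h⁻¹ := by
          rw [show h = hq hi y from rfl, ← map_inv, ← map_mul, ← map_mul, mul_comm]
        have h4 : h * A * h⁻¹ * nq * (h⁻¹ * h⁻¹ * hq hi z) * (h * B * h⁻¹) = A * nq * hq hi z * B := by
          calc h * A * h⁻¹ * nq * (h⁻¹ * h⁻¹ * hq hi z) * (h * B * h⁻¹)
              = h * A * h⁻¹ * (nq * h⁻¹) * (h⁻¹ * hq hi z) * h * B * h⁻¹ := by group
            _ = h * A * h⁻¹ * (h * nq) * (hq hi z * h⁻¹) * h * B * h⁻¹ := by rw [hn', hc']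
            _ = h * (A * nq * hq hi z * B) * h⁻¹ := by group
            _ = _ := by rw [← et]; exact h1
        have := congrArg (fun w => nq⁻¹ * (h * A * h⁻¹)⁻¹ * w * B⁻¹ * (hq hi z)⁻¹) h4
        rw [show nq⁻¹ * (h * A * h⁻¹)⁻¹ * (h * A * h⁻¹ * nq * (h⁻¹ * h⁻¹ * hq hi z) * (h * B * h⁻¹)) *
          B⁻¹ * (hq hi z)⁻¹ = (h⁻¹ * h⁻¹ * hq hi z) * (h * B * h⁻¹) * B⁻¹ * (hq hi z)⁻¹ by group,
          show nq⁻¹ * (h * A * h⁻¹)⁻¹ * (A * nq * hq hi z * B) * B⁻¹ * (hq hi z)⁻¹ =
            nq⁻¹ * ((h * A * h⁻¹)⁻¹ * A) * nq by group] at this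
        exact this.symm
      have hbor : ((nq⁻¹ * ((h * A * h⁻¹)⁻¹ * A) * nq : ↥(tw σ).fix) : GL chevG2.Idx K) ∈
          chevG2.borelSubgroup K := by
        rw [h3]
        have hd : ∀ w, w ∈ (HF (σ := σ)) → (w : GL chevG2.Idx K) ∈ chevG2.borelSubgroup K :=
          fun w hw => diag_le_borel (mem_HF.1 hw).1
        have hp : ∀ w, w ∈ (UF (σ := σ)) → (w : GL chevG2.Idx K) ∈ chevG2.borelSubgroup K :=
          fun w hw => pos_le_borel (mem_UF.1 hw).1
        have hh : h ∈ (HF (σ := σ)) := (mem_HF_iff hi).2 ⟨y, rfl⟩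
        have hz' : hq hi z ∈ (HF (σ := σ)) := (mem_HF_iff hi).2 ⟨z, rfl⟩
        simp only [Subgroup.coe_mul]
        exact mul_mem (mul_mem (mul_mem (mul_mem (mul_mem (hd _ (inv_mem hh)) (hd _ (inv_mem hh)))
          (hd _ hz')) (hp _ hB)) (hp _ (inv_mem (mem_UF.2 hv : B ∈ (UF (σ := σ))))))
          (hd _ (inv_mem hz'))
      have h5 : (h * A * h⁻¹)⁻¹ * A ∈ (UF (σ := σ)) := mul_mem (inv_mem hA) (mem_UF.2 hu)
      simp only [Subgroup.coe_mul, Subgroup.coe_inv] at hbor
      change ((tw σ).nJ 0)⁻¹ * _ * (tw σ).nJ 0 ∈ _ at hbor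
      rw [nJ_inv] at hbor
      have h6 := eq_one_of_opposite hi (mem_UF.1 h5) (by
        rw [nJ_inv, Subgroup.coe_mul, Subgroup.coe_inv, Subgroup.coe_mul, Subgroup.coe_mul,
          Subgroup.coe_inv]
        exact hbor)
      have h6' : (h * A * h⁻¹)⁻¹ * A = 1 := Subtype.ext h6
      rw [h6', mul_one, inv_mul_cancel] at h3
      have h7 : hq hi z * (h * B * h⁻¹) * B⁻¹ * (hq hi z)⁻¹ = h * h := by
        calc hq hi z * (h * B * h⁻¹) * B⁻¹ * (hq hi z)⁻¹ =
            h * h * (h⁻¹ * h⁻¹ * hq hi z * (h * B * h⁻¹) * B⁻¹ * (hq hi z)⁻¹) := by group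
          _ = _ := by rw [← h3, mul_one]
      have h8 : (h * B * h⁻¹) * B⁻¹ = h * h := by
        have hc2 : (hq hi z)⁻¹ * (h * h) * hq hi z = h * h := by
          rw [show h = hq hi y from rfl, ← map_inv, ← map_mul, ← map_mul, ← map_mul, mul_assoc,
            mul_comm _ z, inv_mul_cancel_left]
        rw [← hc2, ← h7]; group
      have h9 := U_inf_H (mem_UF.1 (mul_mem hB (inv_mem (mem_UF.2 hv : B ∈ (UF (σ := σ))))))
        (mem_HF.1 (h8 ▸ (mem_HF_iff hi).2 ⟨y * y, map_mul _ _ _⟩)) hi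
      exact hy2 (h8.symm.trans (Subtype.ext h9))
  -- the relation between the swap and the unipotent group
  have e := nq_eq (σ := σ) hi
  have e' := congrArg α e
  rw [map_mul, map_mul, map_mul, map_mul, map_inv α, hU, hU, hU] at e'
  have en : α nq = nq * hq hi x := by rw [hx, ht, mul_inv_cancel_left]
  rw [en] at e' ⊢
  set u1 := uq hi (0 : K) 0 1
  set u2 := uq hi (-1 : K) (-1) (-1)
  set u3 := uq hi (-1 : K) 0 1
  set T := hq hi x
  have h1 : nq * (T * u2⁻¹ * T⁻¹ * u2) * nq⁻¹ = u3 * T⁻¹ * u3⁻¹ * (nq * T * nq⁻¹)⁻¹ * (nq * T * nq⁻¹) := by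
    have q1 : nq * T * u2 * T⁻¹ * nq⁻¹ = u1⁻¹ * (nq * T) * u3⁻¹ := by
      conv_rhs => rw [e']
      group
    have q2 : nq * u2 * nq⁻¹ = u1⁻¹ * nq * u3⁻¹ := by
      conv_rhs => rw [e]
      group
    calc nq * (T * u2⁻¹ * T⁻¹ * u2) * nq⁻¹ = (nq * T * u2 * T⁻¹ * nq⁻¹)⁻¹ * (nq * u2 * nq⁻¹) := by group
      _ = _ := by rw [q1, q2]; group
  rw [inv_mul_cancel_right] at h1
  have hu : ∀ t u v, uq hi t u v ∈ (UF (σ := σ)) := fun t u v => (mem_UF_iff hi).2 ⟨t, u, v, rfl⟩
  have hT : T ∈ (HF (σ := σ)) := (mem_HF_iff hi).2 ⟨x, rfl⟩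
  have h5 : T * u2⁻¹ * T⁻¹ * u2 ∈ (UF (σ := σ)) :=
    mul_mem (mem_UF.2 (tor_conj_U hi (mem_HF.1 hT) (mem_UF.1 (inv_mem (hu _ _ _))))) (hu _ _ _)
  have h6 := eq_one_of_opposite hi (mem_UF.1 h5) (by
    have := congrArg Subtype.val h1
    simp only [Subgroup.coe_mul, Subgroup.coe_inv] at this
    simp only [Subgroup.coe_mul, Subgroup.coe_inv]
    change (tw σ).nJ 0 * _ * ((tw σ).nJ 0)⁻¹ = _ at this
    rw [this]
    exact mul_mem (mul_mem (pos_le_borel (mem_UF.1 (hu _ _ _)).1)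
      (inv_mem (diag_le_borel (mem_HF.1 hT).1))) (inv_mem (pos_le_borel (mem_UF.1 (hu _ _ _)).1)))
  have h6' : T * u2⁻¹ * T⁻¹ * u2 = 1 := Subtype.ext h6
  rw [h6', mul_one, mul_inv_cancel] at h1
  have : T⁻¹ = 1 := conj_eq_one_iff.1 h1.symm
  rw [inv_eq_one.1 this, mul_one]

/-- the field automorphisms -/
noncomputable def fieldEnd (hσ : ∀ φ : K ≃+* K, ∀ x, φ (σ x) = σ (φ x)) (hi : Inv3 σ) (φ : K ≃+* K)
    (h4 : Fintype.card K % 4 = 3) {e : ℕ} (he : ∀ x, σ x = x ^ e) : ↥(tw σ).fix →* ↥(tw σ).fix :=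
  ((Matrix.GeneralLinearGroup.map φ.toRingHom).comp (tw σ).fix.subtype).codRestrict _ fun g => by
    have hW : ∀ t u v, Matrix.GeneralLinearGroup.map φ.toRingHom (W (quad σ t u v)) =
        W (quad σ (φ t) (φ u) (φ v)) := fun t u v => by
      simp [W, quad, xx, xG_ringHom, hσ]
    have hn : Matrix.GeneralLinearGroup.map φ.toRingHom ((tw σ).nJ 0 : GL chevG2.Idx K) = (tw σ).nJ 0 := by
      show Matrix.GeneralLinearGroup.map φ.toRingHom (nW K stdG2.good [0, 1, 0, 1, 0, 1]) =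
        nW K stdG2.good [0, 1, 0, 1, 0, 1]
      simp [nW, nS, nG, xG_ringHom]
    have hle : twistedG2 K e ≤ (tw σ).fix.comap (Matrix.GeneralLinearGroup.map φ.toRingHom) := by
      refine gen_le he (fun t u v => ?_) fun w hw => ?_
      · rw [Subgroup.mem_comap, hW]; exact W_quad_fix hi _ _ _
      · rw [Subgroup.mem_comap, map_mul, map_mul, map_inv, hn]
        exact mul_mem (mul_mem ((tw σ).nJ_fix (by decide)) hw) (inv_mem ((tw σ).nJ_fix (by decide)))
    exact hle ((twisted_eq_fix he hi h4).symm ▸ g.2)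

end CfsgLib.Chev.G22
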