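/-
The multiplier of the groups of type twisted G2.
-/
import Cfsg.Agent.Lib.Chev.Twist.Fam.G2Out
import Cfsg.Agent.Lib.Chev.Twist.Fam.G2Forms
import Cfsg.Agent.Lib.Schur.SylowCriterion

set_option autoImplicit false
set_option maxRecDepth 100000

namespace CfsgLib.Chev.G22

open Cfsg.Lie
open scoped commutatorElement

universe u v

section Weights

variable {K : Type*} [Field K] [CharP K 3] [Fintype K] {σ : K →+* K}

lemma neg_one_ne : (-1 : K) ≠ 1 := fun h => two_ne (K := K) (by linear_combination -h)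

lemma add_one_ne {p : K} (hp : p ^ 3 ≠ p) : p + 1 ≠ 0 := fun h => hp (by
  rw [eq_neg_of_add_eq_zero_left h]; ring)

lemma wt_id {p : Kˣ} (hp : (p : K) ^ 3 ≠ p) (φ : K ≃+* K) : ∃ y : Kˣ, (y : K) * φ y ≠ 1 := by
  by_contra hall
  push Not at hall
  have e1 := hall p
  have e2 := hall (Units.mk0 _ (add_one_ne hp))
  rw [Units.val_mk0, map_add, map_one] at e2
  have h : ((p : K) - 1) * ((p : K) - 1) = 0 := by
    linear_combination -e1 + (p : K) * (e2 - e1) - (p : K) * three (K := K)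
  exact hp (by rw [sub_eq_zero.1 (mul_self_eq_zero.1 h), one_pow])

lemma wt_lam (hi : Inv3 σ) {p : Kˣ} (hp : (p : K) ^ 3 ≠ p) (φ : K ≃+* K) :
    ∃ y : Kˣ, lam σ y * φ (lam σ y) ≠ 1 := by
  obtain ⟨z, hz⟩ := wt_id hp φ
  obtain ⟨y, hy⟩ := lam_surj hi z.ne_zero
  exact ⟨y, hy ▸ hz⟩

lemma wt_mu (hi : Inv3 σ) (h4 : Fintype.card K % 4 = 3) {p : Kˣ} (hp : (p : K) ^ 3 ≠ p) (φ : K ≃+* K) :
    ∃ y : Kˣ, mu σ y * φ (mu σ y) ≠ 1 := by
  by_contra hall
  push Not at hall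
  have hM : ∀ y : Kˣ, ((y : K) * φ y) ^ 2 = 1 := by
    intro y
    have step : ∀ y : Kˣ, σ (y : K) ^ 3 * φ (σ (y : K) ^ 3) = (y : K) * φ y := fun y => by
      have h := hall y
      have hy : φ (y : K) ≠ 0 := (map_ne_zero φ).2 y.ne_zero
      rw [mu, map_mul, map_inv₀] at h
      field_simp at h
      linear_combination h
    have h1 := step y
    have h2 := step (Units.mk0 (σ (y : K) ^ 3) (pow_ne_zero _ ((map_ne_zero σ).2 y.ne_zero)))
    rw [Units.val_mk0, map_pow σ, hi, h1, map_pow φ, ← mul_pow] at h2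
    exact mul_right_cancel₀ (mul_ne_zero y.ne_zero ((map_ne_zero φ).2 y.ne_zero))
      (by rw [one_mul, ← pow_succ, h2])
  set P := φ (p : K) with hP
  have e1 := hM p
  have e2 := hM (Units.mk0 _ (add_one_ne hp))
  have hm : (p : K) - 1 ≠ 0 := sub_ne_zero.2 fun h => hp (by rw [h, one_pow])
  have e3 := hM (Units.mk0 _ hm)
  rw [Units.val_mk0, map_add, map_one, ← hP] at e2
  rw [Units.val_mk0, map_sub, map_one, ← hP] at e3
  rw [← hP] at e1
  have hs : ((p : K) * P + 1) * ((p : K) + P) = 0 := by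
    linear_combination e2 - e3 - (((p : K) * P + 1) * ((p : K) + P)) * three (K := K)
  rcases sq_eq_one_iff.1 e1 with e | e
  · rcases mul_eq_zero.1 hs with h | h
    · exact neg_one_ne (K := K) (by linear_combination e - h)
    · exact neg_one_not_square h4 ⟨p, by linear_combination -(p : K) * h + e⟩
  · -- now the sum is plus or minus one
    have hq : ((p : K) + P) ^ 2 = 1 := by
      linear_combination e2 - ((p : K) * P + 1 + 2 * ((p : K) + P)) * e
    rcases sq_eq_one_iff.1 hq with hs | hs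
    · have h : (p : K) ^ 2 = p + 1 := by linear_combination (p : K) * hs - e
      have h3 : (p : K) ^ 4 = -1 := by
        linear_combination ((p : K) ^ 2 + (p : K) + 2) * h + (1 + (p : K)) * three (K := K)
      exact neg_one_not_square h4 ⟨(p : K) ^ 2, by rw [← h3]; ring⟩
    · have h : (p : K) ^ 2 = -p + 1 := by linear_combination (p : K) * hs - e
      have h3 : (p : K) ^ 4 = -1 := by
        linear_combination ((p : K) ^ 2 - (p : K) + 2) * h + (1 - (p : K)) * three (K := K)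
      exact neg_one_not_square h4 ⟨(p : K) ^ 2, by rw [← h3]; ring⟩

lemma mu_neg_one : mu σ (-1 : Kˣ) = 1 := by simp [mu]; ring

lemma lam_neg_one : lam σ (-1 : Kˣ) = -1 := by simp [lam]; ring

lemma wt_u_v (φ : K ≃+* K) : ∃ y : Kˣ, mu σ y * φ (y : K) ≠ 1 :=
  ⟨-1, by rw [mu_neg_one]; simpa using neg_one_ne⟩

lemma wt_t_u (φ : K ≃+* K) : ∃ y : Kˣ, lam σ y * φ (mu σ y) ≠ 1 :=
  ⟨-1, by rw [mu_neg_one, lam_neg_one]; simpa using neg_one_ne⟩

lemma wt_v_t (hi : Inv3 σ) {p : Kˣ} (hp : (p : K) ^ 3 ≠ p) (φ : K ≃+* K) :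
    ∃ y : Kˣ, (y : K) * φ (lam σ y) ≠ 1 := by
  by_contra hall
  push Not at hall
  have h : ∀ y : Kˣ, φ.symm (y : K) * (y : K) ^ 2 = σ (y : K) ^ 3 := fun y => by
    have h := congrArg φ.symm (hall y)
    rw [map_mul, φ.symm_apply_apply, map_one, lam] at h
    have := pow_ne_zero 3 ((map_ne_zero σ).2 y.ne_zero)
    field_simp at h
    linear_combination h
  set ψ := φ.symm (p : K) with hψ
  have e1 := h p
  have e2 := h (Units.mk0 _ (add_one_ne hp))
  rw [Units.val_mk0, map_add, map_one, map_add, map_one, add_pow3, one_pow, ← hψ] at e2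
  rw [← hψ] at e1
  have he : (ψ - p) * ((p : K) - 1) = 0 := by
    linear_combination -(e2 - e1) + (ψ * p + (p : K)) * three (K := K)
  have hm : (p : K) - 1 ≠ 0 := sub_ne_zero.2 fun h => hp (by rw [h, one_pow])
  have hψp := sub_eq_zero.1 ((mul_eq_zero.1 he).resolve_right hm)
  rw [hψp] at e1
  have h4 : σ (p : K) = p := frobenius_inj K 3 (by
    rw [frobenius_def, frobenius_def]; linear_combination -e1)
  exact hp (by have := hi (p : K); rwa [h4, h4] at this)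

end Weights

variable {K : Type*} [Field K] [CharP K 3] [Fintype K] {σ : K →+* K}
  {Γ : Type v} [Group Γ] {π : Γ →* ↥(tw σ).fix}

/-- the condition at the Sylow subgroup for the prime two -/
theorem comm_two (hi : Inv3 σ) {m : ℕ} (hK : Fintype.card K = 3 ^ (2 * m + 1))
    (hsurj : Function.Surjective π) (hc : π.ker ≤ Subgroup.center Γ) {x y : Γ}
    (hx : π x ∈ eSub hi) (hy : π y ∈ eSub hi) : x * y = y * x := by
  classical
  have : Finite (GL chevG2.Idx K) := finite_GL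
  have : Fact (Nat.Prime 2) := ⟨Nat.prime_two⟩
  have hkc : ∀ k ∈ π.ker, ∀ g : Γ, g * k = k * g := fun k hk g => Subgroup.mem_center_iff.1 (hc hk) g
  have hE : ∀ {z w}, z ∈ eSub hi → w ∈ eSub hi → z * w = w * z := by
    rintro _ _ ⟨s, rfl⟩ ⟨r, rfl⟩
    rw [← map_mul, ← map_mul, mul_comm]
  have hsame : ∀ g g' h h' : Γ, π g = π g' → π h = π h' → ⁅g, h⁆ = ⁅g', h'⁆ := by
    intro g g' h h' eg eh
    obtain ⟨k, hk, rfl⟩ : ∃ k ∈ π.ker, g = g' * k :=
      ⟨g'⁻¹ * g, by rw [MonoidHom.mem_ker, map_mul, map_inv, eg, inv_mul_cancel], by group⟩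
    obtain ⟨l, hl, rfl⟩ : ∃ l ∈ π.ker, h = h' * l :=
      ⟨h'⁻¹ * h, by rw [MonoidHom.mem_ker, map_mul, map_inv, eh, inv_mul_cancel], by group⟩
    have c1 : ∀ w : Γ, ⁅k, w⁆ = 1 := fun w => commutatorElement_eq_one_iff_mul_comm.2 (hkc k hk w).symm
    have c2 : ∀ w : Γ, ⁅w, l⁆ = 1 := fun w => commutatorElement_eq_one_iff_mul_comm.2 (hkc l hl w)
    rw [show ⁅g' * k, h' * l⁆ = g' * ⁅k, h' * l⁆ * g'⁻¹ * ⁅g', h'⁆ * (h' * ⁅g', l⁆ * h'⁻¹) by
      simp only [commutatorElement_def]; group, c1, c2]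
    group
  have hconj : ∀ g h z : Γ, ⁅g, h⁆ ∈ π.ker → ⁅z * g * z⁻¹, z * h * z⁻¹⁆ = ⁅g, h⁆ := fun g h z hk => by
    rw [show ⁅z * g * z⁻¹, z * h * z⁻¹⁆ = z * ⁅g, h⁆ * z⁻¹ by simp only [commutatorElement_def]; group,
      hkc _ hk, mul_inv_cancel_right]
  obtain ⟨A, hA⟩ := hsurj (aF hi)
  obtain ⟨W, hW⟩ := hsurj (wF hi)
  obtain ⟨Q, hQ⟩ := hsurj (qF hi)
  obtain ⟨G, hG⟩ := hsurj (gF hi)
  obtain ⟨ma, mw, mq⟩ := mem_eSub hi
  have hk1 : ⁅A, W⁆ ∈ π.ker := by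
    rw [MonoidHom.mem_ker, map_commutatorElement, hA, hW, commutatorElement_eq_one_iff_mul_comm]
    exact hE ma mw
  have hga : π (G⁻¹ * A * G⁻¹⁻¹) = π A := by
    rw [inv_inv, map_mul, map_mul, map_inv, hA, hG, mul_assoc, gF, a_comm, inv_mul_cancel_left]
  have e1 : ⁅A, Q⁆ = ⁅A, W⁆ := by
    rw [← hconj A W G⁻¹ hk1]
    exact hsame _ _ _ _ hga.symm (by rw [inv_inv, map_mul, map_mul, map_inv, hG, hW, hQ, conj_w])
  have e2 : ⁅A, W * Q⁆ = ⁅A, W⁆ := by
    rw [← hconj A W G⁻¹ hk1, ← hconj (G⁻¹ * A * G⁻¹⁻¹) (G⁻¹ * W * G⁻¹⁻¹) G⁻¹ (by rw [hconj A W G⁻¹ hk1]; exact hk1)]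
    refine hsame _ _ _ _ ?_ ?_
    · rw [map_mul π (G⁻¹ * _), map_mul π G⁻¹, hga, inv_inv, map_inv, hA, hG, mul_assoc, gF, a_comm,
        inv_mul_cancel_left]
    · simp only [inv_inv, map_mul, map_inv, hG, hW, hQ, conj_w, conj_q]
  have e3 : ⁅A, W⁆ = 1 := by
    have h : ⁅A, W * Q⁆ = ⁅A, W⁆ * ⁅A, Q⁆ := by
      rw [show ⁅A, W * Q⁆ = ⁅A, W⁆ * (W * ⁅A, Q⁆ * W⁻¹) by simp only [commutatorElement_def]; group,
        hkc _ (show ⁅A, Q⁆ ∈ π.ker by rw [e1]; exact hk1) W, mul_inv_cancel_right]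
    rw [e2, e1] at h
    exact left_eq_mul.1 h
  -- the lift of `a` is central in the preimage
  have hAall : ∀ z, π z ∈ eSub hi → ⁅A, z⁆ = 1 := by
    intro z hz
    have hle : eSub hi ≤ (Subgroup.centralizer {A}).map π := by
      refine eSub_le hi ⟨A, Subgroup.mem_centralizer_singleton_iff.2 rfl, hA⟩ ⟨W, ?_, hW⟩ ⟨Q, ?_, hQ⟩
      · exact Subgroup.mem_centralizer_singleton_iff.2 (commutatorElement_eq_one_iff_mul_comm.1 e3).symm
      · exact Subgroup.mem_centralizer_singleton_iff.2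
          (commutatorElement_eq_one_iff_mul_comm.1 (e1.trans e3)).symm
    obtain ⟨c, hc', ec⟩ := hle hz
    rw [hsame A A z c rfl ec.symm, commutatorElement_eq_one_iff_mul_comm]
    exact (Subgroup.mem_centralizer_singleton_iff.1 hc').symm
  rcases eq_or_ne (π x) 1 with h1 | h1
  · exact (hkc x h1 y).symm
  obtain ⟨E, hEs⟩ := exists_syl hK hi
  obtain ⟨P, hP⟩ := conj_a hi hx h1
  have hcen : ∀ z ∈ eSub hi, z ∈ Subgroup.centralizer ((E : Subgroup ↥(tw σ).fix) : Set ↥(tw σ).fix) :=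
    fun z hz => Subgroup.mem_centralizer_iff.2 fun w hw => hE (hEs ▸ hw) hz
  obtain ⟨n, hn, e⟩ := Sylow.conj_eq_normalizer_conj_of_mem_centralizer E (aF hi) P (hcen _ ma)
    (hP ▸ hcen _ hx)
  rw [← hP] at e
  obtain ⟨N, hN⟩ := hsurj n
  have hn' : ∀ z ∈ eSub hi, n * z * n⁻¹ ∈ eSub hi := fun z hz => by
    rw [← hEs] at hz ⊢
    exact (Subgroup.mem_normalizer_iff.1 hn z).1 hz
  have hk : ⁅x, y⁆ ∈ π.ker := by
    rw [MonoidHom.mem_ker, map_commutatorElement, commutatorElement_eq_one_iff_mul_comm]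
    exact hE hx hy
  refine commutatorElement_eq_one_iff_mul_comm.1 ?_
  rw [← hconj x y N hk, hsame (N * x * N⁻¹) A (N * y * N⁻¹) (N * y * N⁻¹) ?_ rfl]
  · exact hAall _ (by rw [map_mul, map_mul, map_inv, hN]; exact hn' _ hy)
  · rw [map_mul, map_mul, map_inv, hN, e, hA]; group

end CfsgLib.Chev.G22
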