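/-
The multiplier of the groups of type twisted G2: the prime three.
-/
import Cfsg.Agent.Lib.Chev.Twist.Fam.G2Mult

set_option autoImplicit false
set_option maxRecDepth 100000

namespace CfsgLib.Chev.G22

open Cfsg.Lie
open scoped commutatorElement

universe u v

variable {K : Type*} [Field K] [CharP K 3] {σ : K →+* K}

lemma uq_eq (hi : Inv3 σ) (t u v t' u' v' : K) :
    uq hi t u v * uq hi t' u' v' = uq hi (t + t') (u + u' - σ t' ^ 3 * t)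
      (v + v' - σ t' ^ 3 * t ^ 2 - t' * (u - σ t' ^ 3 * t)) := Subtype.ext (quad_mul hi t u v t' u' v')

lemma uq_zero (hi : Inv3 σ) : uq hi (0 : K) 0 0 = 1 := Subtype.ext W_zero

lemma uq_inj'' (hi : Inv3 σ) {t u v t' u' v' : K} (h : uq hi t u v = uq hi t' u' v') :
    t = t' ∧ u = u' ∧ v = v' := quad_inj (congrArg Subtype.val h)

lemma uq_split (hi : Inv3 σ) (t u v : K) : uq hi t u v = uq hi t 0 0 * uq hi 0 u v :=
  Subtype.ext (quad_split hi t u v)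

lemma uq_inv_zero (hi : Inv3 σ) (u v : K) : (uq hi 0 u v)⁻¹ = uq hi 0 (-u) (-v) :=
  inv_eq_of_mul_eq_one_right (by rw [uq_eq, ← uq_zero hi]; simp)

lemma uq_comm_zero (hi : Inv3 σ) (t u v u' v' : K) :
    ⁅uq hi t u v, uq hi 0 u' v'⁆ = uq hi 0 0 (t * u') := by
  have h : uq hi t u v * uq hi 0 u' v' = uq hi 0 0 (t * u') * (uq hi 0 u' v' * uq hi t u v) := by
    simp only [uq_eq, map_zero]; congr 1 <;> ring
  rw [commutatorElement_def, h]; group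

variable [Fintype K] {Γ : Type v} [Group Γ] [Finite Γ] {π : Γ →* ↥(tw σ).fix}

/-- commutators only depend on the images -/
lemma comm_same (hc : π.ker ≤ Subgroup.center Γ) (g g' h h' : Γ) (eg : π g = π g') (eh : π h = π h') :
    ⁅g, h⁆ = ⁅g', h'⁆ := by
  have hkc : ∀ k ∈ π.ker, ∀ g : Γ, g * k = k * g := fun k hk g => Subgroup.mem_center_iff.1 (hc hk) g
  obtain ⟨k, hk, rfl⟩ : ∃ k ∈ π.ker, g = g' * k :=
    ⟨g'⁻¹ * g, by rw [MonoidHom.mem_ker, map_mul, map_inv, eg, inv_mul_cancel], by group⟩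
  obtain ⟨l, hl, rfl⟩ : ∃ l ∈ π.ker, h = h' * l :=
    ⟨h'⁻¹ * h, by rw [MonoidHom.mem_ker, map_mul, map_inv, eh, inv_mul_cancel], by group⟩
  have c1 : ∀ w : Γ, ⁅k, w⁆ = 1 := fun w => commutatorElement_eq_one_iff_mul_comm.2 (hkc k hk w).symm
  have c2 : ∀ w : Γ, ⁅w, l⁆ = 1 := fun w => commutatorElement_eq_one_iff_mul_comm.2 (hkc l hl w)
  rw [show ⁅g' * k, h' * l⁆ = g' * ⁅k, h' * l⁆ * g'⁻¹ * ⁅g', h'⁆ * (h' * ⁅g', l⁆ * h'⁻¹) by
    simp only [commutatorElement_def]; group, c1, c2]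
  group

set_option maxHeartbeats 4000000 in
/-- the condition at the Sylow subgroup for the prime three -/
theorem comm_three (hi : Inv3 σ) (h4 : Fintype.card K % 4 = 3) {y₀ : Kˣ} (hy₀ : (y₀ : K) ^ 3 ≠ y₀)
    (hsurj : Function.Surjective π) (hc : π.ker ≤ Subgroup.center Γ) :
    ∃ S0 : Subgroup Γ, (∀ s ∈ S0, π s = 1 → s = 1) ∧
      ∀ x y, π x ∈ (UF (σ := σ)) → π y ∈ (UF (σ := σ)) → ⁅x, y⁆ ∈ S0 := by
  classical
  letI : CommGroup π.ker :=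
    { (inferInstance : Group π.ker) with
      mul_comm := fun a b => Subtype.ext (Subgroup.mem_center_iff.1 (hc b.2) a) }
  let κ : Γ → Additive π.ker := fun g => if h : g ∈ π.ker then Additive.ofMul ⟨g, h⟩ else 0
  have hκmul : ∀ g g', g ∈ π.ker → g' ∈ π.ker → κ (g * g') = κ g + κ g' := by
    intro g g' hg hg'
    simp only [κ]
    rw [dif_pos (mul_mem hg hg'), dif_pos hg, dif_pos hg']
    rfl
  have hκ0 : ∀ g ∈ π.ker, κ g = 0 → g = 1 := by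
    intro g hg h
    simp only [κ] at h
    rw [dif_pos hg] at h
    exact congrArg Subtype.val (congrArg Additive.toMul h)
  have hkc : ∀ k ∈ π.ker, ∀ g : Γ, g * k = k * g := fun k hk g => Subgroup.mem_center_iff.1 (hc hk) g
  have hsame := comm_same (π := π) hc
  choose L hL using fun t u v => hsurj (uq hi t u v)
  choose τ hτ using fun y => hsurj (hq hi y)
  let cc : Kˣ → Γ → Γ := fun y x => τ y * x * (τ y)⁻¹
  have hcc : ∀ y x t u v, π x = uq hi t u v →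
      π (cc y x) = uq hi (lam σ y * t) (mu σ y * u) ((y : K) * v) := fun y x t u v h => by
    rw [map_mul, map_mul, map_inv, hτ, h, hq_conj]
  have hm1 : ∀ x x' w : Γ, ⁅x', w⁆ ∈ π.ker → ⁅x * x', w⁆ = ⁅x, w⁆ * ⁅x', w⁆ := fun x x' w h => by
    rw [show ⁅x * x', w⁆ = x * ⁅x', w⁆ * x⁻¹ * ⁅x, w⁆ by simp only [commutatorElement_def]; group,
      hkc _ h, mul_inv_cancel_right, ← hkc _ h]
  have hm2 : ∀ x w w' : Γ, ⁅x, w'⁆ ∈ π.ker → ⁅x, w * w'⁆ = ⁅x, w⁆ * ⁅x, w'⁆ := fun x w w' h => by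
    rw [show ⁅x, w * w'⁆ = ⁅x, w⁆ * (w * ⁅x, w'⁆ * w⁻¹) by simp only [commutatorElement_def]; group,
      hkc _ h, mul_inv_cancel_right]
  have pair : ∀ (P Q : K → Γ) (w1 w2 : Kˣ → K), (∀ a b, ⁅P a, Q b⁆ ∈ π.ker) →
      (∀ a a' b, ⁅P (a + a'), Q b⁆ = ⁅P a * P a', Q b⁆) →
      (∀ a b b', ⁅P a, Q (b + b')⁆ = ⁅P a, Q b * Q b'⁆) →
      (∀ y a b, ⁅cc y (P a), cc y (Q b)⁆ = ⁅P (w1 y * a), Q (w2 y * b)⁆) →
      (∀ φ : K ≃+* K, ∃ y, w1 y * φ (w2 y) ≠ 1) → ∀ a b, ⁅P a, Q b⁆ = 1 := by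
    intro P Q w1 w2 hk ha1 ha2 heq hne a b
    refine hκ0 _ (hk a b) (InvForm.eq_zero_of_form (fun a b => κ ⁅P a, Q b⁆) (fun a a' b => ?_)
      (fun a b b' => ?_) w1 w2 (fun y a b => ?_) hne a b)
    · rw [ha1, hm1 _ _ _ (hk a' b), hκmul _ _ (hk a b) (hk a' b)]
    · rw [ha2, hm2 _ _ _ (hk a b'), hκmul _ _ (hk a b) (hk a b')]
    · show κ ⁅P (w1 y * a), Q (w2 y * b)⁆ = κ ⁅P a, Q b⁆
      rw [← heq, show ⁅cc y (P a), cc y (Q b)⁆ = τ y * ⁅P a, Q b⁆ * (τ y)⁻¹ by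
        simp only [cc, commutatorElement_def]; group, hkc _ (hk a b), mul_inv_cancel_right]
  have hker : ∀ x w : Γ, π x * π w = π w * π x → ⁅x, w⁆ ∈ π.ker := fun x w h => by
    rw [MonoidHom.mem_ker, map_commutatorElement, commutatorElement_eq_one_iff_mul_comm.2 h]
  have hVc : ∀ u v u' v', uq hi 0 u v * uq hi 0 u' v' = uq hi 0 (u + u') (v + v') := fun u v u' v' => by
    simp [uq_eq]
  have hZc : ∀ a t u v, uq hi 0 0 a * uq hi t u v = uq hi t u (a + v) ∧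
      uq hi t u v * uq hi 0 0 a = uq hi t u (v + a) := fun a t u v => by simp [uq_eq]
  -- the second layer is abelian
  have huu : ∀ a b, ⁅L 0 a 0, L 0 b 0⁆ = 1 := by
    refine pair (fun a => L 0 a 0) (fun b => L 0 b 0) (mu σ) (mu σ) (fun a b => hker _ _ ?_)
      (fun a a' b => hsame _ _ _ _ ?_ rfl) (fun a b b' => hsame _ _ _ _ rfl ?_)
      (fun y a b => hsame _ _ _ _ ?_ ?_) (wt_mu hi h4 hy₀)
    · rw [hL, hL, hVc, hVc, add_comm a]
    · rw [map_mul, hL, hL, hL, hVc, add_zero]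
    · rw [map_mul, hL, hL, hL, hVc, add_zero]
    · rw [hcc y _ 0 a 0 (hL _ _ _), hL, mul_zero, mul_zero]
    · rw [hcc y _ 0 b 0 (hL _ _ _), hL, mul_zero, mul_zero]
  have hzz : ∀ a b, ⁅L 0 0 a, L 0 0 b⁆ = 1 := by
    refine pair (fun a => L 0 0 a) (fun b => L 0 0 b) (fun y => (y : K)) (fun y => (y : K))
      (fun a b => hker _ _ ?_)
      (fun a a' b => hsame _ _ _ _ ?_ rfl) (fun a b b' => hsame _ _ _ _ rfl ?_)
      (fun y a b => hsame _ _ _ _ ?_ ?_) (wt_id hy₀)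
    · rw [hL, hL, hVc, hVc, add_comm a]
    · rw [map_mul, hL, hL, hL, hVc, add_zero]
    · rw [map_mul, hL, hL, hL, hVc, add_zero]
    · rw [hcc y _ 0 0 a (hL _ _ _), hL, mul_zero, mul_zero]
    · rw [hcc y _ 0 0 b (hL _ _ _), hL, mul_zero, mul_zero]
  have huz : ∀ a b, ⁅L 0 a 0, L 0 0 b⁆ = 1 := by
    refine pair (fun a => L 0 a 0) (fun b => L 0 0 b) (mu σ) (fun y => (y : K))
      (fun a b => hker _ _ ?_)
      (fun a a' b => hsame _ _ _ _ ?_ rfl) (fun a b b' => hsame _ _ _ _ rfl ?_)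
      (fun y a b => hsame _ _ _ _ ?_ ?_) wt_u_v
    · simp [hL, hVc]
    · rw [map_mul, hL, hL, hL, hVc, add_zero]
    · rw [map_mul, hL, hL, hL, hVc, add_zero]
    · rw [hcc y _ 0 a 0 (hL _ _ _), hL, mul_zero, mul_zero]
    · rw [hcc y _ 0 0 b (hL _ _ _), hL, mul_zero, mul_zero]
  have hV : ∀ x w u v u' v', π x = uq hi 0 u v → π w = uq hi 0 u' v' → ⁅x, w⁆ = 1 := by
    intro x w u v u' v' hx hw
    rw [hsame x (L 0 u 0 * L 0 0 v) w (L 0 u' 0 * L 0 0 v') (by rw [hx, map_mul, hL, hL, hVc]; simp)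
      (by rw [hw, map_mul, hL, hL, hVc]; simp)]
    exact commutatorElement_eq_one_iff_mul_comm.2 (Commute.mul_left
      (Commute.mul_right (commutatorElement_eq_one_iff_mul_comm.1 (huu u u'))
        (commutatorElement_eq_one_iff_mul_comm.1 (huz u v')))
      (Commute.mul_right (commutatorElement_eq_one_iff_mul_comm.1 (huz u' v)).symm
        (commutatorElement_eq_one_iff_mul_comm.1 (hzz v v')))).eq
  -- the last layer is central
  have hzt : ∀ a t, ⁅L 0 0 a, L t 0 0⁆ = 1 := by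
    have hk : ∀ a t u v, ⁅L 0 0 a, L t u v⁆ ∈ π.ker := fun a t u v => hker _ _ (by
      rw [hL, hL, (hZc a t u v).1, (hZc a t u v).2, add_comm])
    have hred : ∀ a x t u v, π x = uq hi t u v → ⁅L 0 0 a, x⁆ = ⁅L 0 0 a, L t 0 0⁆ := by
      intro a x t u v hx
      rw [hsame _ (L 0 0 a) x (L t 0 0 * L 0 u v) rfl (by rw [hx, map_mul, hL, hL, ← uq_split]),
        hm2 _ _ _ (hk _ _ _ _), hV _ _ 0 a u v (hL _ _ _) (hL _ _ _), mul_one]
    refine pair (fun a => L 0 0 a) (fun b => L b 0 0) (fun y => (y : K)) (lam σ) (fun a b => hk _ _ _ _)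
      (fun a a' b => hsame _ _ _ _ ?_ rfl) (fun a b b' => ?_)
      (fun y a b => hsame _ _ _ _ ?_ ?_) (wt_v_t hi hy₀)
    · rw [map_mul, hL, hL, hL, hVc, add_zero]
    · exact (hred a _ (b + b') _ _ (by rw [map_mul, hL, hL, uq_eq])).symm
    · rw [hcc y _ 0 0 a (hL _ _ _), hL, mul_zero, mul_zero]
    · rw [hcc y _ b 0 0 (hL _ _ _), hL, mul_zero, mul_zero]
  have hZ : ∀ z x a t u v, π z = uq hi 0 0 a → π x = uq hi t u v → ⁅z, x⁆ = 1 := by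
    intro z x a t u v hz hx
    rw [hsame z (L 0 0 a) x (L t 0 0 * L 0 u v) (by rw [hz, hL]) (by rw [hx, map_mul, hL, hL, ← uq_split])]
    exact commutatorElement_eq_one_iff_mul_comm.2 (Commute.mul_right
      (commutatorElement_eq_one_iff_mul_comm.1 (hzt a t))
      (commutatorElement_eq_one_iff_mul_comm.1 (hV _ _ _ _ _ _ (hL 0 0 a) (hL 0 u v)))).eq
  -- the equivariant complement
  set T0 := τ y₀ with hT0
  have hD : ∀ g u v, π g = uq hi 0 u v →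
      π ⁅T0, g⁆ = uq hi 0 (mu σ y₀ * u + -u) ((y₀ : K) * v + -v) := fun g u v h => by
    rw [map_commutatorElement, commutatorElement_def, hT0, hτ, h, hq_conj, mul_zero, uq_inv_zero, hVc]
  have hDmul : ∀ g g' u v u' v', π g = uq hi 0 u v → π g' = uq hi 0 u' v' →
      ⁅T0, g * g'⁆ = ⁅T0, g⁆ * ⁅T0, g'⁆ := fun g g' u v u' v' h h' => by
    rw [show ⁅T0, g * g'⁆ = ⁅T0, g⁆ * (g * ⁅T0, g'⁆ * g⁻¹) by simp only [commutatorElement_def]; group,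
      commutatorElement_eq_one_iff_mul_comm.1 (hV g _ _ _ _ _ h (hD _ _ _ h')), mul_inv_cancel_right]
  let S0 : Subgroup Γ :=
    { carrier := {x | ∃ g u v, π g = uq hi 0 u v ∧ x = ⁅T0, g⁆}
      one_mem' := ⟨1, 0, 0, by rw [map_one, uq_zero], by simp⟩
      mul_mem' := by
        rintro x w ⟨g, u, v, hg, rfl⟩ ⟨g', u', v', hg', rfl⟩
        exact ⟨g * g', _, _, by rw [map_mul, hg, hg', hVc], (hDmul _ _ _ _ _ _ hg hg').symm⟩
      inv_mem' := by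
        rintro x ⟨g, u, v, hg, rfl⟩
        have hg' : π g⁻¹ = uq hi 0 (-u) (-v) := by rw [map_inv, hg, uq_inv_zero]
        refine ⟨g⁻¹, _, _, hg', inv_eq_of_mul_eq_one_right ?_⟩
        rw [← hDmul _ _ _ _ _ _ hg hg', mul_inv_cancel]; simp }
  have hmu : mu σ y₀ - 1 ≠ 0 := sub_ne_zero.2 fun h => by
    rw [mu, mul_inv_eq_one₀ y₀.ne_zero] at h
    exact hy₀ (scale_ne' hi h)
  have hy1 : (y₀ : K) - 1 ≠ 0 := sub_ne_zero.2 fun h => hy₀ (by rw [h, one_pow])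
  have hinj : ∀ s ∈ S0, π s = 1 → s = 1 := by
    rintro s ⟨g, u, v, hg, rfl⟩ h
    rw [hD g u v hg, ← uq_zero hi] at h
    obtain ⟨-, e1, e2⟩ := uq_inj'' hi h
    have hu : u = 0 := (mul_eq_zero.1 (show (mu σ y₀ - 1) * u = 0 by linear_combination e1)).resolve_left hmu
    have hv : v = 0 := (mul_eq_zero.1 (show ((y₀ : K) - 1) * v = 0 by linear_combination e2)).resolve_left hy1
    rw [hu, hv, uq_zero] at hg
    exact commutatorElement_eq_one_iff_mul_comm.2 (hkc g hg T0)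
  have hsplit : ∀ x u v, π x = uq hi 0 u v → ∃ k ∈ π.ker, x * k⁻¹ ∈ S0 := by
    intro x u v hx
    set g := L 0 (u / (mu σ y₀ - 1)) (v / ((y₀ : K) - 1))
    refine ⟨⁅T0, g⁆⁻¹ * x, ?_, ⟨g, _, _, hL _ _ _, by group⟩⟩
    rw [MonoidHom.mem_ker, map_mul, map_inv, hD g _ _ (hL _ _ _), hx, inv_mul_eq_one]
    congr 1 <;> field_simp <;> ring
  have hcc0 : ∀ y, ∀ s ∈ S0, cc y s ∈ S0 := by
    rintro y s ⟨g, u, v, hg, rfl⟩
    haveI : IsCyclic ↥(hq (σ := σ) hi).range :=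
      isCyclic_of_surjective _ (MonoidHom.rangeRestrict_surjective _)
    have h1 : cc y T0 = T0 := by
      simp only [cc]
      rw [Schur.commute_of_map_cyclic π hc (S := (hq (σ := σ) hi).range) inferInstance (x := τ y) (y := T0)
        ⟨y, (hτ y).symm⟩ ⟨y₀, (hτ y₀).symm⟩, mul_inv_cancel_right]
    refine ⟨cc y g, _, _, (hcc y g 0 u v hg).trans (by rw [mul_zero]), ?_⟩
    conv_rhs => rw [← h1]
    simp only [cc, commutatorElement_def]; group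
  -- the projection on the kernel
  let P : Γ → Additive π.ker := fun x =>
    if h : ∃ k ∈ π.ker, x * k⁻¹ ∈ S0 then κ h.choose else 0
  have hP : ∀ x k, k ∈ π.ker → x * k⁻¹ ∈ S0 → P x = κ k := by
    intro x k hk hxk
    have hex : ∃ k ∈ π.ker, x * k⁻¹ ∈ S0 := ⟨k, hk, hxk⟩
    simp only [P]
    rw [dif_pos hex]
    obtain ⟨hk', hxk'⟩ := hex.choose_spec
    have h := hinj _ (mul_mem (inv_mem hxk') hxk) (by
      rw [map_mul, map_inv, map_mul, map_mul, map_inv, map_inv, MonoidHom.mem_ker.1 hk,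
        MonoidHom.mem_ker.1 hk']; simp)
    refine congrArg κ (mul_inv_eq_one.1 ?_)
    rw [← h]; group
  have hPmul : ∀ x w u v u' v', π x = uq hi 0 u v → π w = uq hi 0 u' v' → P (x * w) = P x + P w := by
    intro x w u v u' v' hx hw
    obtain ⟨k, hk, hxk⟩ := hsplit x u v hx
    obtain ⟨l, hl, hwl⟩ := hsplit w u' v' hw
    rw [hP x k hk hxk, hP w l hl hwl, hP (x * w) (k * l) (mul_mem hk hl) (by
      have : x * w * (k * l)⁻¹ = x * k⁻¹ * (w * l⁻¹) := by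
        rw [_root_.mul_inv_rev, show x * w * (l⁻¹ * k⁻¹) = x * (w * l⁻¹ * k⁻¹) by group,
          hkc _ (inv_mem hk) (w * l⁻¹)]
        group
      rw [this]; exact mul_mem hxk hwl), hκmul k l hk hl]
  have hP0 : ∀ x u v, π x = uq hi 0 u v → P x = 0 → x ∈ S0 := by
    intro x u v hx h
    obtain ⟨k, hk, hxk⟩ := hsplit x u v hx
    rw [hP x k hk hxk] at h
    rwa [hκ0 k hk h, inv_one, mul_one] at hxk
  have hPS : ∀ s ∈ S0, P s = 0 := fun s hs => by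
    rw [hP s 1 (one_mem _) (by simpa using hs)]
    simp only [κ]; rw [dif_pos (one_mem _)]; rfl
  have hPconj : ∀ c, (∀ s ∈ S0, c * s * c⁻¹ ∈ S0) → ∀ x u v, π x = uq hi 0 u v →
      P (c * x * c⁻¹) = P x := by
    intro c hcs x u v hx
    obtain ⟨k, hk, hxk⟩ := hsplit x u v hx
    rw [hP x k hk hxk, hP (c * x * c⁻¹) k hk]
    have := hcs _ hxk
    rwa [show c * (x * k⁻¹) * c⁻¹ = c * x * c⁻¹ * k⁻¹ by
      rw [show c * x * c⁻¹ * k⁻¹ = c * x * (c⁻¹ * k⁻¹) by group, hkc _ (inv_mem hk) c⁻¹]; group] at this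
  -- commutators with the second layer
  have hxg : ∀ x g t u v u' v', π x = uq hi t u v → π g = uq hi 0 u' v' →
      π ⁅x, g⁆ = uq hi 0 0 (t * u') := fun x g t u v u' v' hx hg => by
    rw [map_commutatorElement, hx, hg, uq_comm_zero]
  have hx2 : ∀ x g g' t u v u1 v1 u2 v2, π x = uq hi t u v → π g = uq hi 0 u1 v1 →
      π g' = uq hi 0 u2 v2 → ⁅x, g * g'⁆ = ⁅x, g⁆ * ⁅x, g'⁆ := fun x g g' t u v u1 v1 u2 v2 hx h h' => by
    rw [show ⁅x, g * g'⁆ = ⁅x, g⁆ * (g * ⁅x, g'⁆ * g⁻¹) by simp only [commutatorElement_def]; group,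
      commutatorElement_eq_one_iff_mul_comm.1 (hV g _ _ _ _ _ h (hxg _ _ _ _ _ _ _ hx h')),
      mul_inv_cancel_right]
  have hx1 : ∀ x x' g t u v t' u' v' a b, π x = uq hi t u v → π x' = uq hi t' u' v' →
      π g = uq hi 0 a b → ⁅x * x', g⁆ = ⁅x', g⁆ * ⁅x, g⁆ := fun x x' g t u v t' u' v' a b hx hx' hg => by
    rw [show ⁅x * x', g⁆ = x * ⁅x', g⁆ * x⁻¹ * ⁅x, g⁆ by simp only [commutatorElement_def]; group,
      ← commutatorElement_eq_one_iff_mul_comm.1 (hZ _ x _ _ _ _ (hxg _ _ _ _ _ _ _ hx' hg) hx),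
      mul_inv_cancel_right]
  have hred : ∀ x g t u v u' v', π x = uq hi t u v → π g = uq hi 0 u' v' →
      ⁅x, g⁆ = ⁅L t 0 0, L 0 u' 0⁆ := by
    intro x g t u v u' v' hx hg
    rw [hsame x (L t 0 0 * L 0 u v) g (L 0 u' 0 * L 0 0 v') (by rw [hx, map_mul, hL, hL, ← uq_split])
      (by rw [hg, map_mul, hL, hL, hVc]; simp),
      hx1 _ _ (L 0 u' 0 * L 0 0 v') _ _ _ _ _ _ u' v' (hL t 0 0) (hL 0 u v)
        (by rw [map_mul, hL, hL, hVc]; simp),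
      hV (L 0 u v) _ u v u' v' (hL _ _ _) (by rw [map_mul, hL, hL, hVc]; simp), one_mul,
      hx2 _ _ _ _ _ _ _ _ _ _ (hL t 0 0) (hL 0 u' 0) (hL 0 0 v'),
      commutatorElement_eq_one_iff_mul_comm.2
        (commutatorElement_eq_one_iff_mul_comm.1 (hzt v' t)).symm, mul_one]
  have htu : ∀ t u, P ⁅L t 0 0, L 0 u 0⁆ = 0 := by
    refine InvForm.eq_zero_of_form (fun t u => P ⁅L t 0 0, L 0 u 0⁆) (fun a a' b => ?_) (fun a b b' => ?_)
      (lam σ) (mu σ) (fun y a b => ?_) wt_t_u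
    · rw [← hred (L a 0 0 * L a' 0 0) (L 0 b 0) (a + a') _ _ b 0 (by rw [map_mul, hL, hL, uq_eq]) (hL _ _ _),
        hx1 _ _ _ _ _ _ _ _ _ _ _ (hL a 0 0) (hL a' 0 0) (hL 0 b 0),
        hPmul _ _ _ _ _ _ (hxg _ _ _ _ _ _ _ (hL _ _ _) (hL _ _ _)) (hxg _ _ _ _ _ _ _ (hL _ _ _) (hL _ _ _)),
        add_comm]
    · rw [← hred (L a 0 0) (L 0 b 0 * L 0 b' 0) a 0 0 (b + b') 0 (hL _ _ _)
          (by rw [map_mul, hL, hL, hVc, add_zero]),
        hx2 _ _ _ _ _ _ _ _ _ _ (hL a 0 0) (hL 0 b 0) (hL 0 b' 0),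
        hPmul _ _ _ _ _ _ (hxg _ _ _ _ _ _ _ (hL _ _ _) (hL _ _ _)) (hxg _ _ _ _ _ _ _ (hL _ _ _) (hL _ _ _))]
    · show P ⁅L (lam σ y * a) 0 0, L 0 (mu σ y * b) 0⁆ = P ⁅L a 0 0, L 0 b 0⁆
      rw [← hred (cc y (L a 0 0)) (cc y (L 0 b 0)) (lam σ y * a) _ _ (mu σ y * b) _
          (hcc y _ _ _ _ (hL _ _ _)) ((hcc y _ _ _ _ (hL _ _ _)).trans (by rw [mul_zero])),
        show ⁅cc y (L a 0 0), cc y (L 0 b 0)⁆ = τ y * ⁅L a 0 0, L 0 b 0⁆ * (τ y)⁻¹ by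
          simp only [cc, commutatorElement_def]; group]
      exact hPconj _ (hcc0 y) _ _ _ (hxg _ _ _ _ _ _ _ (hL _ _ _) (hL _ _ _))
  have hxgS : ∀ x g t u v u' v', π x = uq hi t u v → π g = uq hi 0 u' v' → ⁅x, g⁆ ∈ S0 := by
    intro x g t u v u' v' hx hg
    refine hP0 _ _ _ (hxg _ _ _ _ _ _ _ hx hg) ?_
    rw [hred _ _ _ _ _ _ _ hx hg]; exact htu _ _
  have hS0V : ∀ s ∈ S0, ∃ u v, π s = uq hi 0 u v := by
    rintro s ⟨g, u, v, hg, rfl⟩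
    exact ⟨_, _, hD g u v hg⟩
  have hnorm : ∀ x t u v, π x = uq hi t u v → ∀ s ∈ S0, x * s * x⁻¹ ∈ S0 := by
    intro x t u v hx s hs
    obtain ⟨a, b, hab⟩ := hS0V s hs
    rw [show x * s * x⁻¹ = ⁅x, s⁆ * s by simp only [commutatorElement_def]; group]
    exact mul_mem (hxgS _ _ _ _ _ _ _ hx hab) hs
  -- commutators of the whole group
  have hinU : ∀ x, π x ∈ (UF (σ := σ)) → ∃ t u v, π x = uq hi t u v := fun x hx => by
    obtain ⟨t, u, v, e⟩ := (mem_UF_iff hi).1 hx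
    exact ⟨t, u, v, e.symm⟩
  have hUm : ∀ t u v, uq hi t u v ∈ (UF (σ := σ)) := fun t u v => (mem_UF_iff hi).2 ⟨t, u, v, rfl⟩
  have hcomV : ∀ x w t u v t' u' v', π x = uq hi t u v → π w = uq hi t' u' v' →
      ∃ a b, π ⁅x, w⁆ = uq hi 0 a b := by
    intro x w t u v t' u' v' hx hw
    obtain ⟨s, a, b, h1⟩ := (mem_UF_iff hi).1 (inv_mem (hUm t u v))
    obtain ⟨s', a', b', h2⟩ := (mem_UF_iff hi).1 (inv_mem (hUm t' u' v'))
    have e1 := mul_inv_cancel (uq hi t u v)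
    have e2 := mul_inv_cancel (uq hi t' u' v')
    rw [← h1, uq_eq, ← uq_zero hi] at e1
    rw [← h2, uq_eq, ← uq_zero hi] at e2
    obtain ⟨A, B, e⟩ : ∃ A B, uq hi t u v * uq hi t' u' v' * uq hi s a b * uq hi s' a' b' =
        uq hi (t + t' + s + s') A B := ⟨_, _, by rw [uq_eq, uq_eq, uq_eq]⟩
    refine ⟨A, B, ?_⟩
    rw [map_commutatorElement, hx, hw, commutatorElement_def, ← h1, ← h2, e,
      show t + t' + s + s' = 0 by linear_combination (uq_inj'' hi e1).1 + (uq_inj'' hi e2).1]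
  have hd1 : ∀ x x' w, π x ∈ (UF (σ := σ)) → π x' ∈ (UF (σ := σ)) → π w ∈ (UF (σ := σ)) →
      P ⁅x * x', w⁆ = P ⁅x, w⁆ + P ⁅x', w⁆ := by
    intro x x' w hx hx' hw
    obtain ⟨t, u, v, hx⟩ := hinU x hx
    obtain ⟨t', u', v', hx'⟩ := hinU x' hx'
    obtain ⟨t'', u'', v'', hw⟩ := hinU w hw
    obtain ⟨a, b, h1⟩ := hcomV x' w _ _ _ _ _ _ hx' hw
    obtain ⟨a', b', h2⟩ := hcomV x w _ _ _ _ _ _ hx hw
    obtain ⟨a'', b'', h3⟩ : ∃ a'' b'', π (x * ⁅x', w⁆ * x⁻¹) = uq hi 0 a'' b'' := by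
      refine ⟨a, t * a + b, ?_⟩
      rw [show x * ⁅x', w⁆ * x⁻¹ = ⁅x, ⁅x', w⁆⁆ * ⁅x', w⁆ by simp only [commutatorElement_def]; group,
        map_mul, hxg _ _ _ _ _ _ _ hx h1, h1, hVc, zero_add]
    rw [show ⁅x * x', w⁆ = x * ⁅x', w⁆ * x⁻¹ * ⁅x, w⁆ by simp only [commutatorElement_def]; group,
      hPmul _ _ _ _ _ _ h3 h2, hPconj x (hnorm x t u v hx) _ _ _ h1, add_comm]
  have hd2 : ∀ x w w', π x ∈ (UF (σ := σ)) → π w ∈ (UF (σ := σ)) → π w' ∈ (UF (σ := σ)) →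
      P ⁅x, w * w'⁆ = P ⁅x, w⁆ + P ⁅x, w'⁆ := by
    intro x w w' hx hw hw'
    obtain ⟨t, u, v, hx⟩ := hinU x hx
    obtain ⟨t', u', v', hw⟩ := hinU w hw
    obtain ⟨t'', u'', v'', hw'⟩ := hinU w' hw'
    obtain ⟨a, b, h1⟩ := hcomV x w' _ _ _ _ _ _ hx hw'
    obtain ⟨a', b', h2⟩ := hcomV x w _ _ _ _ _ _ hx hw
    obtain ⟨a'', b'', h3⟩ : ∃ a'' b'', π (w * ⁅x, w'⁆ * w⁻¹) = uq hi 0 a'' b'' := by
      refine ⟨a, t' * a + b, ?_⟩
      rw [show w * ⁅x, w'⁆ * w⁻¹ = ⁅w, ⁅x, w'⁆⁆ * ⁅x, w'⁆ by simp only [commutatorElement_def]; group,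
        map_mul, hxg _ _ _ _ _ _ _ hw h1, h1, hVc, zero_add]
    rw [show ⁅x, w * w'⁆ = ⁅x, w⁆ * (w * ⁅x, w'⁆ * w⁻¹) by simp only [commutatorElement_def]; group,
      hPmul _ _ _ _ _ _ h2 h3, hPconj w (hnorm w _ _ _ hw) _ _ _ h1]
  have hdsame : ∀ x w t u v t' u' v', π x = uq hi t u v → π w = uq hi t' u' v' →
      P ⁅x, w⁆ = P ⁅L t 0 0, L t' 0 0⁆ := by
    intro x w t u v t' u' v' hx hw
    rw [hsame x (L t 0 0 * L 0 u v) w (L t' 0 0 * L 0 u' v') (by rw [hx, map_mul, hL, hL, ← uq_split])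
      (by rw [hw, map_mul, hL, hL, ← uq_split]),
      hd1 _ _ _ (by rw [hL]; exact hUm _ _ _) (by rw [hL]; exact hUm _ _ _)
        (by rw [map_mul, hL, hL]; exact mul_mem (hUm _ _ _) (hUm _ _ _)),
      hd2 _ _ _ (by rw [hL]; exact hUm _ _ _) (by rw [hL]; exact hUm _ _ _) (by rw [hL]; exact hUm _ _ _),
      hd2 _ _ _ (by rw [hL]; exact hUm _ _ _) (by rw [hL]; exact hUm _ _ _) (by rw [hL]; exact hUm _ _ _),
      hPS _ (hxgS _ _ _ _ _ _ _ (hL t 0 0) (hL 0 u' v')),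
      hV _ _ _ _ _ _ (hL 0 u v) (hL 0 u' v'),
      hPS ⁅L 0 u v, L t' 0 0⁆ (commutatorElement_inv (L t' 0 0) (L 0 u v) ▸
        inv_mem (hxgS _ _ _ _ _ _ _ (hL t' 0 0) (hL 0 u v))),
      hPS 1 (one_mem _), add_zero, add_zero, add_zero]
  have htt : ∀ t t', P ⁅L t 0 0, L t' 0 0⁆ = 0 := by
    refine InvForm.eq_zero_of_form (fun t t' => P ⁅L t 0 0, L t' 0 0⁆) (fun a a' b => ?_) (fun a b b' => ?_)
      (lam σ) (lam σ) (fun y a b => ?_) (wt_lam hi hy₀)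
    · rw [← hdsame (L a 0 0 * L a' 0 0) (L b 0 0) (a + a') _ _ b 0 0 (by rw [map_mul, hL, hL, uq_eq]) (hL _ _ _),
        hd1 _ _ _ (by rw [hL]; exact hUm _ _ _) (by rw [hL]; exact hUm _ _ _) (by rw [hL]; exact hUm _ _ _)]
    · rw [← hdsame (L a 0 0) (L b 0 0 * L b' 0 0) a 0 0 (b + b') _ _ (hL _ _ _) (by rw [map_mul, hL, hL, uq_eq]),
        hd2 _ _ _ (by rw [hL]; exact hUm _ _ _) (by rw [hL]; exact hUm _ _ _) (by rw [hL]; exact hUm _ _ _)]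
    · show P ⁅L (lam σ y * a) 0 0, L (lam σ y * b) 0 0⁆ = P ⁅L a 0 0, L b 0 0⁆
      rw [← hdsame (cc y (L a 0 0)) (cc y (L b 0 0)) (lam σ y * a) _ _ (lam σ y * b) _ _
          (hcc y _ _ _ _ (hL _ _ _)) (hcc y _ _ _ _ (hL _ _ _)),
        show ⁅cc y (L a 0 0), cc y (L b 0 0)⁆ = τ y * ⁅L a 0 0, L b 0 0⁆ * (τ y)⁻¹ by
          simp only [cc, commutatorElement_def]; group]
      obtain ⟨c, d, h⟩ := hcomV _ _ _ _ _ _ _ _ (hL a 0 0) (hL b 0 0)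
      exact hPconj _ (hcc0 y) _ _ _ h
  refine ⟨S0, hinj, fun x w hx hw => ?_⟩
  obtain ⟨t, u, v, hx⟩ := hinU x hx
  obtain ⟨t', u', v', hw⟩ := hinU w hw
  obtain ⟨a, b, h⟩ := hcomV x w _ _ _ _ _ _ hx hw
  refine hP0 _ _ _ h ?_
  rw [hdsame x w t u v t' u' v' hx hw]; exact htt _ _

end CfsgLib.Chev.G22
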