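/-
The outer automorphism group of the groups of type twisted G2.
-/
import Cfsg.Agent.Lib.Chev.Twist.Fam.G2Out
import Cfsg.Prelude.Def_KGroupFacts

set_option autoImplicit false
set_option maxRecDepth 100000

namespace CfsgLib.Chev

open Cfsg.Lie

lemma tor_ringHom {F : Type*} [Field F] (f : F →+* F) {D : ChevalleyDatum} {A : Aux}
    (c : Fin D.rank → Fˣ) :
    Matrix.GeneralLinearGroup.map f (tor D A c) =
      tor D A (fun i => Units.map f.toMonoidHom (c i)) := by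
  apply Units.ext
  show ((tor D A c : GL D.Idx F) : Matrix D.Idx D.Idx F).map f = _
  rw [tor_val, tor_val, dia, dia, Matrix.diagonal_map (map_zero f)]
  congr 1
  funext x
  rcases x with _ | s <;> simp [chi]

namespace G22

variable {K : Type*} [Field K] [CharP K 3] {σ : K →+* K}

lemma sigma_comm {e : ℕ} (he : ∀ x, σ x = x ^ e) (φ : K ≃+* K) (x : K) : φ (σ x) = σ (φ x) := by
  rw [he, he, map_pow]

lemma uq_cube (hi : Inv3 σ) {t u v : K} (h : uq hi t u v ^ 3 = 1) : t = 0 := by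
  have h' := congrArg Subtype.val h
  change W (quad σ t u v) ^ 3 = 1 at h'
  rw [pow_succ, pow_two, quad_mul hi, quad_mul hi, ← W_zero (σ := σ)] at h'
  obtain ⟨-, -, h3⟩ := quad_inj h'
  have e : σ t ^ 3 * t ^ 2 = 0 := by linear_combination -h3 + (v - t * u) * three (K := K)
  rcases mul_eq_zero.1 e with e | e
  · exact (map_eq_zero σ).1 (pow_eq_zero_iff three_ne_zero |>.1 e)
  · exact pow_eq_zero_iff two_ne_zero |>.1 e

lemma uq_mul (hi : Inv3 σ) (t u v t' u' v' : K) :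
    ∃ a b, uq hi t u v * uq hi t' u' v' = uq hi (t + t') a b :=
  ⟨_, _, Subtype.ext (quad_mul hi t u v t' u' v')⟩

lemma uq_inj (hi : Inv3 σ) {t u v t' u' v' : K} (h : uq hi t u v = uq hi t' u' v') :
    t = t' ∧ u = u' ∧ v = v' := quad_inj (congrArg Subtype.val h)

variable [Fintype K] {e : ℕ} (hi : Inv3 σ) (h4 : Fintype.card K % 4 = 3) (he : ∀ x, σ x = x ^ e)

/-- a field automorphism of the group -/
noncomputable def fieldAut : (K ≃+* K) →* MulAut ↥(tw σ).fix where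
  toFun φ :=
    { toFun := fieldEnd (sigma_comm he) hi φ h4 he
      invFun := fieldEnd (sigma_comm he) hi φ.symm h4 he
      left_inv := fun _ => Subtype.ext (Units.ext (Matrix.ext fun _ _ => φ.symm_apply_apply _))
      right_inv := fun _ => Subtype.ext (Units.ext (Matrix.ext fun _ _ => φ.apply_symm_apply _))
      map_mul' := map_mul _ }
  map_one' := MulEquiv.ext fun _ => Subtype.ext (Units.ext (Matrix.ext fun _ _ => rfl))
  map_mul' _ _ := MulEquiv.ext fun _ => Subtype.ext (Units.ext (Matrix.ext fun _ _ => rfl))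

lemma fieldAut_uq (φ : K ≃+* K) (t u v : K) :
    fieldAut hi h4 he φ (uq hi t u v) = uq hi (φ t) (φ u) (φ v) := by
  refine Subtype.ext ?_
  show Matrix.GeneralLinearGroup.map φ.toRingHom (W (quad σ t u v)) = W (quad σ (φ t) (φ u) (φ v))
  simp [W, quad, xx, xG_ringHom, sigma_comm he]

lemma fieldAut_hq (φ : K ≃+* K) (y : Kˣ) :
    fieldAut hi h4 he φ (hq hi y) = hq hi (Units.map φ.toRingHom.toMonoidHom y) := by
  refine Subtype.ext ?_
  show Matrix.GeneralLinearGroup.map φ.toRingHom (hR σ y) = hR σ (Units.map φ.toRingHom.toMonoidHom y)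
  show Matrix.GeneralLinearGroup.map φ.toRingHom (tor chevG2 auxG2 _) = tor chevG2 auxG2 _
  rw [tor_ringHom]
  refine congrArg _ (ext_ix fun k => Units.ext ?_)
  fin_cases k
  · exact sigma_comm he φ y
  · rfl

variable {m : ℕ}

/-- every automorphism is inner times field -/
theorem exists_conj_field (hm : 1 ≤ m) (hK : Fintype.card K = 3 ^ (2 * m + 1))
    (α₀ : MulAut ↥(tw σ).fix) : ∃ k φ, α₀ = MulAut.conj k * fieldAut hi h4 he φ := by
  classical
  obtain ⟨y₀, hy₀⟩ := exists_outside hm hK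
  set S := reeSys hm hK hi h4
  have hfin : Finite ↥(tw σ).fix := S.finite
  have hUm : ∀ t u v, uq hi t u v ∈ S.U := fun t u v => (mem_UF_iff hi).2 ⟨t, u, v, rfl⟩
  have hHm : ∀ y, hq hi y ∈ S.H := fun y => (mem_HF_iff hi).2 ⟨y, rfl⟩
  have hU' : ∀ {g}, g ∈ S.U → ∃ t u v, uq hi t u v = g := fun hg => (mem_UF_iff hi).1 hg
  have hH' : ∀ {g}, g ∈ S.H → ∃ y, hq hi y = g := fun hg => (mem_HF_iff hi).1 hg
  have hUH : ∀ {g u}, g ∈ S.H → u ∈ S.U → g * u * g⁻¹ ∈ S.U := by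
    intro g u hg hu
    obtain ⟨y, rfl⟩ := hH' hg
    obtain ⟨t, a, b, rfl⟩ := hU' hu
    rw [hq_conj]
    exact hUm _ _ _
  have hdis : ∀ x, x ∈ S.U → x ∈ S.H → x = 1 := fun x => Subgroup.disjoint_def.1 S.disjoint_UH
  have : Fact (Nat.Prime 3) := ⟨Nat.prime_three⟩
  obtain ⟨g, hg⟩ := S.three_le_U (P := S.U.map α₀.toMonoidHom)
    ((IsPGroup.of_card (p := 3) (n := (2 * m + 1) * 3) (G := S.U)
      (by rw [S.cardU, Ree.qq, ← pow_mul])).map _)
  set α₁ := MulAut.conj g⁻¹ * α₀ with hα₁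
  have h1 : ∀ x ∈ S.U, α₁ x ∈ S.U := fun x hx => by
    have := Ree.mem_conj_map.1 (hg ⟨x, hx, rfl⟩)
    simpa [hα₁] using this
  have hsurj : ∀ x ∈ S.U, ∃ y ∈ S.U, α₁ y = x := by
    have h : S.U.map α₁.toMonoidHom = S.U :=
      Subgroup.eq_of_le_of_card_ge (Subgroup.map_le_iff_le_comap.2 h1)
        (Subgroup.card_map_of_injective (f := α₁.toMonoidHom) α₁.injective).ge
    intro x hx
    rw [← h] at hx
    obtain ⟨y, hy, hyx⟩ := hx
    exact ⟨y, hy, hyx⟩
  have hN : ∀ x ∈ Subgroup.normalizer (S.U : Set ↥(tw σ).fix),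
      α₁ x ∈ Subgroup.normalizer (S.U : Set ↥(tw σ).fix) := by
    intro x hx
    rw [Subgroup.mem_normalizer_iff] at hx ⊢
    intro z
    constructor
    · intro hz
      obtain ⟨y, hy, rfl⟩ := hsurj z hz
      rw [← map_inv, ← map_mul, ← map_mul]
      exact h1 _ ((hx y).1 hy)
    · intro hz
      obtain ⟨y, hy, hzy⟩ := hsurj _ hz
      have : z = α₁ (x⁻¹ * y * x) := by
        rw [map_mul, map_mul, hzy, map_inv]
        group
      rw [this]
      refine h1 _ ((hx _).2 ?_)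
      simpa [mul_assoc] using hy
  set h₀ := hq hi y₀
  obtain ⟨u, hu, h, hh, euh⟩ :=
    (S.normU _).1 (hN _ ((S.normU h₀).2 ⟨1, one_mem _, h₀, hHm _, (one_mul _).symm⟩))
  have hy2 : h₀ * h₀ ≠ 1 := by
    rw [← map_mul, ← map_one (hq hi)]
    intro e'
    have e'' := congrArg Units.val (hq_inj hi e')
    push_cast at e''
    exact hy₀ (by rw [pow_succ, sq, e'', one_mul])
  have hh2 : h * h ≠ 1 := by
    intro e'
    obtain ⟨y, hy, hy'⟩ := hsurj (α₁ (h₀ * h₀)) (by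
      rw [map_mul, euh, show u * h * (u * h) = u * (h * u * h⁻¹) * (h * h) by group, e', mul_one]
      exact mul_mem hu (hUH hh hu))
    exact hy2 (hdis _ (α₁.injective hy' ▸ hy) (mul_mem (hHm _) (hHm _)))
  obtain ⟨⟨c, hc⟩, hcu⟩ : ∃ c : S.U, (c : ↥(tw σ).fix)⁻¹ * (h * c * h⁻¹) = u := by
    obtain ⟨c, hc⟩ := Finite.surjective_of_injective
      (f := fun c : S.U => (⟨(c : ↥(tw σ).fix)⁻¹ * (h * c * h⁻¹), mul_mem (inv_mem c.2) (hUH hh c.2)⟩ : S.U))
      (fun c d e' => by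
        have e'' : (c : ↥(tw σ).fix)⁻¹ * (h * c * h⁻¹) = (d : ↥(tw σ).fix)⁻¹ * (h * d * h⁻¹) :=
          congrArg Subtype.val e'
        have hm' : (d : ↥(tw σ).fix) * (c : ↥(tw σ).fix)⁻¹ ∈ Ree.Cn h := by
          rw [Ree.mem_Cn]
          calc (d : ↥(tw σ).fix) * (c : ↥(tw σ).fix)⁻¹ * h
              = d * ((c : ↥(tw σ).fix)⁻¹ * (h * c * h⁻¹)) * h * (c : ↥(tw σ).fix)⁻¹ := by group
            _ = d * ((d : ↥(tw σ).fix)⁻¹ * (h * d * h⁻¹)) * h * (c : ↥(tw σ).fix)⁻¹ := by rw [e'']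
            _ = _ := by group
        rw [S.hCent h hh hh2] at hm'
        exact Subtype.ext (mul_inv_eq_one.1 (hdis _ (mul_mem d.2 (inv_mem c.2)) hm')).symm)
      ⟨u, hu⟩
    exact ⟨c, congrArg Subtype.val hc⟩
  set α₂ := MulAut.conj c * α₁ with hα₂
  have h2U : ∀ x ∈ S.U, α₂ x ∈ S.U := fun x hx => by
    rw [hα₂, MulAut.mul_apply, MulAut.conj_apply]
    exact mul_mem (mul_mem hc (h1 x hx)) (inv_mem hc)
  have h2h : α₂ h₀ = h := by
    rw [hα₂, MulAut.mul_apply, MulAut.conj_apply, euh, ← hcu]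
    group
  have h2H : ∀ y, ∃ y', α₂ (hq hi y) = hq hi y' := by
    intro y
    have hm' : α₂ (hq hi y) ∈ Ree.Cn h := by
      rw [Ree.mem_Cn, ← h2h, ← map_mul, ← map_mul, ← map_mul, ← map_mul, mul_comm]
    rw [S.hCent h hh hh2] at hm'
    obtain ⟨y', hy'⟩ := hH' hm'
    exact ⟨y', hy'.symm⟩
  choose τ hτ using h2H
  have h2e : ∀ t u v, ∃ a b c, α₂ (uq hi t u v) = uq hi a b c := fun t u v => by
    obtain ⟨a, b, c, e'⟩ := hU' (h2U _ (hUm t u v))
    exact ⟨a, b, c, e'.symm⟩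
  choose A B C hA using h2e
  have hA0 : ∀ u v, A 0 u v = 0 := fun u v => by
    refine uq_cube hi (u := B 0 u v) (v := C 0 u v) ?_
    rw [← hA, ← map_pow, show uq hi 0 u v ^ 3 = 1 from Subtype.ext (W_cube_zero u v), map_one]
  set ψ := fun t => A t 0 0 with hψ
  have hAt : ∀ t u v, A t u v = ψ t := fun t u v => by
    have e1 : uq hi t u v = uq hi t 0 0 * uq hi 0 u v := Subtype.ext (quad_split hi t u v)
    have e2 := congrArg α₂ e1
    rw [map_mul, hA, hA, hA] at e2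
    obtain ⟨a, b, e3⟩ := uq_mul hi (A t 0 0) (B t 0 0) (C t 0 0) (A 0 u v) (B 0 u v) (C 0 u v)
    rw [e3] at e2
    rw [(uq_inj hi e2).1, hA0, add_zero]
  have hψadd : ∀ x y, ψ (x + y) = ψ x + ψ y := fun x y => by
    obtain ⟨a, b, e1⟩ := uq_mul hi x 0 0 y 0 0
    have e2 := congrArg α₂ e1
    rw [map_mul, hA, hA, hA] at e2
    obtain ⟨a', b', e3⟩ := uq_mul hi (A x 0 0) (B x 0 0) (C x 0 0) (A y 0 0) (B y 0 0) (C y 0 0)
    rw [e3] at e2
    have := (uq_inj hi e2).1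
    rw [hAt (x + y) a b] at this
    exact this.symm
  have hψ0 : ψ 0 = 0 := hA0 0 0
  have hψz : ∀ x, ψ x = 0 → x = 0 := fun x hx => by
    refine uq_cube hi (u := 0) (v := 0) (α₂.injective ?_)
    rw [map_pow, map_one, hA, show A x 0 0 = 0 from hx]
    exact Subtype.ext (W_cube_zero _ _)
  have hψs : ∀ y x, ψ (lam σ y * x) = lam σ (τ y) * ψ x := fun y x => by
    have e1 := congrArg α₂ (hq_conj hi y x 0 0)
    rw [map_mul, map_mul, map_inv, hτ, hA, hq_conj, hA] at e1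
    have := (uq_inj hi e1).1
    rw [hAt (lam σ y * x)] at this
    exact this.symm
  set f := ψ 1 with hf
  have hf0 : f ≠ 0 := fun e' => one_ne_zero (hψz 1 e')
  have hmul : ∀ x y, ψ (x * y) * f = ψ x * ψ y := by
    intro x y
    rcases eq_or_ne x 0 with rfl | hx
    · simp [hψ0]
    · obtain ⟨w, rfl⟩ := lam_surj hi hx
      have e1 := hψs w 1
      rw [mul_one] at e1
      rw [hψs, e1, ← hf]
      ring
  let φ : K ≃+* K := RingEquiv.ofBijective
    ({ toFun := fun x => ψ x / f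
       map_one' := div_self hf0
       map_mul' := fun x y => by
        field_simp
        linear_combination hmul x y
       map_zero' := by rw [hψ0, zero_div]
       map_add' := fun x y => by rw [hψadd, add_div] } : K →+* K)
    (Finite.injective_iff_bijective.1 (RingHom.injective _))
  have hφ : ∀ x, φ x = ψ x / f := fun x => rfl
  obtain ⟨z, hz⟩ := lam_surj hi (inv_ne_zero hf0)
  set α₃ := (fieldAut hi h4 he φ)⁻¹ * (MulAut.conj (hq hi z) * α₂) with hα₃
  have h3U : ∀ t u v, ∃ u' v', α₃ (uq hi t u v) = uq hi t u' v' := fun t u v => by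
    refine ⟨φ.symm (mu σ z * B t u v), φ.symm ((z : K) * C t u v), ?_⟩
    rw [hα₃, MulAut.mul_apply, MulAut.mul_apply, MulAut.conj_apply, hA, hq_conj, hAt,
      MulAut.inv_apply, MulEquiv.symm_apply_eq, fieldAut_uq, φ.apply_symm_apply,
      φ.apply_symm_apply, hz, hφ, mul_comm, ← div_eq_mul_inv]
  have h3H : ∀ y, α₃ (hq hi y) = hq hi y := by
    intro y
    obtain ⟨y', hy'⟩ : ∃ y', α₃ (hq hi y) = hq hi y' := by
      refine ⟨Units.map φ.symm.toRingHom.toMonoidHom (τ y), ?_⟩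
      rw [hα₃, MulAut.mul_apply, MulAut.mul_apply, MulAut.conj_apply, hτ, ← map_inv (hq hi),
        ← map_mul, ← map_mul, mul_comm z, mul_inv_cancel_right, MulAut.inv_apply,
        MulEquiv.symm_apply_eq, fieldAut_hq]
      exact congrArg _ (Units.ext (φ.apply_symm_apply _).symm)
    have e1 := congrArg α₃ (hq_conj hi y 1 0 0)
    obtain ⟨b, c', e2⟩ := h3U 1 0 0
    obtain ⟨b', c'', e3⟩ := h3U (lam σ y * 1) (mu σ y * 0) ((y : K) * 0)
    rw [map_mul, map_mul, map_inv, hy', e2, e3, hq_conj] at e1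
    have := (uq_inj hi e1).1
    rw [mul_one, mul_one] at this
    rw [hy', lam_inj hi this]
  have hfixU := fix_U hi h4 hy₀ α₃ h3H h3U
  have hfixn := fix_n hi hy₀ α₃ h3H hfixU
  have hone : α₃ = 1 := MulEquiv.ext fun x =>
    eq_id_of_gens hi (α := α₃.toMonoidHom) hfixU h3H hfixn x
  refine ⟨(hq hi z * (c * g⁻¹))⁻¹, φ, ?_⟩
  rw [hα₃, inv_mul_eq_one, hα₂, hα₁, ← mul_assoc, ← mul_assoc, ← map_mul, ← map_mul] at hone
  rw [hone, map_inv, mul_assoc (hq hi z), inv_mul_cancel_left]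

/-- a field automorphism that is inner is trivial -/
theorem fieldAut_inner (hm : 1 ≤ m) (hK : Fintype.card K = 3 ^ (2 * m + 1)) {k : ↥(tw σ).fix}
    {φ : K ≃+* K} (h : fieldAut hi h4 he φ = MulAut.conj k) : φ = 1 := by
  set S := reeSys hm hK hi h4
  have happ : ∀ g, k * g * k⁻¹ = fieldAut hi h4 he φ g := fun g => by rw [h, MulAut.conj_apply]
  have hkN : k ∈ Subgroup.normalizer (S.U : Set ↥(tw σ).fix) := by
    rw [Subgroup.mem_normalizer_iff]
    intro x
    constructor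
    · intro hx
      obtain ⟨t, u, v, rfl⟩ := (mem_UF_iff hi).1 hx
      rw [happ, fieldAut_uq]
      exact (mem_UF_iff hi).2 ⟨_, _, _, rfl⟩
    · intro hx
      obtain ⟨t, u, v, ex⟩ := (mem_UF_iff hi).1 hx
      refine (mem_UF_iff hi).2 ⟨φ.symm t, φ.symm u, φ.symm v, (fieldAut hi h4 he φ).injective ?_⟩
      rw [← happ x, ← ex, fieldAut_uq, φ.apply_symm_apply, φ.apply_symm_apply, φ.apply_symm_apply]
  obtain ⟨u, hu, s, hs, rfl⟩ := (S.normU k).1 hkN
  obtain ⟨z, rfl⟩ := (mem_HF_iff hi).1 hs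
  refine RingEquiv.ext fun x => ?_
  rcases eq_or_ne x 0 with rfl | hx
  · rw [map_zero, map_zero]
  set y := Units.mk0 x hx
  have e1 := happ (hq hi y)
  rw [fieldAut_hq, show u * hq hi z * hq hi y * (u * hq hi z)⁻¹ =
    u * (hq hi z * hq hi y * (hq hi z)⁻¹) * u⁻¹ by group, ← map_inv (hq hi), ← map_mul, ← map_mul,
    mul_comm z y, mul_inv_cancel_right] at e1
  have e2 : u * (hq hi y * u⁻¹ * (hq hi y)⁻¹) =
      hq hi (Units.map φ.toRingHom.toMonoidHom y * y⁻¹) := by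
    rw [map_mul, map_inv, ← e1]
    group
  have hU : u * (hq hi y * u⁻¹ * (hq hi y)⁻¹) ∈ S.U := by
    obtain ⟨a, b, c, hu'⟩ := (mem_UF_iff hi).1 (inv_mem hu : u⁻¹ ∈ S.U)
    rw [← hu', hq_conj]
    exact mul_mem hu ((mem_UF_iff hi).2 ⟨_, _, _, rfl⟩)
  have e3 := Subgroup.disjoint_def.1 S.disjoint_UH hU (e2 ▸ (mem_HF_iff hi).2 ⟨_, rfl⟩)
  rw [e3, eq_comm, ← map_one (hq hi)] at e2
  exact congrArg Units.val (mul_inv_eq_one.1 (hq_inj hi e2))

include hi h4 he in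
/-- `|Out(²G₂(q))| = 2m + 1` -/
theorem natCard_out (hm : 1 ≤ m) (hK : Fintype.card K = 3 ^ (2 * m + 1)) :
    Nat.card (Cfsg.Out ↥(tw σ).fix) = 2 * m + 1 := by
  haveI : Fact (Nat.Prime 3) := ⟨Nat.prime_three⟩
  rw [← CfsgLib.KnownB.PSLAut.card_gal (F := K) (p := 3) (f := 2 * m + 1) (by omega) hK]
  refine (Nat.card_eq_of_bijective (fun φ : K ≃+* K =>
    (QuotientGroup.mk (fieldAut hi h4 he φ) : Cfsg.Out ↥(tw σ).fix)) ⟨fun φ φ' hφ => ?_, fun x => ?_⟩).symm
  · obtain ⟨k, hk⟩ := QuotientGroup.eq.1 hφ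
    rw [← map_inv, ← map_mul] at hk
    exact inv_mul_eq_one.1 (fieldAut_inner hi h4 he hm hK hk.symm)
  · induction x using QuotientGroup.induction_on with | H α => ?_
    obtain ⟨k, φ, rfl⟩ := exists_conj_field hi h4 he hm hK α
    refine ⟨φ, QuotientGroup.eq.2 ⟨(fieldAut hi h4 he φ)⁻¹ k, ?_⟩⟩
    refine MulEquiv.ext fun g => ?_
    simp [MulAut.inv_apply]

end G22

end CfsgLib.Chev
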