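/-
The groups of type twisted G2 have trivial multiplier.
-/
import Cfsg.Agent.Lib.Chev.Twist.Fam.G2Mult3

set_option autoImplicit false

namespace CfsgLib.Chev.G22

open Cfsg.Lie

variable {K : Type*} [Field K] [CharP K 3] [Fintype K] {σ : K →+* K}

/-- trivial multiplier -/
theorem multiplier_trivial {m : ℕ} (hm : 1 ≤ m) (hK : Fintype.card K = 3 ^ (2 * m + 1)) (hi : Inv3 σ)
    (h4 : Fintype.card K % 4 = 3) : Cfsg.HasCyclicSchurMultiplier ↥(tw σ).fix 1 := by
  classical
  set S := reeSys hm hK hi h4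
  haveI : Finite ↥(tw σ).fix := S.finite
  obtain ⟨y₀, hy₀⟩ := exists_outside hm hK
  refine Schur.hasCyclicSchurMultiplier_one_of_sylow fun p hp => ?_
  by_cases h2 : p = 2
  · subst h2
    obtain ⟨E, hE⟩ := exists_syl hK hi
    refine ⟨E, fun Γ _ _ π hsurj hc x hx hk => ?_⟩
    rw [hE] at hx
    rw [← Subgroup.mem_bot]
    refine Subgroup.commutator_le.2 ?_ hx
    intro a ha b hb
    rw [Subgroup.mem_bot, commutatorElement_eq_one_iff_mul_comm]
    exact comm_two hi hK hsurj hc ha hb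
  by_cases h3 : p = 3
  · subst h3
    obtain ⟨k, hk, hnd⟩ := Ree.three_part (m := m)
    have hk0 : k ≠ 0 := fun e => hnd hm (e ▸ dvd_zero 3)
    have hUc : Nat.card S.U = 3 ^ ((Nat.card ↥(tw σ).fix).factorization 3) := by
      rw [S.cardU, S.card, hk, Nat.factorization_mul (pow_ne_zero _ (by norm_num)) hk0,
        Finsupp.add_apply, Nat.prime_three.factorization_pow, Finsupp.single_eq_same,
        Nat.factorization_eq_zero_of_not_dvd (hnd hm), add_zero, Ree.qq, ← pow_mul, mul_comm]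
    refine ⟨Sylow.ofCard S.U hUc, fun Γ _ _ π hsurj hc x hx hk' => ?_⟩
    obtain ⟨S0, hinj, hcom⟩ := comm_three hi h4 hy₀ hsurj hc
    rw [Sylow.coe_ofCard] at hx
    refine hinj x ?_ hk'
    exact Subgroup.commutator_le.2 (fun a ha b hb => hcom a b ha hb) hx
  · haveI := Classical.inhabited_of_nonempty (Sylow.nonempty (p := p) (G := ↥(tw σ).fix))
    refine ⟨default, fun Γ _ _ π _ hc x hx _ => ?_⟩
    exact Schur.sylow_condition_of_cyclic π hc (S.cyc p (S.prime_gt hp.out h2 h3) default) x hx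

end CfsgLib.Chev.G22
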