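/-
The group of type twisted G2 over the field with three elements.
-/
import Cfsg.Agent.Lib.Chev.Twist.Fam.G2Mult3
import Cfsg.Agent.Lib.Small.Order504

set_option autoImplicit false
set_option maxRecDepth 100000
set_option maxHeartbeats 400000
set_option linter.unusedVariables false

namespace CfsgLib.Chev.G22.Three

open Cfsg.Lie
open scoped commutatorElement

/-- a transfer whose values are invariant under fusion -/
lemma transfer_char {G A : Type*} [Group G] [CommGroup A] {H : Subgroup G} [H.FiniteIndex]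
    (ϕ : H →* A) {g : G} (hg : g ∈ H)
    (key : ∀ x (hx : x ∈ H) (g₀ : G) (hc : g₀⁻¹ * x * g₀ ∈ H), ϕ ⟨g₀⁻¹ * x * g₀, hc⟩ = ϕ ⟨x, hx⟩) :
    MonoidHom.transfer ϕ g = ϕ ⟨g, hg⟩ ^ H.index := by
  classical
  let := H.fintypeQuotientOfFiniteIndex
  rw [MonoidHom.transfer_eq_prod_quotient_orbitRel_zpowers_quot,
    Subgroup.index_eq_sum_minimalPeriod H g, ← Finset.prod_pow_eq_pow_sum]
  refine Finset.prod_congr rfl fun q _ => ?_
  rw [key _ (pow_mem hg _), ← map_pow]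
  rfl

variable {K : Type*} [Field K] [CharP K 3] [Fintype K] {σ : K →+* K} (hi : Inv3 σ)
  (hσ : ∀ x, σ x = x) (hK : Fintype.card K = 3)

/-- the three elements -/
lemma cases3 (hK : Fintype.card K = 3) (x : K) : x = 0 ∨ x = 1 ∨ x = -1 := by
  have h := FiniteField.pow_card x
  rw [hK] at h
  rcases eq_or_ne x 0 with h0 | h0
  · exact Or.inl h0
  · refine Or.inr (sq_eq_one_iff.1 (mul_right_cancel₀ h0 ?_))
    rw [one_mul, ← pow_succ, h]

lemma cube_id (hK : Fintype.card K = 3) (x : K) : x ^ 3 = x := by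
  have h := FiniteField.pow_card x
  rwa [hK] at h

lemma card_mult (hK : Fintype.card K = 3) : Nat.card (Multiplicative K) = 3 := by
  rw [Nat.card_congr Multiplicative.toAdd, Nat.card_eq_fintype_card, hK]

lemma hK1 (hK : Fintype.card K = 3) : Fintype.card K = 3 ^ (2 * 0 + 1) := by rw [hK]; rfl

instance fixFinite : Finite ↥(tw σ).fix :=
  haveI : Finite (GL chevG2.Idx K) := finite_GL
  inferInstance

include hi hσ hK

lemma card_G3 : Nat.card ↥(tw σ).fix = 1512 := by rw [(orders hi hK).2]; norm_num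

lemma card_U : Nat.card (UF (σ := σ)) = 27 := by
  rw [UF, Nat.card_congr (Subgroup.subgroupOfEquivOfLe inf_le_right).toEquiv,
    (orders hi hK).1]
  norm_num

lemma uq_mem (t u v : K) : uq hi t u v ∈ (UF (σ := σ)) := (mem_UF_iff hi).2 ⟨t, u, v, rfl⟩

lemma index_U : (UF (σ := σ)).index = 56 := by
  have h := (UF (σ := σ)).card_mul_index
  rw [(card_U hi hσ hK), (card_G3 hi hσ hK)] at h
  omega

lemma units3 (y : Kˣ) : y = 1 ∨ y = -1 := by
  rcases cases3 hK (y : K) with e | e | e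
  · exact absurd e y.ne_zero
  · exact Or.inl (Units.ext e)
  · exact Or.inr (Units.ext (by simpa using e))

omit hσ hK in
lemma chi_exists (x : ↥(UF (σ := σ))) :
    ∃ c : K, ∀ t u v, uq hi t u v = (x : ↥(tw σ).fix) → c = u - t ^ 2 := by
  obtain ⟨t, u, v, e⟩ := (mem_UF_iff hi).1 x.2
  refine ⟨u - t ^ 2, fun t' u' v' e' => ?_⟩
  obtain ⟨e1, e2, -⟩ := uq_inj'' hi (e.trans e'.symm)
  rw [e1, e2]

/-- the linear character of the unipotent group -/
noncomputable def chi3 : ↥(UF (σ := σ)) →* Multiplicative K :=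
  MonoidHom.mk' (fun x => Multiplicative.ofAdd (chi_exists hi x).choose) fun x y => by
    obtain ⟨t, u, v, ex⟩ := (mem_UF_iff hi).1 x.2
    obtain ⟨t', u', v', ey⟩ := (mem_UF_iff hi).1 y.2
    have hxy := (chi_exists hi (x * y)).choose_spec _ _ _
      ((uq_eq hi t u v t' u' v').symm.trans (by rw [Subgroup.coe_mul, ex, ey]))
    rw [hxy, (chi_exists hi x).choose_spec _ _ _ ex, (chi_exists hi y).choose_spec _ _ _ ey,
      ← ofAdd_add, hσ, cube_id hK]
    exact congrArg _ (by linear_combination -(t * t') * three (K := K))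

lemma chi3_uq {t u v : K} (h : uq hi t u v ∈ (UF (σ := σ))) :
    (chi3 hi hσ hK) ⟨_, h⟩ = Multiplicative.ofAdd (u - t ^ 2) :=
  congrArg Multiplicative.ofAdd ((chi_exists hi ⟨_, h⟩).choose_spec t u v rfl)

lemma norm_form {g w : ↥(tw σ).fix} (hw : w ∈ (UF (σ := σ))) (hw1 : w ≠ 1) (hg : g * w * g⁻¹ ∈ (UF (σ := σ))) :
    ∃ u ∈ (UF (σ := σ)), ∃ y, g = u * hq hi y := by
  rcases cells hi g.2 with ⟨u, hu, t, ht, e⟩ | ⟨u, hu, t, ht, v, hv, e⟩
  · obtain ⟨y, hy⟩ := (mem_HF_iff hi).1 (mem_HF.2 ht : (⟨t, ht.2⟩ : ↥(tw σ).fix) ∈ (HF (σ := σ)))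
    exact ⟨⟨u, hu.2⟩, mem_UF.2 hu, y, Subtype.ext (by rw [Subgroup.coe_mul, hy]; exact e)⟩
  · exfalso
    have hw' := mem_UF.1 hg
    rw [Subgroup.coe_mul, Subgroup.coe_mul, Subgroup.coe_inv, e] at hw'
    have hx := tor_conj_U hi ht (mul_mem (mul_mem hv (mem_UF.1 hw)) (inv_mem hv))
    have h1 : (tw σ).nJ 0 * (t * (v * w * v⁻¹) * t⁻¹) * ((tw σ).nJ 0)⁻¹ ∈
        chevG2.borelSubgroup K := by
      have := mul_mem (mul_mem (inv_mem hu) hw') hu
      rw [show u⁻¹ * (u * (tw σ).nJ 0 * t * v * w * (u * (tw σ).nJ 0 * t * v)⁻¹) * u =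
        (tw σ).nJ 0 * (t * (v * w * v⁻¹) * t⁻¹) * ((tw σ).nJ 0)⁻¹ by group] at this
      exact pos_le_borel this.1
    have h2 := eq_one_of_opposite hi hx h1
    rw [mul_inv_eq_one, mul_eq_left, mul_inv_eq_one, mul_eq_left] at h2
    exact hw1 (Subtype.ext h2)

/-- the homomorphism onto the group of order three -/
noncomputable def phi : ↥(tw σ).fix →* Multiplicative K := MonoidHom.transfer (chi3 hi hσ hK)

lemma phi_uq (t u v : K) : (phi hi hσ hK) (uq hi t u v) = Multiplicative.ofAdd (2 * (u - t ^ 2)) := by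
  rw [phi, transfer_char (chi3 hi hσ hK) ((uq_mem hi hσ hK) t u v) ?_, (chi3_uq hi hσ hK), (index_U hi hσ hK), ← ofAdd_nsmul]
  · refine congrArg _ ?_
    rw [nsmul_eq_mul]
    push_cast
    linear_combination (18 * (u - t ^ 2)) * three (K := K)
  intro x hx g₀ hc
  rcases eq_or_ne x 1 with rfl | hx1
  · exact congrArg (chi3 hi hσ hK) (Subtype.ext (by group))
  obtain ⟨w, hw, y, hwy⟩ := norm_form hi hσ hK (g := g₀⁻¹) hx hx1 (by rw [inv_inv]; exact hc)
  obtain ⟨a, b, c, rfl⟩ := (mem_UF_iff hi).1 hx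
  rw [show (⟨g₀⁻¹ * uq hi a b c * g₀, hc⟩ : ↥(UF (σ := σ))) =
    ⟨w, hw⟩ * ⟨_, (uq_mem hi hσ hK) (lam σ y * a) (mu σ y * b) ((y : K) * c)⟩ * ⟨w, hw⟩⁻¹ from Subtype.ext (by
      show g₀⁻¹ * uq hi a b c * g₀ = w * uq hi _ _ _ * w⁻¹
      rw [← hq_conj, show g₀ = (g₀⁻¹)⁻¹ by group, inv_inv, hwy]; group),
    map_mul, map_mul, map_inv, mul_inv_cancel_comm, (chi3_uq hi hσ hK), (chi3_uq hi hσ hK)]
  refine congrArg _ ?_
  rcases (units3 hi hσ hK) y with rfl | rfl <;> simp [lam, mu] <;> ring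

lemma mult3_sq : ∀ a : Multiplicative K, a * a = 1 → a = 1 := fun a h => by
  have h' : a.toAdd + a.toAdd = 0 := congrArg Multiplicative.toAdd h
  refine Multiplicative.toAdd.injective ?_
  show a.toAdd = 0
  linear_combination -h' + a.toAdd * three (K := K)

lemma phi_invol {x : ↥(tw σ).fix} (h : x * x = 1) : (phi hi hσ hK) x = 1 := (mult3_sq hi hσ hK) _ (by rw [← map_mul, h, map_one])

/-- an element outside the kernel -/
noncomputable def fF : ↥(tw σ).fix := uq hi 0 1 0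

lemma fF_pow (a : Multiplicative K) : ∃ k : ℕ, (phi hi hσ hK) ((fF hi) ^ k) = a := by
  obtain ⟨k, hk⟩ : ∃ k : ℕ, (k : K) * 2 = a.toAdd := by
    rcases cases3 hK a.toAdd with e | e | e
    · exact ⟨0, by rw [e]; simp⟩
    · exact ⟨2, by rw [e]; linear_combination three (K := K)⟩
    · exact ⟨1, by rw [e]; push_cast; linear_combination three (K := K)⟩
  refine ⟨k, ?_⟩
  rw [map_pow, fF, (phi_uq hi hσ hK), ← ofAdd_nsmul, ← ofAdd_toAdd a, ← hk, nsmul_eq_mul]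
  congr 1
  ring

/-- the kernel -/
noncomputable abbrev L3 : Subgroup ↥(tw σ).fix := (phi hi hσ hK).ker

lemma card_L3 : Nat.card (L3 hi hσ hK) = 504 := by
  have hs : Function.Surjective (phi hi hσ hK) := fun a => ((fF_pow hi hσ hK) a).elim fun k hk => ⟨_, hk⟩
  have h := (phi hi hσ hK).ker.card_mul_index
  rw [Subgroup.index_ker, MonoidHom.range_eq_top.2 hs, Subgroup.card_top, (card_G3 hi hσ hK),
    card_mult hK] at h
  change Nat.card (phi hi hσ hK).ker = 504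
  omega

lemma aF_mem : aF hi ∈ (L3 hi hσ hK) := (phi_invol hi hσ hK) (aF_sq hi)

lemma hq_neg : hq hi (-1 : Kˣ) = aF hi := Subtype.ext rfl

lemma invol_conj {x : ↥(tw σ).fix} (hx : x * x = 1) (hx1 : x ≠ 1) : ∃ l ∈ (L3 hi hσ hK), x = l * aF hi * l⁻¹ := by
  have : Fact (Nat.Prime 2) := ⟨Nat.prime_two⟩
  obtain ⟨E, hE⟩ := exists_syl (hK1 hK) hi
  obtain ⟨Q, hQ⟩ := (IsPGroup.of_card (p := 2) (n := 1) (G := Subgroup.zpowers x)
    (by rw [Nat.card_zpowers, orderOf_eq_prime (by rw [sq, hx]) hx1, pow_one])).exists_le_sylow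
  obtain ⟨g, rfl⟩ := MulAction.exists_smul_eq ↥(tw σ).fix E Q
  have hm' := hQ (Subgroup.mem_zpowers x)
  rw [Sylow.coe_subgroup_smul, hE] at hm'
  obtain ⟨u, hu, hux⟩ := hm'
  have hux' : g * u * g⁻¹ = x := hux
  obtain ⟨P, rfl⟩ := conj_a hi hu (fun e => hx1 (by rw [← hux', e]; group))
  obtain ⟨k, hk⟩ := (fF_pow hi hσ hK) ((phi hi hσ hK) (g * P⁻¹))
  refine ⟨g * P⁻¹ * ((fF hi) ^ k)⁻¹, ?_, ?_⟩
  · show (phi hi hσ hK) _ = 1
    rw [map_mul, map_inv (phi hi hσ hK) ((fF hi) ^ k), hk, mul_inv_cancel]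
  · have hc : Commute ((fF hi) ^ k) (aF hi) := by
      refine Commute.pow_left ?_ k
      have := hq_conj hi (-1 : Kˣ) 0 1 0
      rw [(hq_neg hi hσ hK), mu_neg_one, one_mul, mul_zero, mul_zero, mul_inv_eq_iff_eq_mul] at this
      exact this.symm
    rw [← hux', show g * P⁻¹ * ((fF hi) ^ k)⁻¹ * aF hi * (g * P⁻¹ * ((fF hi) ^ k)⁻¹)⁻¹ =
      g * P⁻¹ * (((fF hi) ^ k)⁻¹ * (aF hi * (fF hi) ^ k)) * P * g⁻¹ by group, ← hc.eq, inv_mul_cancel_left]
    group

set_option maxHeartbeats 4000000 in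
/-- normal subgroups of the kernel of even order -/
lemma even_top {M : Subgroup (L3 hi hσ hK)} [M.Normal] (h2 : 2 ∣ Nat.card M) : M = ⊤ := by
  have : Fact (Nat.Prime 2) := ⟨Nat.prime_two⟩
  obtain ⟨i, hi'⟩ := exists_prime_orderOf_dvd_card' 2 h2
  have hi2 : ((i : (L3 hi hσ hK)) : ↥(tw σ).fix) * ((i : (L3 hi hσ hK)) : ↥(tw σ).fix) = 1 := by
    have := pow_orderOf_eq_one i
    rw [hi', sq] at this
    exact congrArg Subtype.val (congrArg Subtype.val this)
  have hi1 : ((i : (L3 hi hσ hK)) : ↥(tw σ).fix) ≠ 1 := fun e => by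
    rw [show i = 1 from Subtype.ext (Subtype.ext e), orderOf_one] at hi'
    omega
  set M' := M.map (L3 hi hσ hK).subtype with hM'
  have hnorm : ∀ l ∈ (L3 hi hσ hK), ∀ x ∈ M', l * x * l⁻¹ ∈ M' := by
    rintro l hl _ ⟨m, hm, rfl⟩
    exact ⟨⟨l, hl⟩ * m * ⟨l, hl⟩⁻¹, Subgroup.Normal.conj_mem inferInstance m hm _, rfl⟩
  have hinv : ∀ x : ↥(tw σ).fix, x * x = 1 → x ∈ M' := by
    intro x hx
    rcases eq_or_ne x 1 with rfl | hx1
    · exact one_mem _
    obtain ⟨l, hl, rfl⟩ := (invol_conj hi hσ hK) hx hx1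
    obtain ⟨l', hl', e⟩ := (invol_conj hi hσ hK) hi2 hi1
    have ha : aF hi ∈ M' := by
      have := hnorm _ (inv_mem hl') _ ⟨(i : (L3 hi hσ hK)), i.2, rfl⟩
      rwa [show l'⁻¹ * (L3 hi hσ hK).subtype (i : (L3 hi hσ hK)) * l'⁻¹⁻¹ = aF hi by
        rw [Subgroup.coe_subtype, e]; group] at this
    exact hnorm l hl _ ha
  have hcomm : ∀ x : ↥(tw σ).fix, aF hi * x * (aF hi)⁻¹ * x⁻¹ ∈ M' := by
    intro x
    rw [show aF hi * x * (aF hi)⁻¹ * x⁻¹ = aF hi * (x * (aF hi)⁻¹ * x⁻¹) by group]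
    refine mul_mem (hinv _ (aF_sq hi)) (hinv _ ?_)
    rw [show x * (aF hi)⁻¹ * x⁻¹ * (x * (aF hi)⁻¹ * x⁻¹) = x * (aF hi * aF hi)⁻¹ * x⁻¹ by group,
      aF_sq]
    group
  have hU : ∀ w ∈ (UF (σ := σ)), (phi hi hσ hK) w = 1 → w ∈ M' := by
    have hc : ∀ t u v, ∃ a b, aF hi * uq hi t u v * (aF hi)⁻¹ * (uq hi t u v)⁻¹ = uq hi t a b ∧
        (t = 0 → a = 0 ∧ b = v) := by
      intro t u v
      obtain ⟨s, a, b, h⟩ := (mem_UF_iff hi).1 (inv_mem ((uq_mem hi hσ hK) t u v))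
      have e := mul_inv_cancel (uq hi t u v)
      rw [← h, uq_eq, ← uq_zero hi] at e
      obtain ⟨e1, e2, e3⟩ := uq_inj'' hi e
      rw [← h, ← (hq_neg hi hσ hK), hq_conj, uq_eq, lam_neg_one, mu_neg_one]
      rw [show -1 * t + s = t by linear_combination e1 - t * three (K := K)]
      refine ⟨_, _, rfl, fun ht => ?_⟩
      subst ht
      have hs : s = 0 := by simpa using e1
      subst hs
      simp only [map_zero, ne_eq, OfNat.ofNat_ne_zero, not_false_eq_true, zero_pow, zero_mul, mul_zero,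
        sub_zero, add_zero] at e2 e3 ⊢
      constructor
      · linear_combination e2
      · simp only [Units.val_neg, Units.val_one]
        linear_combination e3 - v * three (K := K)
    intro w hw hphi
    obtain ⟨t, u, v, rfl⟩ := (mem_UF_iff hi).1 hw
    obtain ⟨a, b, hab, -⟩ := hc t 0 0
    have hrm : uq hi t a b ∈ M' := hab ▸ hcomm _
    have hr : (phi hi hσ hK) (uq hi t a b) = 1 := by
      obtain ⟨m, -, e⟩ := hrm
      rw [← e]; exact m.2
    obtain ⟨s, p, r, h⟩ := (mem_UF_iff hi).1 (mul_mem (inv_mem ((uq_mem hi hσ hK) t a b)) ((uq_mem hi hσ hK) t u v))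
    have e := congrArg (uq hi t a b * ·) h
    simp only [mul_inv_cancel_left, uq_eq] at e
    have hs : s = 0 := by linear_combination (uq_inj'' hi e).1
    subst hs
    have hp : p = 0 := by
      have := congrArg (phi hi hσ hK) h
      rw [map_mul, map_inv, hr, hphi, inv_one, one_mul, (phi_uq hi hσ hK)] at this
      have h' : 2 * (p - (0 : K) ^ 2) = 0 := by simpa using congrArg Multiplicative.toAdd this
      linear_combination -h' + p * three (K := K)
    subst hp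
    obtain ⟨a', b', hab', h0⟩ := hc 0 0 r
    obtain ⟨rfl, rfl⟩ := h0 rfl
    rw [show uq hi t u v = uq hi t a b * uq hi 0 0 b' by rw [h, mul_inv_cancel_left]]
    exact mul_mem hrm (hab' ▸ hcomm _)
  refine eq_top_iff.2 fun g _ => ?_
  suffices h : (g : ↥(tw σ).fix) ∈ M' by
    obtain ⟨m, hm, e⟩ := h
    exact (Subtype.ext e : m = g) ▸ hm
  have hg : (phi hi hσ hK) (g : ↥(tw σ).fix) = 1 := g.2
  have hn2 : (nq : ↥(tw σ).fix) * nq = 1 := Subtype.ext (nJ_sq (σ := σ))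
  have hh : ∀ {z : GL chevG2.Idx K} (hz : z ∈ chevG2.diagonalSubgroup K ⊓ (tw σ).fix),
      (⟨z, hz.2⟩ : ↥(tw σ).fix) = 1 ∨ (⟨z, hz.2⟩ : ↥(tw σ).fix) = aF hi := fun {z} hz => by
    obtain ⟨y, hy⟩ := (mem_HF_iff hi).1 (mem_HF.2 hz : (⟨z, hz.2⟩ : ↥(tw σ).fix) ∈ (HF (σ := σ)))
    rcases (units3 hi hσ hK) y with rfl | rfl
    · exact Or.inl (by rw [← hy, map_one])
    · exact Or.inr (by rw [← hy, (hq_neg hi hσ hK)])
  rcases cells hi (g : ↥(tw σ).fix).2 with ⟨u, hu, t, ht, e⟩ | ⟨u, hu, t, ht, v, hv, e⟩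
  · have e' : (g : ↥(tw σ).fix) = ⟨u, hu.2⟩ * ⟨t, ht.2⟩ := Subtype.ext e
    have ht2 : (⟨t, ht.2⟩ : ↥(tw σ).fix) * ⟨t, ht.2⟩ = 1 := by
      rcases hh ht with h | h <;> rw [h]
      · rw [one_mul]
      · exact aF_sq hi
    rw [e'] at hg ⊢
    rw [map_mul, (phi_invol hi hσ hK) ht2, mul_one] at hg
    exact mul_mem (hU _ (mem_UF.2 hu) hg) (hinv _ ht2)
  · have e' : (g : ↥(tw σ).fix) = ⟨u, hu.2⟩ * (nq * ⟨t, ht.2⟩) * (⟨u, hu.2⟩ : ↥(tw σ).fix)⁻¹ * (⟨u, hu.2⟩ * ⟨v, hv.2⟩) :=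
      Subtype.ext (by simp only [Subgroup.coe_mul, Subgroup.coe_inv]; rw [e]; show _ = _ * ((tw σ).nJ 0 * _) * _ * _; group)
    have hnt : (nq * ⟨t, ht.2⟩ : ↥(tw σ).fix) * (nq * ⟨t, ht.2⟩) = 1 := by
      rcases hh ht with h | h <;> rw [h]
      · rw [mul_one]; exact hn2
      · have hswap : (nq : ↥(tw σ).fix) * aF hi = aF hi * nq := Subtype.ext aR_nJ.symm
        rw [show (nq : ↥(tw σ).fix) * aF hi * (nq * aF hi) = nq * (aF hi * nq) * aF hi by group, ← hswap,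
          show (nq : ↥(tw σ).fix) * (nq * aF hi) * aF hi = nq * nq * (aF hi * aF hi) by group, hn2, aF_sq, one_mul]
    have hi' : (⟨u, hu.2⟩ : ↥(tw σ).fix) * (nq * ⟨t, ht.2⟩) * (⟨u, hu.2⟩ : ↥(tw σ).fix)⁻¹ *
        (⟨u, hu.2⟩ * (nq * ⟨t, ht.2⟩) * (⟨u, hu.2⟩ : ↥(tw σ).fix)⁻¹) = 1 := by
      rw [show (⟨u, hu.2⟩ : ↥(tw σ).fix) * (nq * ⟨t, ht.2⟩) * (⟨u, hu.2⟩ : ↥(tw σ).fix)⁻¹ *
        (⟨u, hu.2⟩ * (nq * ⟨t, ht.2⟩) * (⟨u, hu.2⟩ : ↥(tw σ).fix)⁻¹) =
        ⟨u, hu.2⟩ * ((nq * ⟨t, ht.2⟩) * (nq * ⟨t, ht.2⟩)) * (⟨u, hu.2⟩ : ↥(tw σ).fix)⁻¹ by group, hnt]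
      group
    rw [e'] at hg ⊢
    rw [map_mul, (phi_invol hi hσ hK) hi', one_mul] at hg
    exact mul_mem (hinv _ hi') (hU _ (mul_mem (mem_UF.2 hu) (mem_UF.2 hv)) hg)

lemma card_NU : ¬ 4 ∣ Nat.card (Subgroup.normalizer ((UF (σ := σ)) : Set ↥(tw σ).fix)) ∧
    ¬ 7 ∣ Nat.card (Subgroup.normalizer ((UF (σ := σ)) : Set ↥(tw σ).fix)) := by
  set N := Subgroup.normalizer ((UF (σ := σ)) : Set ↥(tw σ).fix)
  have hle : Nat.card N ≤ 54 := by
    obtain ⟨⟨w, hw⟩, hw1⟩ : ∃ w : UF (σ := σ), w ≠ 1 := by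
      haveI : Nontrivial (UF (σ := σ)) := by
        rw [← Finite.one_lt_card_iff_nontrivial, (card_U hi hσ hK)]; norm_num
      exact exists_ne 1
    have hf : ∀ g : N, ∃ p : ↥(UF (σ := σ)) × Kˣ, (g : ↥(tw σ).fix) = p.1 * hq hi p.2 := fun g => by
      obtain ⟨u, hu, y, e⟩ := (norm_form hi hσ hK) hw (fun e => hw1 (Subtype.ext e))
        ((Subgroup.mem_normalizer_iff.1 g.2 w).1 hw)
      exact ⟨(⟨u, hu⟩, y), e⟩
    choose F hF using hf
    have := Nat.card_le_card_of_injective F fun g g' e => Subtype.ext (by rw [hF, hF, e])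
    rw [Nat.card_prod, (card_U hi hσ hK), Nat.card_units, Nat.card_eq_fintype_card (α := K), hK] at this
    simpa using this
  have hd : 27 ∣ Nat.card N := (card_U hi hσ hK) ▸ Subgroup.card_dvd_of_le Subgroup.le_normalizer
  have hpos : 0 < Nat.card N := Nat.card_pos
  constructor <;> omega

lemma simple_L3 : IsSimpleGroup (L3 hi hσ hK) := by
  have : Fact (Nat.Prime 2) := ⟨Nat.prime_two⟩
  have : Fact (Nat.Prime 3) := ⟨Nat.prime_three⟩
  haveI : Nontrivial (L3 hi hσ hK) := by rw [← Finite.one_lt_card_iff_nontrivial, (card_L3 hi hσ hK)]; norm_num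
  constructor
  intro M hM
  by_contra hne
  push Not at hne
  obtain ⟨hbot, htop⟩ := hne
  have h2 : ¬ 2 ∣ Nat.card M := fun h => htop ((even_top hi hσ hK) h)
  have hMd : Nat.card M ∣ 63 := by
    have h := Subgroup.card_subgroup_dvd_card M
    rw [(card_L3 hi hσ hK)] at h
    exact (Nat.Coprime.pow_right 3 ((Nat.prime_two.coprime_iff_not_dvd.2 h2).symm)).dvd_of_dvd_mul_left
      (show Nat.card M ∣ 2 ^ 3 * 63 from h)
  by_cases h3 : 3 ∣ Nat.card M
  · obtain ⟨Q⟩ := Sylow.nonempty (p := 3) (G := M)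
    have hfr := Sylow.normalizer_sup_eq_top Q
    set N := Subgroup.normalizer (((Q : Subgroup M).map M.subtype : Subgroup (L3 hi hσ hK)) : Set (L3 hi hσ hK))
    have hd : M.index ∣ Nat.card N := by
      have : N.map (QuotientGroup.mk' M) = ⊤ := by
        have h := congrArg (Subgroup.map (QuotientGroup.mk' M)) hfr
        rwa [Subgroup.map_sup, (QuotientGroup.map_mk'_self M), sup_bot_eq,
          Subgroup.map_top_of_surjective _ (QuotientGroup.mk'_surjective M)] at h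
      rw [Subgroup.index_eq_card, ← Subgroup.card_top (G := (L3 hi hσ hK) ⧸ M), ← this]
      exact Subgroup.card_map_dvd _ _
    have h8 : 8 ∣ Nat.card N := by
      refine dvd_trans ?_ hd
      have h := M.card_mul_index
      rw [(card_L3 hi hσ hK)] at h
      refine (Nat.Coprime.pow_left 3 (Nat.prime_two.coprime_iff_not_dvd.2 h2)).dvd_of_dvd_mul_left
        (show 2 ^ 3 ∣ Nat.card M * M.index from ?_)
      rw [h]; norm_num
    -- inside a conjugate of the normaliser of the unipotent group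
    have hQ0 : (Q : Subgroup M) ≠ ⊥ := Q.ne_bot_of_dvd_card h3
    set Q' := ((Q : Subgroup M).map M.subtype).map (L3 hi hσ hK).subtype with hQ'
    have hQp : IsPGroup 3 Q' := (Q.2.map _).map _
    obtain ⟨R, hR⟩ := hQp.exists_le_sylow
    obtain ⟨c, rfl⟩ := MulAction.exists_smul_eq ↥(tw σ).fix (Sylow.ofCard (UF (σ := σ))
      (by rw [(card_U hi hσ hK), (card_G3 hi hσ hK), show (1512 : ℕ) = 3 ^ 3 * 56 by norm_num,
        Nat.factorization_mul (by norm_num) (by norm_num), Finsupp.add_apply,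
        Nat.prime_three.factorization_pow, Finsupp.single_eq_same,
        Nat.factorization_eq_zero_of_not_dvd (by norm_num)]; norm_num)) R
    rw [Sylow.coe_subgroup_smul, Sylow.coe_ofCard] at hR
    obtain ⟨⟨q, hqm⟩, hq1⟩ : ∃ q : (Q : Subgroup M), q ≠ 1 := by
      haveI := (Subgroup.nontrivial_iff_ne_bot _).2 hQ0
      exact exists_ne 1
    have hconj : ∀ x, x ∈ Q' → c⁻¹ * x * c ∈ (UF (σ := σ)) := fun x hx => by
      obtain ⟨w, hw, e⟩ := hR hx
      have e' : c * w * c⁻¹ = x := e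
      rw [← e', show c⁻¹ * (c * w * c⁻¹) * c = w by group]
      exact hw
    let F : N → Subgroup.normalizer ((UF (σ := σ)) : Set ↥(tw σ).fix) := fun n =>
      ⟨c⁻¹ * ((n : (L3 hi hσ hK)) : ↥(tw σ).fix) * c, by
        set g := c⁻¹ * ((n : (L3 hi hσ hK)) : ↥(tw σ).fix) * c with hg
        have hqQ : ((q : (L3 hi hσ hK)) : ↥(tw σ).fix) ∈ Q' := ⟨(q : (L3 hi hσ hK)), ⟨q, hqm, rfl⟩, rfl⟩
        have hnq : ((n : (L3 hi hσ hK)) : ↥(tw σ).fix) * ((q : (L3 hi hσ hK)) : ↥(tw σ).fix) * ((n : (L3 hi hσ hK)) : ↥(tw σ).fix)⁻¹ ∈ Q' :=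
          ⟨(n : (L3 hi hσ hK)) * (q : (L3 hi hσ hK)) * (n : (L3 hi hσ hK))⁻¹, (Subgroup.mem_normalizer_iff.1 n.2 _).1 ⟨q, hqm, rfl⟩, rfl⟩
        have hgw : g * (c⁻¹ * ((q : (L3 hi hσ hK)) : ↥(tw σ).fix) * c) * g⁻¹ ∈ (UF (σ := σ)) := by
          have := hconj _ hnq
          rwa [show g * (c⁻¹ * ((q : (L3 hi hσ hK)) : ↥(tw σ).fix) * c) * g⁻¹ =
            c⁻¹ * (((n : (L3 hi hσ hK)) : ↥(tw σ).fix) * ((q : (L3 hi hσ hK)) : ↥(tw σ).fix) * ((n : (L3 hi hσ hK)) : ↥(tw σ).fix)⁻¹) * c by rw [hg]; group]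
        obtain ⟨u, hu, y, e⟩ := (norm_form hi hσ hK) (hconj _ hqQ) (fun e => hq1 (by
          have : ((q : (L3 hi hσ hK)) : ↥(tw σ).fix) = 1 := by
            have h := congrArg (fun z => c * z * c⁻¹) e
            simpa [mul_assoc] using h
          exact Subtype.ext (Subtype.ext (Subtype.ext this)))) hgw
        rw [e]
        refine mul_mem (Subgroup.le_normalizer hu) (Subgroup.mem_normalizer_iff.2 fun z => ?_)
        have hUH : ∀ y : Kˣ, ∀ z ∈ (UF (σ := σ)), hq hi y * z * (hq hi y)⁻¹ ∈ (UF (σ := σ)) := by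
          intro y z hz
          obtain ⟨a, b, d, rfl⟩ := (mem_UF_iff hi).1 hz
          rw [hq_conj]; exact (uq_mem hi hσ hK) _ _ _
        refine ⟨hUH y z, fun hz => ?_⟩
        have := hUH y⁻¹ _ hz
        simpa [mul_assoc] using this⟩
    let F' : N →* Subgroup.normalizer ((UF (σ := σ)) : Set ↥(tw σ).fix) := MonoidHom.mk' F fun a b =>
      Subtype.ext (by simp [F, mul_assoc])
    have hFi : Function.Injective F' := fun a b e => by
      have := congrArg Subtype.val e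
      exact Subtype.ext (Subtype.ext (by simpa [F', F] using this))
    exact (card_NU hi hσ hK).1 (dvd_trans (dvd_trans (show 4 ∣ 8 by norm_num) h8)
      (Subgroup.card_dvd_of_injective F' hFi))
  · have h7 : Nat.card M = 7 := by
      have h9 : Nat.card M ∣ 7 := (Nat.Coprime.pow_right 2
        (Nat.prime_three.coprime_iff_not_dvd.2 h3).symm).dvd_of_dvd_mul_left
        (show Nat.card M ∣ 3 ^ 2 * 7 from hMd)
      exact ((Nat.dvd_prime (by norm_num)).1 h9).resolve_left fun h => hbot (Subgroup.eq_bot_of_card_eq _ h)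
    set UL := (UF (σ := σ)).subgroupOf (L3 hi hσ hK)
    have hUL : 9 ≤ Nat.card UL := by
      have h := ((phi hi hσ hK).comp (UF (σ := σ)).subtype).ker.card_mul_index
      rw [Subgroup.index_ker, (card_U hi hσ hK)] at h
      have hr : Nat.card ((phi hi hσ hK).comp (UF (σ := σ)).subtype).range ≤ 3 :=
        (Subgroup.card_le_card_group _).trans (card_mult hK).le
      have he : Nat.card ((phi hi hσ hK).comp (UF (σ := σ)).subtype).ker = Nat.card UL :=
        Nat.card_congr ⟨fun x => ⟨⟨x.1, x.2⟩, x.1.2⟩, fun x => ⟨⟨x.1, x.2⟩, x.1.2⟩, fun _ => rfl, fun _ => rfl⟩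
      rw [← he]
      nlinarith
    haveI hcyc : IsCyclic M := isCyclic_of_prime_card (p := 7) (hp := ⟨by norm_num⟩) h7
    have haut : Nat.card (MulAut M) = 6 := by
      rw [IsCyclic.card_mulAut, h7, Nat.totient_prime (by norm_num)]
    let A : UL →* MulAut M := MulAut.conjNormal.comp UL.subtype
    obtain ⟨k, hk, hk1⟩ : ∃ k, A k = 1 ∧ k ≠ 1 := by
      by_contra hA
      push Not at hA
      have := Nat.card_le_card_of_injective A ((injective_iff_map_eq_one A).2 hA)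
      omega
    haveI : Nontrivial M := by rw [← Finite.one_lt_card_iff_nontrivial, h7]; norm_num
    obtain ⟨d, hd⟩ := exists_ne (1 : M)
    have hcom : ((d : (L3 hi hσ hK)) : ↥(tw σ).fix) * ((k : (L3 hi hσ hK)) : ↥(tw σ).fix) * ((d : (L3 hi hσ hK)) : ↥(tw σ).fix)⁻¹ = ((k : (L3 hi hσ hK)) : ↥(tw σ).fix) := by
      have h := congrArg Subtype.val (DFunLike.congr_fun hk d)
      change ((MulAut.conjNormal (k : (L3 hi hσ hK)) d : M) : (L3 hi hσ hK)) = (d : (L3 hi hσ hK)) at h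
      rw [MulAut.conjNormal_apply, mul_inv_eq_iff_eq_mul] at h
      rw [mul_inv_eq_iff_eq_mul]
      exact (congrArg Subtype.val h).symm
    have hkU : ((k : (L3 hi hσ hK)) : ↥(tw σ).fix) ∈ (UF (σ := σ)) := Subgroup.mem_subgroupOf.1 k.2
    obtain ⟨u, hu, y, e⟩ := (norm_form hi hσ hK) hkU (fun e => hk1 (Subtype.ext (Subtype.ext e))) (hcom.symm ▸ hkU)
    have hmem : ((d : (L3 hi hσ hK)) : ↥(tw σ).fix) ∈ Subgroup.normalizer ((UF (σ := σ)) : Set ↥(tw σ).fix) := by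
      refine Subgroup.mem_normalizer_iff.2 fun z => ⟨fun hz => mem_UF.2 ?_, fun hz => mem_UF.2 ?_⟩
      · exact U_ti hi ((d : (L3 hi hσ hK)) : ↥(tw σ).fix).2 (mem_UF.1 hkU) (fun e => hk1 (Subtype.ext (Subtype.ext (Subtype.ext e))))
          (mem_UF.1 (hcom.symm ▸ hkU)) (mem_UF.1 hz)
      · have hk' : ((d : (L3 hi hσ hK)) : ↥(tw σ).fix)⁻¹ * ((k : (L3 hi hσ hK)) : ↥(tw σ).fix) * ((d : (L3 hi hσ hK)) : ↥(tw σ).fix)⁻¹⁻¹ = ((k : (L3 hi hσ hK)) : ↥(tw σ).fix) := by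
          conv_lhs => rw [← hcom]
          group
        have := U_ti hi (inv_mem ((d : (L3 hi hσ hK)) : ↥(tw σ).fix).2) (mem_UF.1 hkU)
          (fun e => hk1 (Subtype.ext (Subtype.ext (Subtype.ext e))))
          (mem_UF.1 (hk'.symm ▸ hkU)) (mem_UF.1 hz)
        simpa [mul_assoc] using this
    have ho : orderOf ((d : (L3 hi hσ hK)) : ↥(tw σ).fix) = 7 := by
      rw [Subgroup.orderOf_coe, Subgroup.orderOf_coe]
      exact ((Nat.dvd_prime (by norm_num)).1 (h7 ▸ orderOf_dvd_natCard d)).resolve_left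
        fun h => hd (orderOf_eq_one_iff.1 h)
    have := orderOf_dvd_natCard (⟨_, hmem⟩ : Subgroup.normalizer ((UF (σ := σ)) : Set ↥(tw σ).fix))
    rw [Subgroup.orderOf_mk, ho] at this
    exact (card_NU hi hσ hK).2 this

lemma commutator_eq : commutator ↥(tw σ).fix = (L3 hi hσ hK) := by
  refine le_antisymm (Abelianization.commutator_subset_ker (phi hi hσ hK)) ?_
  haveI := (simple_L3 hi hσ hK)
  rcases (inferInstance : (commutator (L3 hi hσ hK)).Normal).eq_bot_or_eq_top with h | h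
  · exfalso
    have hn : ¬ IsMulCommutative (L3 hi hσ hK) := Small.Order504.not_comm (card_L3 hi hσ hK)
    refine hn ⟨⟨fun a b => ?_⟩⟩
    have hm : ⁅a, b⁆ ∈ commutator (L3 hi hσ hK) :=
      Subgroup.commutator_mem_commutator (Subgroup.mem_top a) (Subgroup.mem_top b)
    rw [h, Subgroup.mem_bot] at hm
    exact commutatorElement_eq_one_iff_mul_comm.1 hm
  · intro x hx
    have hm : (L3 hi hσ hK).subtype ⟨x, hx⟩ ∈ (commutator (L3 hi hσ hK)).map (L3 hi hσ hK).subtype := by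
      rw [h]; exact ⟨_, Subgroup.mem_top _, rfl⟩
    rw [Subgroup.map_subtype_commutator] at hm
    exact Subgroup.commutator_mono le_top le_top hm

omit hi hσ hK in
/-- the derived group is the linear group over the field with eight elements -/
theorem derived_iso {L : Type*} [Field L] [Fintype L] (hL : Fintype.card L = 8) :
    Nat.card ↥(commutator ↥(twistedG2 (ZMod 3) 1)) = 504 ∧
      Nonempty (↥(commutator ↥(twistedG2 (ZMod 3) 1)) ≃* Matrix.ProjectiveSpecialLinearGroup (Fin 2) L) := by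
  obtain ⟨hc, h4, σ, hσ', hi⟩ := exists_sigma (K := ZMod 3) (m := 0) (ZMod.card 3)
  rw [show (1 : ℕ) = 3 ^ 0 from rfl, twisted_eq_fix hσ' hi h4]
  have hσ : ∀ x, σ x = x := fun x => by rw [hσ', pow_zero, pow_one]
  rw [commutator_eq hi hσ (ZMod.card 3)]
  haveI := simple_L3 hi hσ (ZMod.card 3)
  exact ⟨card_L3 hi hσ (ZMod.card 3), Small.Order504.iso_psl (card_L3 hi hσ (ZMod.card 3)) hL⟩

end CfsgLib.Chev.G22.Three
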